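import Cfsg.Agent.Rudvalis.Gens

/-!
Checks of the second generating matrix.
-/

set_option autoImplicit false
set_option maxRecDepth 100000
set_option maxHeartbeats 0

namespace CfsgLib.Rudvalis

theorem codesBOK : codesOK matB codesB = true ∧ codesOK matBInv codesBInv = true := by decide +kernel

theorem spanB : spanOK matB = true := by decide +kernel

theorem spanInvB : spanOK matBInv = true := by decide +kernel

theorem transB : transOK matB matBInv = true := by decide +kernel

theorem unitB : unitOK matB = true := by decide +kernel

theorem encRowsB : encOK matB encB = true := by decide +kernel

theorem tableB0 : tableFor encB 2 0 = true := by decide +kernel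

theorem tableB1 : tableFor encB 2 1 = true := by decide +kernel

theorem tableB2 : tableFor encB 2 2 = true := by decide +kernel

theorem tableB3 : tableFor encB 2 3 = true := by decide +kernel

theorem tableB4 : tableFor encB 2 4 = true := by decide +kernel

theorem tableB5 : tableFor encB 2 5 = true := by decide +kernel

theorem tableB6 : tableFor encB 2 6 = true := by decide +kernel

theorem tableB7 : tableFor encB 2 7 = true := by decide +kernel

theorem tableB8 : tableFor encB 2 8 = true := by decide +kernel

theorem tableB9 : tableFor encB 2 9 = true := by decide +kernel

theorem tableB10 : tableFor encB 2 10 = true := by decide +kernel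

theorem tableB11 : tableFor encB 2 11 = true := by decide +kernel

theorem tableB12 : tableFor encB 2 12 = true := by decide +kernel

theorem tableB13 : tableFor encB 2 13 = true := by decide +kernel

theorem tableB14 : tableFor encB 2 14 = true := by decide +kernel

theorem tableB15 : tableFor encB 2 15 = true := by decide +kernel

theorem tableB16 : tableFor encB 2 16 = true := by decide +kernel

theorem tableB17 : tableFor encB 2 17 = true := by decide +kernel

theorem tableB18 : tableFor encB 2 18 = true := by decide +kernel

theorem tableB19 : tableFor encB 2 19 = true := by decide +kernel

theorem tableB20 : tableFor encB 2 20 = true := by decide +kernel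

theorem tableB21 : tableFor encB 2 21 = true := by decide +kernel

theorem tableB22 : tableFor encB 2 22 = true := by decide +kernel

theorem tableB23 : tableFor encB 2 23 = true := by decide +kernel

theorem tableB24 : tableFor encB 2 24 = true := by decide +kernel

theorem tableB25 : tableFor encB 2 25 = true := by decide +kernel

theorem tableB26 : tableFor encB 2 26 = true := by decide +kernel

theorem tableB27 : tableFor encB 2 27 = true := by decide +kernel

theorem lin_B : ∀ n < NV, img 2 n < NV ∧ lin matB (vec n) = fun q => 4 * vec (img 2 n) q :=
  lin_vec (gram_of_codes codesBOK.1) unitB encRowsB fun k hk => by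
    interval_cases k
    exacts [tableB0, tableB1, tableB2, tableB3, tableB4, tableB5, tableB6, tableB7, tableB8, tableB9, tableB10, tableB11, tableB12, tableB13, tableB14, tableB15, tableB16, tableB17, tableB18, tableB19, tableB20, tableB21, tableB22, tableB23, tableB24, tableB25, tableB26, tableB27]

theorem autoB : autoOK matB matBInv = true := by
  simp [autoOK, gram_of_codes codesBOK.1, gram_of_codes codesBOK.2, spanB, spanInvB, transB, unitB]

end CfsgLib.Rudvalis
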