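import Cfsg.Agent.Rudvalis.CheckA
import Cfsg.Agent.Rudvalis.CheckB
import Cfsg.Agent.Rudvalis.ChainData

/-!
Every vector of the table lies in the span; the inverse tables.
-/

set_option autoImplicit false
set_option maxRecDepth 100000

open Finset

namespace CfsgLib.Rudvalis

open CfsgLib.RuLattice

/-- The transversal words of a level. -/
def transAt : ℕ → List (List (List ℕ))
  | 0 => transParts0
  | 1 => transParts1
  | 2 => transParts2
  | 3 => transParts3
  | 4 => transParts4
  | 5 => transParts5
  | _ => []

/-- A transversal word. -/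
def transWord (k i : ℕ) : List ℕ := ((transAt k).getD (i / 500) []).getD (i % 500) []

theorem img_lt_invert : (List.range 4060).all (fun c =>
    Nat.blt (img 1 (4 * c)) NV && Nat.blt (img 3 (4 * c)) NV &&
      Nat.beq (img 0 (img 1 (4 * c))) (4 * c) && Nat.beq (img 2 (img 3 (4 * c))) (4 * c)) = true := by
  decide +kernel

theorem inverse_tables : ∀ n < NV, img 1 n < NV ∧ img 3 n < NV ∧ img 0 (img 1 n) = n ∧ img 2 (img 3 n) = n := by
  have h := img_lt_invert
  simp only [List.all_eq_true, List.mem_range, Bool.and_eq_true, Nat.blt, Nat.ble_eq, Nat.beq_eq] at h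
  intro n hn
  obtain ⟨c, u, hu4, rfl⟩ : ∃ c u, u < 4 ∧ n = 4 * c + u := ⟨n / 4, n % 4, by omega, by omega⟩
  have hc : c < 4060 := by simp only [NV] at hn; omega
  induction u with
  | zero =>
    obtain ⟨⟨⟨a, b⟩, d⟩, e⟩ := h c hc
    exact ⟨a, b, d, e⟩
  | succ u ih =>
    obtain ⟨a, b, d, e⟩ := ih (by omega) (by omega)
    have h1 : imulI (4 * c + u) = 4 * c + (u + 1) := by unfold imulI; omega
    have key : ∀ l x, img l (imulI x) = imulI (img l x) := fun l x => imgT_imul _ _
    rw [← h1, key, key, key, key, d, e]
    exact ⟨imulI_lt a, imulI_lt b, rfl, rfl⟩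

theorem lin_four (M : List (List ℤ)) (x : Z56) : lin M (fun q => 4 * x q) = fun q => 4 * lin M x q := by
  funext q
  simp only [lin, mul_sum]
  exact sum_congr rfl fun p _ => by ring

/-- All four first letters carry the table by their matrices. -/
theorem lin_letters : ∀ l < 4, ∀ n < NV, img l n < NV ∧
    lin ([matA, matAInv, matB, matBInv].getD l []) (vec n) = fun q => 4 * vec (img l n) q := by
  intro l hl n hn
  obtain ⟨h1, h3, e1, e3⟩ := inverse_tables n hn
  have hA : transOK matA matAInv = true := transA
  have hB : transOK matB matBInv = true := transB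
  interval_cases l
  · exact lin_A n hn
  · refine ⟨h1, ?_⟩
    have e := lin_lin (gram_of_codes codesAOK.1) hA (vec (img 1 n))
    rw [(lin_A _ h1).2, e1, lin_four] at e
    show lin matAInv (vec n) = _
    funext q
    have := congrFun e q
    omega
  · exact lin_B n hn
  · refine ⟨h3, ?_⟩
    have e := lin_lin (gram_of_codes codesBOK.1) hB (vec (img 3 n))
    rw [(lin_B _ h3).2, e3, lin_four] at e
    show lin matBInv (vec n) = _
    funext q
    have := congrFun e q
    omega

/-- Each class is reached from the first vector. -/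
def reachOK : Bool :=
  (msOf 0 == (1, 0)) &&
  (List.range 4060).all fun c =>
    (transWord 0 c).all (fun l => Nat.blt l 4) && Nat.beq (act (transWord 0 c) 0 / 4) c

theorem reachOK_true : reachOK = true := by decide +kernel

theorem vec_zero_mem : vec 0 ∈ span4 := by
  have h := reachOK_true
  simp only [reachOK, Bool.and_eq_true, beq_iff_eq] at h
  have e : vec 0 = fun i => 4 * (Pi.single (0 : Fin 56) 1 : Z56) i := by
    funext i
    rw [vec, h.1]
    simp only [val, Pi.single_apply]
    fin_cases i <;> decide
  rw [e]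
  exact four_mem _

theorem vec_mem : ∀ n < NV, vec n ∈ span4 := by
  have h := reachOK_true
  simp only [reachOK, Bool.and_eq_true, List.all_eq_true, List.mem_range, Nat.blt, Nat.ble_eq,
    Nat.beq_eq] at h
  have hletter : ∀ l < 4, ∀ m, m < NV → vec m ∈ span4 → img l m < NV ∧ vec (img l m) ∈ span4 := by
    intro l hl m hm hv
    obtain ⟨h1, h2⟩ := lin_letters l hl m hm
    refine ⟨h1, ?_⟩
    have hM : gramOK ([matA, matAInv, matB, matBInv].getD l []) = true ∧
        spanOK ([matA, matAInv, matB, matBInv].getD l []) = true := by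
      interval_cases l
      exacts [⟨gram_of_codes codesAOK.1, spanA⟩, ⟨gram_of_codes codesAOK.2, spanInvA⟩,
        ⟨gram_of_codes codesBOK.1, spanB⟩, ⟨gram_of_codes codesBOK.2, spanInvB⟩]
    obtain ⟨y, hy, e⟩ := lin_span hM.1 hM.2 hv
    have : y = vec (img l m) := by
      funext q
      have := congrFun (h2.symm.trans e) q
      omega
    exact this ▸ hy
  have hword : ∀ w : List ℕ, (∀ l ∈ w, l < 4) → act w 0 < NV ∧ vec (act w 0) ∈ span4 := by
    intro w
    induction w with
    | nil => intro _; exact ⟨by norm_num [act, NV], vec_zero_mem⟩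
    | cons l w ih =>
      intro hw
      obtain ⟨a, b⟩ := ih fun x hx => hw x (List.mem_cons_of_mem _ hx)
      exact hletter l (hw l List.mem_cons_self) _ a b
  intro n hn
  obtain ⟨hw, he⟩ := h.2 (n / 4) (by simp only [NV] at hn; omega)
  obtain ⟨a, b⟩ := hword _ fun l hl => hw l hl
  have step : ∀ j m, m < NV → vec m ∈ span4 → (imulI^[j]) m < NV ∧ vec ((imulI^[j]) m) ∈ span4 := by
    intro j
    induction j with
    | zero => intro m a b; exact ⟨a, b⟩
    | succ j ih =>
      intro m a b
      rw [Function.iterate_succ_apply]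
      refine ih _ (imulI_lt a) ?_
      rw [vec_imulI a]
      exact opT_mem cert_gI_ok b
  obtain ⟨j, hj⟩ : ∃ j, (imulI^[j]) (act (transWord 0 (n / 4)) 0) = n := by
    generalize act (transWord 0 (n / 4)) 0 = m at he
    have hh : ∀ j, (imulI^[j]) m = 4 * (m / 4) + (m + j) % 4 := by
      intro j
      induction j with
      | zero => simp only [Function.iterate_zero, id]; omega
      | succ j ih => rw [Function.iterate_succ_apply', ih]; unfold imulI; omega
    exact ⟨(n + 4 - m % 4) % 4, by rw [hh]; omega⟩
  exact hj ▸ (step j _ a b).2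

end CfsgLib.Rudvalis
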