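import Cfsg.Agent.Rudvalis.Complete
import Cfsg.Agent.Rudvalis.Reach

/-!
The lattice group acts faithfully on the table of vectors of norm sixteen.
-/

set_option autoImplicit false
set_option maxRecDepth 100000

open Finset

namespace CfsgLib.Rudvalis

open CfsgLib.RuLattice Cfsg Cfsg.Spor

/-- The vectors of the table. -/
abbrev V : Type := Fin NV

/-- A vector of the table in the lattice. -/
def lv (n : V) : ruLattice := toLat (vec n.val) (vec_mem n.val n.2)

theorem flat_lv (n : V) : flat (lv n : RuVec) = vec n.val := flat_toLat _ _

theorem lv_injective : Function.Injective lv := fun n m h =>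
  Fin.ext (vec_injective n.2 m.2 (by rw [← flat_lv, ← flat_lv, h]))

theorem norm_lv (n : V) : ruNorm (lv n : RuVec) = 16 := by
  rw [ruNorm_eq, flat_lv]; exact (table_spec n.2).2.2.1

theorem exists_lv {x : ruLattice} (h : ruNorm (x : RuVec) = 16) : ∃ n : V, lv n = x := by
  obtain ⟨n, hn, e⟩ := complete ((mem_iff _).1 x.2) (by rwa [ruNorm_eq] at h)
  exact ⟨⟨n, hn⟩, lat_ext (by rw [flat_lv, e])⟩

theorem norm_apply (g : fourRu) (x : ruLattice) :
    ruNorm ((g.1 x : ruLattice) : RuVec) = ruNorm (x : RuVec) := g.2.2.2 x

/-- The image of a vector of the table. -/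
noncomputable def moved (g : fourRu) (n : V) : V :=
  (exists_lv (x := g.1 (lv n)) (by rw [norm_apply, norm_lv])).choose

theorem lv_moved (g : fourRu) (n : V) : lv (moved g n) = g.1 (lv n) :=
  (exists_lv (x := g.1 (lv n)) (by rw [norm_apply, norm_lv])).choose_spec

theorem moved_one (n : V) : moved 1 n = n := lv_injective (by rw [lv_moved]; rfl)

theorem moved_mul (g h : fourRu) (n : V) : moved (g * h) n = moved g (moved h n) :=
  lv_injective (by rw [lv_moved, lv_moved, lv_moved]; rfl)

/-- The action on the table. -/
noncomputable def permHom : fourRu →* Equiv.Perm V where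
  toFun g :=
    { toFun := moved g
      invFun := moved g⁻¹
      left_inv := fun n => by rw [← moved_mul, inv_mul_cancel, moved_one]
      right_inv := fun n => by rw [← moved_mul, mul_inv_cancel, moved_one] }
  map_one' := Equiv.ext moved_one
  map_mul' g h := Equiv.ext (moved_mul g h)

theorem permHom_apply (g : fourRu) (n : V) : permHom g n = moved g n := rfl

/-- An index times the unit. -/
def vImul (n : V) : V := ⟨imulI n.val, imulI_lt n.2⟩

theorem lv_vImul (n : V) : lv (vImul n) = ruI (lv n) := by
  refine lat_ext ?_
  rw [flat_lv]
  show vec (imulI n.val) = flat (gI • (lv n : RuVec))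
  rw [vec_imulI n.2, flat_gI, flat_lv]

theorem moved_imul (g : fourRu) (n : V) : moved g (vImul n) = vImul (moved g n) :=
  lv_injective (by rw [lv_moved, lv_vImul, lv_vImul, lv_moved, g.2.2.1])

/-- The product of two table vectors as one number. -/
def ipI (n m : ℕ) : ℕ :=
  forceN (msOf n).1 fun a => forceN (msOf n).2 fun a' => forceN (msOf m).1 fun b => forceN (msOf m).2 fun b' =>
  forceN (imulMS (b, b')).1 fun c => forceN (imulMS (b, b')).2 fun c' =>
    (64 * (dotMS (a, a') (b, b') + 16) + (dotMS (a, a') (c, c') + 16)).toNat

theorem msOf_imulI {m : ℕ} (hm : m < NV) : msOf (imulI m) = imulMS (msOf m) := by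
  simp only [NV] at hm
  have h1 : imulI m / 4 = m / 4 := by unfold imulI; omega
  rw [msOf, msOf, h1]
  by_cases h3 : m % 4 = 3
  · rw [show imulI m % 4 = 0 by unfold imulI; omega, h3]
    exact (beq_iff_eq.1 (List.all_eq_true.1 cycleOK_true (m / 4) (List.mem_range.2 (by omega)))).symm
  · rw [show imulI m % 4 = m % 4 + 1 by unfold imulI; omega]
    rfl

theorem ipI_eq (n m : ℕ) (hm : m < NV) : ipI n m =
    (64 * (dot (vec n) (vec m) + 16) + (dot (vec n) (opT tab_gI (vec m)) + 16)).toNat := by
  simp only [ipI, forceN_eq, Prod.mk.eta]
  rw [← vec_imulI hm, ← dot_val, ← dot_val, vec, vec, vec, msOf_imulI hm]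

theorem dot_moved (g : fourRu) (n m : V) :
    dot (vec (moved g n).val) (vec (moved g m).val) = dot (vec n.val) (vec m.val) := by
  have key : ∀ x y : ruLattice, 2 * dot (flat (x : RuVec)) (flat (y : RuVec)) =
      ruNorm ((x + y : ruLattice) : RuVec) - ruNorm (x : RuVec) - ruNorm (y : RuVec) := by
    intro x y
    simp only [ruNorm_eq, AddSubgroup.coe_add, flat_add, Pi.add_apply, dot, mul_sum,
      ← sum_sub_distrib]
    exact sum_congr rfl fun i _ => by ring
  have h1 := key (g.1 (lv n)) (g.1 (lv m))
  rw [← g.2.1, norm_apply, norm_apply, norm_apply, ← key, ← lv_moved, ← lv_moved, flat_lv, flat_lv,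
    flat_lv, flat_lv] at h1
  omega

theorem ipI_moved (g : fourRu) (n m : V) : ipI (moved g n).val (moved g m).val = ipI n.val m.val := by
  have h2 := dot_moved g n (vImul m)
  rw [moved_imul] at h2
  rw [ipI_eq _ _ (moved g m).2, ipI_eq _ _ m.2, ← vec_imulI (moved g m).2, ← vec_imulI m.2, dot_moved]
  exact congrArg _ (congrArg _ (congrArg (· + 16) h2))

/-- The five base points. -/
def basePts : List ℕ := [0, 80, 177, 86, 3506]

/-- The products with the base points as one number. -/
def keyBase (x : ℕ) : ℕ := basePts.foldr (fun b a => forceN a fun a' => 4096 * a' + ipI b x) 0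

/-- The determined vectors and their multiples by the unit. -/
def rankPts : List ℕ := rankIdx ++ rankIdx.map imulI

/-- The vectors as lists. -/
def vecList (n : ℕ) : List ℤ :=
  forceN (msOf n).1 fun a => forceN (msOf n).2 fun b => (List.range 56).map fun q =>
    if a.testBit q then (if b.testBit q then -mulOf a else mulOf a) else 0

/-- A row of the inverse matrix multiplies the vectors to a unit row modulo 1009. -/
def rankRowOK (p : ℕ) : Bool :=
  forceL (combF ((rankInv.getD p []).zip (rankPts.map vecList))) fun w =>
    w.map (· % 1009) == (List.range 56).map fun q => if p == q then 1 else 0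

/-- The listed vectors are determined by their keys. -/
def determinedOK (lo : ℕ) : Bool :=
  (List.range 580).all fun i => forceN (580 * lo + i) fun x => forceN (keyBase x) fun v =>
    (List.range 28).all fun j => !(Nat.beq v (keyBase (rankIdx.getD j 0))) || Nat.beq x (rankIdx.getD j 0)

theorem vecL_vecList (n : ℕ) : vecL (vecList n) = vec n ∧ (vecList n).length = 56 := by
  refine ⟨funext fun q => ?_, by simp [vecList, forceN_eq]⟩
  rw [vecL, List.getD_eq_getElem _ _ (by simp [vecList, forceN_eq])]
  simp [vecList, forceN_eq, vec, val]

theorem rankIdx_lt : rankIdx.all (fun n => Nat.blt n NV) = true := by decide +kernel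

set_option maxHeartbeats 0 in
theorem determined0 : determinedOK 0 = true := by decide +kernel

set_option maxHeartbeats 0 in
theorem determined1 : determinedOK 1 = true := by decide +kernel

set_option maxHeartbeats 0 in
theorem determined2 : determinedOK 2 = true := by decide +kernel

set_option maxHeartbeats 0 in
theorem determined3 : determinedOK 3 = true := by decide +kernel

set_option maxHeartbeats 0 in
theorem determined4 : determinedOK 4 = true := by decide +kernel

set_option maxHeartbeats 0 in
theorem determined5 : determinedOK 5 = true := by decide +kernel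

set_option maxHeartbeats 0 in
theorem determined6 : determinedOK 6 = true := by decide +kernel

set_option maxHeartbeats 0 in
theorem determined7 : determinedOK 7 = true := by decide +kernel

set_option maxHeartbeats 0 in
theorem determined8 : determinedOK 8 = true := by decide +kernel

set_option maxHeartbeats 0 in
theorem determined9 : determinedOK 9 = true := by decide +kernel

set_option maxHeartbeats 0 in
theorem determined10 : determinedOK 10 = true := by decide +kernel

set_option maxHeartbeats 0 in
theorem determined11 : determinedOK 11 = true := by decide +kernel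

set_option maxHeartbeats 0 in
theorem determined12 : determinedOK 12 = true := by decide +kernel

set_option maxHeartbeats 0 in
theorem determined13 : determinedOK 13 = true := by decide +kernel

set_option maxHeartbeats 0 in
theorem determined14 : determinedOK 14 = true := by decide +kernel

set_option maxHeartbeats 0 in
theorem determined15 : determinedOK 15 = true := by decide +kernel

set_option maxHeartbeats 0 in
theorem determined16 : determinedOK 16 = true := by decide +kernel

set_option maxHeartbeats 0 in
theorem determined17 : determinedOK 17 = true := by decide +kernel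

set_option maxHeartbeats 0 in
theorem determined18 : determinedOK 18 = true := by decide +kernel

set_option maxHeartbeats 0 in
theorem determined19 : determinedOK 19 = true := by decide +kernel

set_option maxHeartbeats 0 in
theorem determined20 : determinedOK 20 = true := by decide +kernel

set_option maxHeartbeats 0 in
theorem determined21 : determinedOK 21 = true := by decide +kernel

set_option maxHeartbeats 0 in
theorem determined22 : determinedOK 22 = true := by decide +kernel

set_option maxHeartbeats 0 in
theorem determined23 : determinedOK 23 = true := by decide +kernel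

set_option maxHeartbeats 0 in
theorem determined24 : determinedOK 24 = true := by decide +kernel

set_option maxHeartbeats 0 in
theorem determined25 : determinedOK 25 = true := by decide +kernel

set_option maxHeartbeats 0 in
theorem determined26 : determinedOK 26 = true := by decide +kernel

set_option maxHeartbeats 0 in
theorem determined27 : determinedOK 27 = true := by decide +kernel

theorem determinedOK_all : ∀ lo < 28, determinedOK lo = true := by
  intro lo h
  interval_cases lo
  exacts [determined0, determined1, determined2, determined3, determined4, determined5, determined6, determined7, determined8, determined9, determined10, determined11, determined12, determined13, determined14, determined15, determined16, determined17, determined18, determined19, determined20, determined21, determined22, determined23, determined24, determined25, determined26, determined27]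

set_option maxHeartbeats 0 in
theorem rankRows : ∀ p < 56, rankRowOK p = true := by decide +kernel

theorem rankPts_ok : rankPts.length = 56 ∧ rankPts.all (fun n => Nat.blt n NV) = true ∧
    (rankInv.length = 56 ∧ rankInv.all (fun r => r.length == 56) = true) := by decide +kernel

theorem keyBase_moved {g : fourRu} (h : ∀ b ∈ basePts, ∀ hb : b < NV, moved g ⟨b, hb⟩ = ⟨b, hb⟩) (n : V) :
    keyBase (moved g n).val = keyBase n.val := by
  refine List.foldr_ext _ _ _ fun b hb a => ?_
  have hlt : b < NV := by
    have : ∀ b ∈ basePts, b < NV := by decide +kernel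
    exact this b hb
  have := ipI_moved g ⟨b, hlt⟩ n
  rw [h b hb hlt] at this
  simp only [forceN_eq]
  rw [this]

/-- An element fixing the five base points is trivial. -/
theorem eq_one_of_fixed {g : fourRu} (h : ∀ b ∈ basePts, ∀ hb : b < NV, moved g ⟨b, hb⟩ = ⟨b, hb⟩) :
    g = 1 := by
  obtain ⟨hlen, hlt, hIlen, hI56⟩ := rankPts_ok
  simp only [List.all_eq_true, Nat.blt, Nat.ble_eq, beq_iff_eq] at hlt hI56
  have hr := rankIdx_lt
  simp only [List.all_eq_true, Nat.blt, Nat.ble_eq] at hr
  have hu : ∀ x < NV, ∀ j < 28, (keyBase x).beq (keyBase (rankIdx.getD j 0)) = false ∨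
      x = rankIdx.getD j 0 := by
    intro x hx
    have hd := determinedOK_all (x / 580) (by simp only [NV] at hx; omega)
    simp only [determinedOK, List.all_eq_true, List.mem_range, forceN_eq, Bool.or_eq_true,
      Bool.not_eq_true', Nat.beq_eq] at hd
    have := hd (x % 580) (Nat.mod_lt _ (by norm_num))
    rwa [Nat.div_add_mod] at this
  have hidx : ∀ n ∈ rankIdx, ∀ hn : n < NV, moved g ⟨n, hn⟩ = ⟨n, hn⟩ := by
    intro n hmem hn
    obtain ⟨j, hj, rfl⟩ := List.mem_iff_getElem.1 hmem
    have h28 : rankIdx.length = 28 := by decide +kernel
    have := hu (moved g ⟨rankIdx[j], hn⟩).val (moved g ⟨rankIdx[j], hn⟩).2 j (h28 ▸ hj)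
    rw [List.getD_eq_getElem _ _ hj] at this
    rcases this with e | e
    · rw [keyBase_moved h] at e
      simp at e
    · exact Fin.ext e
  have hfix : ∀ n ∈ rankPts, ∀ hn : n < NV, moved g ⟨n, hn⟩ = ⟨n, hn⟩ := by
    intro n hmem hn
    rcases List.mem_append.1 hmem with hm0 | hm0
    · exact hidx n hm0 hn
    · obtain ⟨m, hm, rfl⟩ := List.mem_map.1 hm0
      have hm' : m < NV := hr m hm
      have := moved_imul g ⟨m, hm'⟩
      rw [hidx m hm hm'] at this
      exact this
  -- the images of the scaled coordinate vectors
  let E : Fin 56 → ruLattice := fun p => toLat (fun i => 4 * (Pi.single p 1 : Z56) i) (four_mem _)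
  let Wd : Fin 56 → Z56 := fun p q => flat ((g.1 (E p) : ruLattice) : RuVec) q - 4 * (Pi.single p 1 : Z56) q
  have hbound : ∀ p q, -1009 < Wd p q ∧ Wd p q < 1009 := by
    intro p q
    have hn : ∑ i, flat ((g.1 (E p) : ruLattice) : RuVec) i * flat ((g.1 (E p) : ruLattice) : RuVec) i = 16 := by
      rw [← ruNorm_eq, norm_apply, ruNorm_eq, flat_toLat]
      simp [Pi.single_apply]
    have h1 := hn ▸ single_le_sum (f := fun i => flat ((g.1 (E p) : ruLattice) : RuVec) i *
      flat ((g.1 (E p) : ruLattice) : RuVec) i) (fun j _ => mul_self_nonneg _) (mem_univ q)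
    have h2 : (Pi.single p 1 : Z56) q = 0 ∨ (Pi.single p 1 : Z56) q = 1 := by
      rw [Pi.single_apply]; split_ifs <;> simp
    simp only [Wd]
    rcases h2 with e | e <;> rw [e] <;> constructor <;> nlinarith
  let ψ : ruLattice →+ Z56 :=
    AddMonoidHom.mk' (fun x => flat ((g.1 x : ruLattice) : RuVec) - flat (x : RuVec)) fun x y => by
      rw [g.2.1, AddSubgroup.coe_add, AddSubgroup.coe_add, flat_add, flat_add]; abel
  have hψ : ∀ x : ruLattice, (4 : ℤ) • ψ x = ∑ p, flat (x : RuVec) p • Wd p := by
    intro x
    have e : (4 : ℤ) • x = ∑ p, flat (x : RuVec) p • E p := by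
      refine lat_ext ?_
      show flatHom _ = flatHom _
      simp only [AddSubgroup.coe_zsmul, AddSubgroup.val_finsetSum, map_zsmul, map_sum]
      funext i
      simp only [Finset.sum_apply, Pi.smul_apply, smul_eq_mul]
      show _ = ∑ p, flat (x : RuVec) p * flat (E p : RuVec) i
      simp only [E, flat_toLat, Pi.single_apply]
      simp [mul_comm, flatHom]
    have := congrArg ψ e
    rw [map_zsmul, map_sum] at this
    rw [this]
    refine sum_congr rfl fun p _ => ?_
    rw [map_zsmul]
    congr 1
    funext q
    show flat ((g.1 (E p) : ruLattice) : RuVec) q - flat (E p : RuVec) q = _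
    simp only [E, flat_toLat]
    rfl
  have hkill : ∀ n ∈ rankPts, ∀ q, ∑ p, vec n p * Wd p q = 0 := by
    intro n hn q
    have hlt' := hlt n hn
    have h0 : ψ (lv ⟨n, hlt'⟩) = 0 := by
      show flat ((g.1 (lv ⟨n, hlt'⟩) : ruLattice) : RuVec) - _ = 0
      rw [← lv_moved, hfix n hn hlt', sub_self]
    have := congrFun (hψ (lv ⟨n, hlt'⟩)) q
    rw [h0, flat_lv] at this
    simpa [Finset.sum_apply] using this.symm
  have hW : ∀ r q, Wd r q = 0 := by
    intro r q
    have hrow := rankRows r.val r.2
    simp only [rankRowOK, forceL_eq, beq_iff_eq] at hrow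
    have hC : (rankInv.getD r.val []).length = 56 := by
      rw [List.getD_eq_getElem _ _ (by omega)]; exact hI56 _ (List.getElem_mem _)
    have hlen' : ∀ e ∈ (rankInv.getD r.val []).zip (rankPts.map vecList), e.2.length = 56 := fun e he => by
      obtain ⟨n, -, he'⟩ := List.mem_map.1 (List.of_mem_zip he).2
      rw [← he']
      exact (vecL_vecList n).2
    rw [combF_eq _ hlen'] at hrow
    have hw := (combL_spec _ hlen').1
    set ps := (rankInv.getD r.val []).zip (rankPts.map vecList) with hps
    have hmod : ∀ p : Fin 56, (1009 : ℤ) ∣ vecL (combL ps) p - (if r.val = p.val then 1 else 0) := by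
      intro p
      have e := congrArg (fun l => l.getD p.val 0) hrow
      rw [List.getD_eq_getElem _ _ (by rw [List.length_map, hw]; exact p.2),
        List.getD_eq_getElem _ _ (by simp), List.getElem_map, List.getElem_map, List.getElem_range] at e
      rw [vecL, List.getD_eq_getElem (combL ps) 0 (by rw [hw]; exact p.2)]
      split_ifs at e ⊢ <;> omega
    have hsum : ∑ p, vecL (combL ps) p * Wd p q = 0 := by
      rw [vecL_combL _ hlen']
      have : ∀ l : List (ℤ × List ℤ), (∀ e ∈ l, ∑ p, vecL e.2 p * Wd p q = 0) →
          ∑ p, ((l.map fun e => e.1 • vecL e.2).sum) p * Wd p q = 0 := by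
        intro l
        induction l with
        | nil => intro _; simp
        | cons e l ih =>
          intro hl
          simp only [List.map_cons, List.sum_cons, Pi.add_apply, Pi.smul_apply, smul_eq_mul, add_mul,
            sum_add_distrib, mul_assoc, ← mul_sum, hl e List.mem_cons_self]
          rw [ih fun x hx => hl x (List.mem_cons_of_mem _ hx)]
          simp
      refine this ps fun e he => ?_
      obtain ⟨n, hn, he2⟩ := List.mem_map.1 (List.of_mem_zip he).2
      rw [← he2, (vecL_vecList n).1]
      exact hkill n hn q
    have hdvd : (1009 : ℤ) ∣ Wd r q := by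
      have e : Wd r q = ∑ p, vecL (combL ps) p * Wd p q -
          ∑ p, (vecL (combL ps) p - if r.val = p.val then 1 else 0) * Wd p q := by
        simp only [sub_mul, sum_sub_distrib, sub_sub_cancel, ite_mul, one_mul, zero_mul, Fin.val_inj,
          sum_ite_eq, mem_univ, if_true]
      rw [e, hsum, zero_sub]
      exact (dvd_sum fun p _ => dvd_mul_of_dvd_left (hmod p) _).neg_right
    have := hbound r q
    omega
  refine Subtype.ext (Equiv.ext fun x => lat_ext ?_)
  have h0 : ψ x = 0 := by
    funext q
    have := congrFun (hψ x) q
    simp [Finset.sum_apply, hW] at this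
    exact this
  exact sub_eq_zero.1 h0

theorem permHom_injective : Function.Injective permHom := by
  rw [injective_iff_map_eq_one]
  intro g hg
  exact eq_one_of_fixed fun b _ hb => Equiv.ext_iff.1 hg ⟨b, hb⟩

end CfsgLib.Rudvalis
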