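import Cfsg.Agent.RuLattice.Root

/-!
Vectors with entries of one absolute value, coded by a support word and a sign word.
-/

set_option autoImplicit false
set_option maxRecDepth 100000

open Finset

namespace CfsgLib.Rudvalis

open CfsgLib.RuLattice

/-- Bit counts of bytes, four bits each. -/
def popTable : ℕ := 0x8776766576656554766565546554544376656554655454436554544354434332766565546554544365545443544343326554544354434332544343324332322176656554655454436554544354434332655454435443433254434332433232216554544354434332544343324332322154434332433232214332322132212110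

/-- The bit count of a byte. -/
def pop8 (b : ℕ) : ℕ := Nat.land (Nat.shiftRight popTable (Nat.mul 4 b)) 15

/-- The bit count of a word of `n` bytes. -/
def popBytes : ℕ → ℕ → ℕ
  | 0, _ => 0
  | n + 1, a => pop8 (a &&& 255) + popBytes n (a >>> 8)

/-- The bit count of a 56-bit word. -/
def pop (a : ℕ) : ℕ :=
  Nat.add (pop8 (Nat.land a 255)) (Nat.add (pop8 (Nat.land (Nat.shiftRight a 8) 255))
    (Nat.add (pop8 (Nat.land (Nat.shiftRight a 16) 255)) (Nat.add (pop8 (Nat.land (Nat.shiftRight a 24) 255))
      (Nat.add (pop8 (Nat.land (Nat.shiftRight a 32) 255)) (Nat.add (pop8 (Nat.land (Nat.shiftRight a 40) 255))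
        (pop8 (Nat.land (Nat.shiftRight a 48) 255)))))))

theorem pop8_eq : ∀ b < 256, pop8 b = popTo 8 b := by decide +kernel

theorem popTo_add (k : ℕ) : ∀ n a, popTo (k + n) a = popTo k a + popTo n (a >>> k) := by
  intro n a
  induction n with
  | zero => simp [popTo]
  | succ n ih =>
    rw [← Nat.add_assoc, popTo, popTo, ih, Nat.testBit_shiftRight]
    omega

theorem popTo_congr : ∀ n a b, (∀ i < n, a.testBit i = b.testBit i) → popTo n a = popTo n b := by
  intro n a b h
  induction n with
  | zero => rfl
  | succ n ih =>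
    rw [popTo, popTo, ih fun i hi => h i (by omega), h n (by omega)]

theorem pop_eq (a : ℕ) : pop a = popTo 56 a := by
  have key : ∀ n a, popBytes n a = popTo (8 * n) a := by
    intro n
    induction n with
    | zero => intro a; rfl
    | succ n ih =>
      intro a
      rw [popBytes, ih, show 8 * (n + 1) = 8 + 8 * n by ring, popTo_add,
        pop8_eq _ (lt_of_le_of_lt Nat.and_le_right (by norm_num))]
      congr 1
      refine popTo_congr 8 _ _ fun i hi => ?_
      rw [Nat.testBit_and, show 255 = 2 ^ 8 - 1 from rfl, Nat.testBit_two_pow_sub_one]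
      simp [hi]
  rw [← key 7 a]
  simp only [pop, popBytes, ← Nat.shiftRight_add, add_zero]
  rfl

theorem pop_sum (a : ℕ) : (pop a : ℤ) = ∑ p : Fin 56, if a.testBit p.val then 1 else 0 := by
  rw [pop_eq, popTo_eq, card_filter, Nat.cast_sum, Finset.sum_range]
  exact sum_congr rfl fun p _ => by split_ifs <;> rfl

theorem pop_mono {a b : ℕ} (h : ∀ i < 56, a.testBit i = true → b.testBit i = true) : pop a ≤ pop b := by
  simp only [pop_eq, popTo_eq]
  refine card_le_card fun i hi => ?_
  simp only [mem_filter, mem_range] at hi ⊢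
  exact ⟨hi.1, h i hi.1 hi.2⟩

/-- The parity of the common bits. -/
def par (a : ℕ) : Bool := pop a % 2 == 1

theorem par_xor (a b : ℕ) : par (a ^^^ b) = (par a ^^ par b) := by
  have h : ((pop (a ^^^ b) : ℕ) : ZMod 2) = (pop a : ZMod 2) + (pop b : ZMod 2) := by
    have hc : ∀ a, ((pop a : ℕ) : ZMod 2) = ∑ p : Fin 56, if a.testBit p.val then 1 else 0 := fun a => by
      rw [pop_eq, popTo_eq, card_filter, Nat.cast_sum, Finset.sum_range]
      exact sum_congr rfl fun p _ => by split_ifs <;> rfl
    rw [hc, hc, hc, ← sum_add_distrib]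
    refine sum_congr rfl fun p _ => ?_
    rw [Nat.testBit_xor]
    cases a.testBit p.val <;> cases b.testBit p.val <;> decide
  rw [← Nat.cast_add, ZMod.natCast_eq_natCast_iff'] at h
  simp only [par]
  rw [h, Nat.add_mod]
  rcases Nat.mod_two_eq_zero_or_one (pop a) with x | x <;>
    rcases Nat.mod_two_eq_zero_or_one (pop b) with y | y <;> simp [x, y]

/-- The scale of a code. -/
def mulOf (m : ℕ) : ℤ := if m &&& (m - 1) == 0 then 4 else 1

/-- The vector of a code. -/
def val (m s : ℕ) : Z56 := fun p =>
  if m.testBit p.val then (if s.testBit p.val then -mulOf m else mulOf m) else 0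

/-- The inner product of two codes. -/
def dotMS (a b : ℕ × ℕ) : ℤ :=
  mulOf a.1 * mulOf b.1 *
    ((pop (a.1 &&& b.1) : ℤ) - 2 * (pop ((a.1 &&& b.1) &&& (a.2 ^^^ b.2)) : ℤ))

theorem dot_val (a b : ℕ × ℕ) : dot (val a.1 a.2) (val b.1 b.2) = dotMS a b := by
  rw [dot, dotMS, pop_sum, pop_sum, mul_sum, ← sum_sub_distrib, mul_sum]
  refine sum_congr rfl fun p _ => ?_
  simp only [val, Nat.testBit_and, Nat.testBit_xor]
  cases a.1.testBit p.val <;> cases b.1.testBit p.val <;> cases a.2.testBit p.val <;>
    cases b.2.testBit p.val <;> simp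

/-- The even positions. -/
def evenBits : ℕ := 0x55555555555555

theorem testBit_even : ∀ p < 56, evenBits.testBit p = decide (p % 2 = 0) := by decide +kernel

theorem testBit_even_ge {p : ℕ} (h : 56 ≤ p) : evenBits.testBit p = false :=
  Nat.testBit_lt_two_pow (lt_of_lt_of_le (by norm_num [evenBits] : evenBits < 2 ^ 56)
    (Nat.pow_le_pow_right (by norm_num) h))

/-- The code of a vector times the unit. -/
def imulMS (a : ℕ × ℕ) : ℕ × ℕ :=
  (((a.1 &&& evenBits) <<< 1) ||| ((a.1 >>> 1) &&& evenBits),
    ((a.2 &&& evenBits) <<< 1) ||| (((a.2 >>> 1) ^^^ (a.1 >>> 1)) &&& evenBits))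

theorem testBit_imul (a : ℕ × ℕ) {p : ℕ} (hp : p < 56) :
    (imulMS a).1.testBit p = (if p % 2 = 0 then a.1.testBit (p + 1) else a.1.testBit (p - 1)) ∧
    (imulMS a).2.testBit p =
      (if p % 2 = 0 then (a.2.testBit (p + 1) ^^ a.1.testBit (p + 1)) else a.2.testBit (p - 1)) := by
  simp only [imulMS, Nat.testBit_or, Nat.testBit_shiftLeft, Nat.testBit_and, Nat.testBit_shiftRight,
    Nat.testBit_xor, testBit_even p hp]
  by_cases h : p % 2 = 0
  · have h1 : ¬ (1 ≤ p ∧ (p - 1) % 2 = 0) := fun ⟨_, _⟩ => by omega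
    by_cases h0 : 1 ≤ p
    · have h2 : evenBits.testBit (p - 1) = false := by
        rw [testBit_even _ (by omega)]; simp; omega
      simp [h, h2, Nat.add_comm 1 p]
    · simp [show p = 0 by omega]
  · have h2 : evenBits.testBit (p - 1) = true := by
      rw [testBit_even _ (by omega)]; simp; omega
    simp [h, h2, show 1 ≤ p by omega]

end CfsgLib.Rudvalis
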