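import Cfsg.Agent.Rudvalis.Lattice
import Cfsg.Agent.Rudvalis.Bits

/-!
Lattice automorphisms from integral matrices whose rows are the images of the scaled coordinate vectors.
-/

set_option autoImplicit false
set_option maxRecDepth 100000

open Finset

namespace CfsgLib.Rudvalis

open CfsgLib.RuLattice Cfsg Cfsg.Spor

/-- An entry. -/
def entry (M : List (List ℤ)) (p q : Fin 56) : ℤ := (M.getD p.val []).getD q.val 0

/-- The linear map of a matrix. -/
def lin (M : List (List ℤ)) (v : Z56) : Z56 := fun q => ∑ p, v p * entry M p q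

theorem lin_add (M : List (List ℤ)) (v w : Z56) : lin M (v + w) = lin M v + lin M w := by
  funext q; simp [lin, add_mul, sum_add_distrib]

/-- The product of two rows is the prescribed one. -/
def gramOK (M : List (List ℤ)) : Bool :=
  M.length == 56 && M.all (fun r => r.length == 56) &&
    (List.range 56).all fun p => (List.range 56).all fun q =>
      dotL (M.getD p []) (M.getD q []) == if p == q then 16 else 0

/-- A row combination. -/
def rowImage (M : List (List ℤ)) (r : List ℤ) : List ℤ := combL (r.zip M)

/-- Evaluation of an integer before substitution. -/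
def forceZ {α : Type} (x : ℤ) (k : ℤ → α) : α :=
  match x with
  | Int.ofNat 0 => k 0
  | Int.ofNat (n + 1) => k (Int.ofNat (n + 1))
  | Int.negSucc 0 => k (-1)
  | Int.negSucc (n + 1) => k (Int.negSucc (n + 1))

theorem forceZ_eq {α : Type} : ∀ (x : ℤ) (k : ℤ → α), forceZ x k = k x
  | Int.ofNat 0, _ => rfl
  | Int.ofNat (_ + 1), _ => rfl
  | Int.negSucc 0, _ => rfl
  | Int.negSucc (_ + 1), _ => rfl

/-- Evaluation of a list before substitution. -/
def forceL {α : Type} : List ℤ → (List ℤ → α) → α
  | [], k => k []
  | a :: l, k => forceZ a fun z => forceL l fun t => k (z :: t)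

theorem forceL_eq {α : Type} : ∀ (l : List ℤ) (k : List ℤ → α), forceL l k = k l
  | [], _ => rfl
  | a :: l, k => by rw [forceL, forceZ_eq, forceL_eq l]

/-- A list of residues as one number, four bits each. -/
def pkR : List ℕ → ℕ
  | [] => 0
  | x :: l => x + 16 * pkR l

/-- The low two bits of each slot. -/
def slotMask : ℕ → ℕ
  | 0 => 0
  | n + 1 => 3 + 16 * slotMask n

/-- The residues of an integer list. -/
def resL (l : List ℤ) : List ℕ := l.map fun x => (x % 4).toNat

/-- Packed residues with their pivot and multiplier, for reduction. -/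
def packedRows : List (ℕ × ℕ × ℕ) :=
  rows.map fun r =>
    let j := r.findIdx fun x => !(x % 4 == 0)
    (pkR (resL r), j, (r.getD j 0 % 4).toNat)

/-- The multiple of a row to add. -/
def addCoef (a r : ℕ) : ℕ := if Nat.beq r 2 then a / 2 else (4 - a) * r % 4

/-- Reduction of packed residues by the rows. -/
def reduceP (mask : ℕ) : List (ℕ × ℕ × ℕ) → ℕ → Bool
  | [], v => Nat.beq v 0
  | e :: es, v =>
    match e with
    | (R, j, r) =>
      match addCoef (Nat.land (Nat.shiftRight v (4 * j)) 3) r with
      | 0 => reduceP mask es v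
      | c + 1 =>
        if Nat.blt c 3 then
          match Nat.land (Nat.add v (Nat.mul (c + 1) R)) mask with
          | 0 => reduceP mask es 0
          | w + 1 => reduceP mask es (w + 1)
        else false

theorem pkR_add : ∀ (c : ℕ) (a b : List ℕ), a.length = b.length →
    pkR a + c * pkR b = pkR (List.zipWith (fun x y => x + c * y) a b)
  | _, [], [], _ => by simp [pkR]
  | c, x :: a, y :: b, h => by
    rw [List.zipWith_cons_cons, pkR, pkR, pkR, ← pkR_add c a b (by simpa using h)]
    ring
  | _, [], _ :: _, h => by simp at h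
  | _, _ :: _, [], h => by simp at h

theorem pkR_mask : ∀ l : List ℕ, (∀ x ∈ l, x < 16) →
    pkR l &&& slotMask l.length = pkR (l.map (· % 4))
  | [], _ => rfl
  | x :: l, h => by
    have hx := h x List.mem_cons_self
    rw [List.map_cons, pkR, pkR, List.length_cons, slotMask,
      ← pkR_mask l fun y hy => h y (List.mem_cons_of_mem _ hy),
      show (16 : ℕ) = 2 ^ 4 by norm_num]
    apply Nat.eq_of_testBit_eq
    intro i
    rw [Nat.add_comm x, Nat.add_comm 3, Nat.add_comm (x % 4), Nat.testBit_and,
      Nat.testBit_two_pow_mul_add _ (by omega : x < 2 ^ 4),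
      Nat.testBit_two_pow_mul_add _ (by norm_num : 3 < 2 ^ 4),
      Nat.testBit_two_pow_mul_add _ (by omega : x % 4 < 2 ^ 4)]
    split_ifs with hi
    · rw [← Nat.testBit_and, show x &&& 3 = x % 4 from Nat.and_two_pow_sub_one_eq_mod x 2]
    · rw [Nat.testBit_and]

theorem pkR_eq_zero : ∀ l : List ℕ, pkR l = 0 → ∀ x ∈ l, x = 0
  | [], _ => by simp
  | x :: l, h => by
    simp only [pkR] at h
    intro y hy
    rcases List.mem_cons.1 hy with rfl | hy
    · omega
    · exact pkR_eq_zero l (by omega) y hy

/-- The residues of a list reduce to zero. -/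
def inSpanOK (r : List ℤ) : Bool := r.length == 56 && reduceP (slotMask 56) packedRows (pkR (resL r))

theorem mem_of_inSpanOK {r : List ℤ} (h : inSpanOK r = true) : vecL r ∈ span4 := by
  simp only [inSpanOK, Bool.and_eq_true, beq_iff_eq] at h
  obtain ⟨hlen, h⟩ := h
  have key : ∀ (es : List (ℕ × ℕ × ℕ)), (∀ e ∈ es, ∃ row ∈ rows, e.1 = pkR (resL row)) →
      ∀ l : List ℕ, l.length = 56 → (∀ x ∈ l, x < 4) → reduceP (slotMask 56) es (pkR l) = true →
      vecL (l.map (Nat.cast : ℕ → ℤ)) ∈ span4 := by
    intro es
    induction es with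
    | nil =>
      intro _ l hl _ hz
      refine mem_of_congr (zero_mem span4) fun i => ?_
      rw [vecL, List.getD_eq_getElem _ _ (by rw [List.length_map, hl]; exact i.2), List.getElem_map,
        pkR_eq_zero l (Nat.eq_of_beq_eq_true hz) _ (List.getElem_mem _)]
      rfl
    | cons e es ih =>
      intro he l hl h4 hz
      obtain ⟨row, hrow, hR⟩ := he e List.mem_cons_self
      have ih' := ih fun x hx => he x (List.mem_cons_of_mem _ hx)
      obtain ⟨R, j, r⟩ := e
      change R = pkR (resL row) at hR
      subst hR
      rw [reduceP] at hz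
      rcases hc : addCoef (Nat.land (Nat.shiftRight (pkR l) (4 * j)) 3) r with _ | c
      · rw [hc] at hz; exact ih' l hl h4 hz
      rw [hc] at hz
      simp only at hz
      split_ifs at hz with hc3
      simp only [Nat.blt, Nat.ble_eq] at hc3
      have hrl : (resL row).length = 56 := by rw [resL, List.length_map]; exact rows_shape.2 row hrow
      set l' := List.zipWith (fun x y => x + (c + 1) * y) l (resL row) with hl'
      have hlt : ∀ x ∈ l', x < 16 := by
        intro x hx
        obtain ⟨n, hn, rfl⟩ := List.mem_iff_getElem.1 hx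
        simp only [hl', List.length_zipWith, hl, hrl] at hn
        simp only [hl', List.getElem_zipWith]
        have h1 := h4 _ (List.getElem_mem (show n < l.length by omega))
        have h2 : (resL row)[n]'(by omega) < 4 := by
          simp only [resL, List.getElem_map]
          omega
        have : (c + 1) * (resL row)[n]'(by omega) ≤ 3 * 3 :=
          Nat.mul_le_mul (by omega) (by omega)
        omega
      have hl56 : l'.length = 56 := by simp [hl', hl, hrl]
      have hv : Nat.land (Nat.add (pkR l) (Nat.mul (c + 1) (pkR (resL row)))) (slotMask 56) =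
          pkR (l'.map (· % 4)) := by
        show (pkR l + (c + 1) * pkR (resL row)) &&& slotMask 56 = _
        rw [pkR_add _ _ _ (hl.trans hrl.symm), ← hl', ← hl56, pkR_mask _ hlt]
      have hz' : reduceP (slotMask 56) es (pkR (l'.map (· % 4))) = true := by
        rw [← hv]
        rcases hw : Nat.land (Nat.add (pkR l) (Nat.mul (c + 1) (pkR (resL row)))) (slotMask 56) with _ | w <;>
          rw [hw] at hz <;> exact hz
      have hm := ih' (l'.map (· % 4)) (by rw [List.length_map, hl56]) (by
        intro x hx
        obtain ⟨y, -, rfl⟩ := List.mem_map.1 hx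
        exact Nat.mod_lt _ (by norm_num)) hz'
      refine mem_of_congr (sub_mem hm (zsmul_mem (vecL_row_mem hrow) ((c : ℤ) + 1))) fun i => ?_
      have hi : i.val < 56 := i.2
      simp only [vecL, Pi.sub_apply, Pi.smul_apply, smul_eq_mul]
      rw [List.getD_eq_getElem _ _ (by rw [List.length_map, hl]; exact hi),
        List.getD_eq_getElem _ _ (by rw [List.length_map, List.length_map, hl56]; exact hi),
        List.getD_eq_getElem row 0 (by rw [rows_shape.2 row hrow]; exact hi), List.getElem_map,
        List.getElem_map, List.getElem_map]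
      simp only [hl', List.getElem_zipWith, resL, List.getElem_map]
      push_cast
      rw [Int.toNat_of_nonneg (Int.emod_nonneg _ (by norm_num))]
      generalize (l[i.val]'(by omega) : ℤ) = a
      generalize row[i.val]'(by rw [rows_shape.2 row hrow]; exact hi) = b
      have e : ((a + ((c : ℤ) + 1) * (b % 4)) % 4 - ((c : ℤ) + 1) * b) % 4 = a % 4 := by
        have e1 : ((c : ℤ) + 1) * (b % 4) = ((c : ℤ) + 1) * b - 4 * (((c : ℤ) + 1) * (b / 4)) := by
          rw [Int.emod_def]; ring
        rw [e1]
        generalize ((c : ℤ) + 1) * b = u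
        generalize ((c : ℤ) + 1) * (b / 4) = w
        omega
      exact e.symm
  have hres : ∀ e ∈ packedRows, ∃ row ∈ rows, e.1 = pkR (resL row) := fun e he => by
    obtain ⟨row, hr, rfl⟩ := List.mem_map.1 he
    exact ⟨row, hr, rfl⟩
  have := key packedRows hres (resL r) (by rw [resL, List.length_map, hlen]) (fun x hx => by
    obtain ⟨y, -, rfl⟩ := List.mem_map.1 hx
    omega) h
  refine mem_of_congr this fun i => ?_
  have hi : i.val < 56 := i.2
  rw [vecL, vecL, List.getD_eq_getElem _ _ (by rw [hlen]; exact hi),
    List.getD_eq_getElem _ _ (by rw [List.length_map, resL, List.length_map, hlen]; exact hi),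
    List.getElem_map]
  simp only [resL, List.getElem_map]
  omega

/-- A combination with evaluation at each step. -/
def combF : List (ℤ × List ℤ) → List ℤ
  | [] => List.replicate 56 0
  | e :: ps => forceL (combF ps) fun w =>
      if e.1 == 0 then w else List.zipWith (fun x a => e.1 * x + a) e.2 w

theorem combF_eq : ∀ ps : List (ℤ × List ℤ), (∀ e ∈ ps, e.2.length = 56) → combF ps = combL ps
  | [], _ => rfl
  | e :: ps, h => by
    have hl := (combL_spec ps fun x hx => h x (List.mem_cons_of_mem _ hx)).1
    rw [combF, combL, forceL_eq, combF_eq ps fun x hx => h x (List.mem_cons_of_mem _ hx)]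
    split_ifs with hc
    · rw [beq_iff_eq] at hc
      exact List.ext_getElem (by rw [List.length_zipWith, h e List.mem_cons_self, hl, Nat.min_self])
        fun n h1 h2 => by simp [hc]
    · rfl

/-- The rows are in the span and the span is carried into four times itself. -/
def spanOK (M : List (List ℤ)) : Bool :=
  M.all inSpanOK &&
    rows.all fun r => forceL (combF (r.zip M)) fun w => w.all (fun x => x % 4 == 0) &&
      forceL (w.map (· / 4)) fun w' => inSpanOK w'

/-- The codes of the rows. -/
def codesOK (M : List (List ℤ)) (C : List (ℕ × ℕ)) : Bool :=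
  M.length == 56 &&
  ((List.range 56).all fun p =>
    (M.getD p [] == (List.range 56).map fun q =>
      if (C.getD p (0, 0)).1.testBit q then
        (if (C.getD p (0, 0)).2.testBit q then -mulOf (C.getD p (0, 0)).1 else mulOf (C.getD p (0, 0)).1)
      else 0)) &&
    (List.range 56).all fun p => (List.range 56).all fun q =>
      dotMS (C.getD p (0, 0)) (C.getD q (0, 0)) == if p == q then 16 else 0

theorem gram_of_codes {M : List (List ℤ)} {C : List (ℕ × ℕ)} (h : codesOK M C = true) :
    gramOK M = true := by
  simp only [codesOK, Bool.and_eq_true, List.all_eq_true, List.mem_range, beq_iff_eq] at h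
  obtain ⟨⟨hl, hv⟩, hd⟩ := h
  have hlen : ∀ p < 56, (M.getD p []).length = 56 := fun p hp => by rw [hv p hp]; simp
  have hvec : ∀ p < 56, vecL (M.getD p []) = val (C.getD p (0, 0)).1 (C.getD p (0, 0)).2 := by
    intro p hp
    funext q
    rw [vecL, hv p hp, List.getD_eq_getElem _ _ (by simp)]
    simp [val]
  simp only [gramOK, Bool.and_eq_true, List.all_eq_true, List.mem_range, beq_iff_eq]
  refine ⟨⟨hl, fun r hr => ?_⟩, fun p hp q hq => ?_⟩
  · obtain ⟨n, hn, rfl⟩ := List.mem_iff_getElem.1 hr
    have := hlen n (hl ▸ hn)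
    rwa [List.getD_eq_getElem _ _ hn] at this
  · rw [← hd p hp q hq, ← dot_vecL (hlen p hp) (hlen q hq), hvec p hp, hvec q hq]
    exact dot_val _ _

/-- The second matrix is the transpose of the first. -/
def transOK (M N : List (List ℤ)) : Bool :=
  (List.range 56).all fun p => (List.range 56).all fun q =>
    (N.getD q []).getD p 0 == (M.getD p []).getD q 0

/-- The matrix commutes with the unit. -/
def unitOK (M : List (List ℤ)) : Bool :=
  (List.range 56).all fun p =>
    opL tab_gI (M.getD p []) ==
      if p % 2 == 0 then M.getD (p + 1) [] else (M.getD (p - 1) []).map fun x => -x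

/-- All checks. -/
def autoOK (M N : List (List ℤ)) : Bool :=
  gramOK M && gramOK N && spanOK M && spanOK N && transOK M N && unitOK M

variable {M N : List (List ℤ)}

theorem row_length (h : gramOK M = true) (p : Fin 56) : (M.getD p.val []).length = 56 := by
  simp only [gramOK, Bool.and_eq_true, beq_iff_eq, List.all_eq_true] at h
  rw [List.getD_eq_getElem _ _ (by rw [h.1.1]; exact p.2)]
  exact h.1.2 _ (List.getElem_mem _)

theorem gram (h : gramOK M = true) (p q : Fin 56) :
    ∑ r, entry M p r * entry M q r = if p = q then 16 else 0 := by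
  have hd := dot_vecL (row_length h p) (row_length h q)
  simp only [gramOK, Bool.and_eq_true, beq_iff_eq, List.all_eq_true, List.mem_range] at h
  have := h.2 p.val p.2 q.val q.2
  rw [← hd] at this
  refine this.trans ?_
  simp [Fin.ext_iff]

theorem dot_lin (h : gramOK M = true) (v w : Z56) : dot (lin M v) (lin M w) = 16 * dot v w := by
  have e : ∀ q, lin M v q * lin M w q =
      ∑ p, ∑ p', v p * w p' * (entry M p q * entry M p' q) := fun q => by
    rw [lin, lin, sum_mul_sum]
    exact sum_congr rfl fun p _ => sum_congr rfl fun p' _ => by ring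
  rw [dot, sum_congr rfl fun q _ => e q, sum_comm, dot, mul_sum]
  refine sum_congr rfl fun p _ => ?_
  rw [sum_comm]
  simp only [← mul_sum, gram h]
  rw [sum_eq_single p (fun b _ hb => by rw [if_neg (Ne.symm hb), mul_zero])
    (fun hn => absurd (mem_univ p) hn), if_pos rfl]
  ring

theorem lin_lin (h : gramOK M = true) (ht : transOK M N = true) (v : Z56) :
    lin N (lin M v) = fun r => 16 * v r := by
  simp only [transOK, List.all_eq_true, List.mem_range, beq_iff_eq] at ht
  funext r
  have e : ∀ q, entry N q r = entry M r q := fun q => ht r.val r.2 q.val q.2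
  simp only [lin, sum_mul, e]
  rw [sum_comm]
  simp only [mul_assoc, ← mul_sum, gram h]
  rw [sum_eq_single r (fun b _ hb => by rw [if_neg hb, mul_zero])
    (fun hn => absurd (mem_univ r) hn), if_pos rfl]
  ring

theorem vecL_combL : ∀ ps : List (ℤ × List ℤ), (∀ e ∈ ps, e.2.length = 56) →
    vecL (combL ps) = (ps.map fun e => e.1 • vecL e.2).sum := by
  intro ps
  induction ps with
  | nil =>
    intro _
    funext i
    rw [vecL, List.getD_eq_getElem _ _ (by simp [combL])]
    simp only [combL, List.getElem_replicate, List.map_nil, List.sum_nil, Pi.zero_apply]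
  | cons e ps ih =>
    intro h
    have h1 := (combL_spec ps fun x hx => h x (List.mem_cons_of_mem _ hx)).1
    have he : e.2.length = 56 := h e List.mem_cons_self
    rw [List.map_cons, List.sum_cons, ← ih fun x hx => h x (List.mem_cons_of_mem _ hx)]
    funext i
    have hi : i.val < 56 := i.2
    simp only [vecL, combL, Pi.add_apply, Pi.smul_apply, smul_eq_mul]
    rw [List.getD_eq_getElem _ _ (by simp [he, h1]), List.getD_eq_getElem _ _ (by omega),
      List.getD_eq_getElem _ _ (by omega), List.getElem_zipWith]

theorem rowImage_eq (h : gramOK M = true) {r : List ℤ} (hr : r.length = 56) :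
    (rowImage M r).length = 56 ∧ vecL (rowImage M r) = lin M (vecL r) := by
  have hl : M.length = 56 := by
    simp only [gramOK, Bool.and_eq_true, beq_iff_eq] at h
    exact h.1.1
  have hlen : ∀ e ∈ r.zip M, e.2.length = 56 := by
    intro e he
    obtain ⟨n, hn, he'⟩ := List.mem_iff_getElem.1 (List.of_mem_zip he).2
    have := row_length h ⟨n, hl ▸ hn⟩
    rwa [List.getD_eq_getElem _ _ hn, he'] at this
  refine ⟨(combL_spec _ hlen).1, ?_⟩
  rw [rowImage, vecL_combL _ hlen]
  have e : (r.zip M).map (fun e => e.1 • vecL e.2) =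
      List.ofFn fun p : Fin 56 => vecL r p • (fun q => entry M p q) := by
    refine List.ext_getElem (by simp [hr, hl]) fun n h1 h2 => ?_
    rw [List.getElem_map, List.getElem_ofFn, List.getElem_zip]
    have hn : n < 56 := by simpa using h2
    funext q
    simp only [Pi.smul_apply, smul_eq_mul, vecL, entry]
    rw [List.getD_eq_getElem r _ (hr.symm ▸ hn), List.getD_eq_getElem M _ (hl.symm ▸ hn)]
  rw [e, List.sum_ofFn]
  funext q
  simp [lin, Finset.sum_apply]

theorem lin_span (hg : gramOK M = true) (hs : spanOK M = true) {v : Z56} (hv : v ∈ span4) :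
    ∃ y ∈ span4, lin M v = fun q => 4 * y q := by
  have hl : M.length = 56 := by
    simp only [gramOK, Bool.and_eq_true, beq_iff_eq] at hg
    exact hg.1.1
  simp only [spanOK, Bool.and_eq_true, List.all_eq_true, beq_iff_eq, forceL_eq] at hs
  obtain ⟨hM₀, hR₀⟩ := hs
  have hlenM : ∀ r ∈ M, r.length = 56 := fun r hr => by
    have := hM₀ r hr
    simp only [inSpanOK, Bool.and_eq_true, beq_iff_eq] at this
    exact this.1
  have hR : ∀ r ∈ rows, (∀ x ∈ rowImage M r, x % 4 = 0) ∧ vecL ((rowImage M r).map (· / 4)) ∈ span4 :=
    fun r hr => by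
      have e := combF_eq (r.zip M) fun e he => hlenM _ (List.of_mem_zip he).2
      obtain ⟨a, b⟩ := hR₀ r hr
      rw [e] at a b
      exact ⟨a, mem_of_inSpanOK b⟩
  have hrow : ∀ k : Fin 40, ∃ y ∈ span4, lin M (row k) = fun q => 4 * y q := by
    intro k
    have hk : rows.getD k.val [] ∈ rows := by
      rw [List.getD_eq_getElem _ _ (by rw [rows_shape.1]; exact k.2)]; exact List.getElem_mem _
    obtain ⟨h1, h2⟩ := hR _ hk
    obtain ⟨hlen, he⟩ := rowImage_eq hg (rows_shape.2 _ hk)
    refine ⟨vecL ((rowImage M (rows.getD k.val [])).map (· / 4)),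
      h2, ?_⟩
    rw [row, ← he]
    funext q
    simp only [vecL]
    rw [List.getD_eq_getElem (rowImage M (rows.getD k.val [])) 0 (by rw [hlen]; exact q.2),
      List.getD_eq_getElem ((rowImage M (rows.getD k.val [])).map (· / 4)) 0
        (by rw [List.length_map, hlen]; exact q.2), List.getElem_map]
    have := h1 _ (List.getElem_mem (l := rowImage M (rows.getD k.val []))
      (n := q.val) (by rw [hlen]; exact q.2))
    omega
  have hMp : ∀ p : Fin 56, (fun q => entry M p q) ∈ span4 := by
    intro p
    have hp : M.getD p.val [] ∈ M := by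
      rw [List.getD_eq_getElem _ _ (by rw [hl]; exact p.2)]; exact List.getElem_mem _
    exact mem_of_inSpanOK (hM₀ _ hp)
  obtain ⟨c, hc⟩ := hv
  choose z hz using hc
  choose y hy he using hrow
  refine ⟨(∑ k, c k • y k) + ∑ p, z p • (fun q => entry M p q),
    add_mem (sum_mem fun k _ => zsmul_mem (hy k) _) (sum_mem fun p _ => zsmul_mem (hMp p) _), ?_⟩
  funext q
  have ev : ∀ p, v p = (∑ k, c k * row k p) + 4 * z p := fun p => by linarith [hz p]
  simp only [lin, ev, add_mul, sum_add_distrib, sum_mul, Pi.add_apply, Finset.sum_apply,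
    Pi.smul_apply, smul_eq_mul, mul_add, mul_sum]
  rw [sum_comm]
  congr 1
  · refine sum_congr rfl fun k _ => ?_
    have := congrFun (he k) q
    simp only [lin] at this
    calc ∑ p, c k * row k p * entry M p q = c k * ∑ p, row k p * entry M p q := by
          rw [mul_sum]; exact sum_congr rfl fun p _ => by ring
      _ = 4 * (c k * y k q) := by rw [this]; ring
  · exact sum_congr rfl fun p _ => by ring

/-- The image of a vector. -/
def quarter (M : List (List ℤ)) (v : Z56) : Z56 := fun q => lin M v q / 4

theorem quarter_spec (hg : gramOK M = true) (hs : spanOK M = true) {v : Z56} (hv : v ∈ span4) :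
    quarter M v ∈ span4 ∧ lin M v = fun q => 4 * quarter M v q := by
  obtain ⟨y, hy, e⟩ := lin_span hg hs hv
  have : quarter M v = y := funext fun q => by rw [quarter, e]; simp
  exact ⟨this ▸ hy, this ▸ e⟩

theorem quarter_add (hg : gramOK M = true) (hs : spanOK M = true) {v w : Z56} (hv : v ∈ span4)
    (hw : w ∈ span4) : quarter M (v + w) = quarter M v + quarter M w := by
  funext q
  have h1 := congrFun (quarter_spec hg hs hv).2 q
  have h2 := congrFun (quarter_spec hg hs hw).2 q
  simp only [quarter, lin_add, Pi.add_apply]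
  simp only [quarter] at h1 h2
  omega

theorem quarter_quarter (hg : gramOK M = true) (hs : spanOK M = true) (hg' : gramOK N = true)
    (hs' : spanOK N = true) (ht : transOK M N = true) {v : Z56} (hv : v ∈ span4) :
    quarter N (quarter M v) = v := by
  obtain ⟨h1, h2⟩ := quarter_spec hg hs hv
  obtain ⟨-, h4⟩ := quarter_spec hg' hs' h1
  funext r
  have e := congrFun (lin_lin hg ht v) r
  have e' : lin N (lin M v) r = 4 * lin N (quarter M v) r := by
    conv_lhs => rw [h2]
    simp only [lin, mul_sum]
    exact sum_congr rfl fun p _ => by ring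
  rw [congrFun h4 r] at e'
  omega

theorem transOK_symm (h : transOK M N = true) : transOK N M = true := by
  simp only [transOK, List.all_eq_true, List.mem_range, beq_iff_eq] at h ⊢
  exact fun p hp q hq => (h q hq p hp).symm

theorem opT_gI_eq (w : Z56) (p : Fin 56) : opT tab_gI w p =
    if p.val % 2 = 0 then -w ⟨(p.val + 1) % 56, Nat.mod_lt _ (by norm_num)⟩
    else w ⟨(p.val - 1) % 56, Nat.mod_lt _ (by norm_num)⟩ := by
  fin_cases p <;> simp [opT, tab_gI]

theorem lin_unit (hg : gramOK M = true) (hu : unitOK M = true) (v : Z56) :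
    lin M (opT tab_gI v) = opT tab_gI (lin M v) := by
  simp only [unitOK, List.all_eq_true, List.mem_range, beq_iff_eq] at hu
  have ht : (tab_gI.length = 56 ∧ ∀ e ∈ tab_gI, e.1 < 56) := tabs_ok 0 (by norm_num)
  let σ : Fin 56 → Fin 56 := fun p =>
    if p.val % 2 = 0 then ⟨(p.val + 1) % 56, Nat.mod_lt _ (by norm_num)⟩
    else ⟨(p.val - 1) % 56, Nat.mod_lt _ (by norm_num)⟩
  have hσ : Function.Involutive σ := fun p => Fin.ext (by
    simp only [σ]
    split_ifs <;> simp only at * <;> omega)
  funext q
  have hrow : ∀ p : Fin 56, opT tab_gI (fun r => entry M p r) q =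
      if p.val % 2 = 0 then entry M (σ p) q else -entry M (σ p) q := by
    intro p
    have e := congrArg (fun l => vecL l q) (hu p.val p.2)
    simp only [vecL_opL ht.1 ht.2] at e
    refine e.trans ?_
    have hpl := row_length hg (σ p)
    by_cases hp : p.val % 2 = 0
    · have hp' : (σ p).val = p.val + 1 := by simp [σ, hp]; omega
      simp [hp, vecL, entry, hp']
    · have hp' : (σ p).val = p.val - 1 := by simp [σ, hp]; omega
      rw [if_neg (by simpa using hp), if_neg hp, vecL, entry, hp']
      rcases h : (M.getD (p.val - 1) [])[q.val]? with _ | x <;>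
        simp [List.getD_eq_getElem?_getD] at h ⊢ <;> simp [h]
  have e2 : opT tab_gI (lin M v) q = ∑ p, v p * opT tab_gI (fun r => entry M p r) q := by
    rw [opT_gI_eq]
    simp only [lin, opT_gI_eq]
    split_ifs with h
    · rw [← sum_neg_distrib]; exact sum_congr rfl fun p _ => by ring
    · rfl
  rw [e2]
  simp only [lin]
  rw [← Equiv.sum_comp hσ.toPerm]
  refine sum_congr rfl fun p _ => ?_
  rw [hrow, opT_gI_eq, Function.Involutive.coe_toPerm]
  by_cases hp : p.val % 2 = 0
  · have hp' : (σ p).val = p.val + 1 := by simp [σ, hp]; omega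
    rw [if_pos hp, if_neg (by omega)]
    congr 2
    exact Fin.ext (by simp [hp'])
  · have hp' : (σ p).val = p.val - 1 := by simp [σ, hp]; omega
    rw [if_neg hp, if_pos (by omega), neg_mul, mul_neg]
    congr 3
    exact Fin.ext (by simp [hp']; omega)

/-- The automorphism of a matrix. -/
def autoPerm (h : autoOK M N = true) : Equiv.Perm ruLattice :=
  have H : gramOK M = true ∧ gramOK N = true ∧ spanOK M = true ∧ spanOK N = true ∧
      transOK M N = true ∧ unitOK M = true := by
    simpa [autoOK, Bool.and_eq_true, and_assoc] using h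
  { toFun := fun v => toLat (quarter M (flat v.1))
      (quarter_spec H.1 H.2.2.1 ((mem_iff _).1 v.2)).1
    invFun := fun v => toLat (quarter N (flat v.1))
      (quarter_spec H.2.1 H.2.2.2.1 ((mem_iff _).1 v.2)).1
    left_inv := fun v => lat_ext (by
      rw [flat_toLat, flat_toLat]
      exact quarter_quarter H.1 H.2.2.1 H.2.1 H.2.2.2.1 H.2.2.2.2.1 ((mem_iff _).1 v.2))
    right_inv := fun v => lat_ext (by
      rw [flat_toLat, flat_toLat]
      exact quarter_quarter H.2.1 H.2.2.2.1 H.1 H.2.2.1 (transOK_symm H.2.2.2.2.1)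
        ((mem_iff _).1 v.2)) }

theorem flat_autoPerm (h : autoOK M N = true) (v : ruLattice) :
    flat ((autoPerm h v : ruLattice) : RuVec) = quarter M (flat (v : RuVec)) := flat_unflat _

theorem autoPerm_mem (h : autoOK M N = true) : autoPerm h ∈ fourRu := by
  have H : gramOK M = true ∧ gramOK N = true ∧ spanOK M = true ∧ spanOK N = true ∧
      transOK M N = true ∧ unitOK M = true := by
    simpa [autoOK, Bool.and_eq_true, and_assoc] using h
  refine ⟨fun v w => lat_ext ?_, fun v => lat_ext ?_, fun v => ?_⟩
  · rw [flat_autoPerm, AddSubgroup.coe_add, AddSubgroup.coe_add, flat_add, flat_add, flat_autoPerm,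
      flat_autoPerm, quarter_add H.1 H.2.2.1 ((mem_iff _).1 v.2) ((mem_iff _).1 w.2)]
  · rw [flat_autoPerm]
    show quarter M (flat (gI • (v : RuVec))) = flat (gI • ((autoPerm h v : ruLattice) : RuVec))
    rw [flat_gI, flat_gI, flat_autoPerm]
    obtain ⟨-, e⟩ := quarter_spec H.1 H.2.2.1 ((mem_iff _).1 v.2)
    funext q
    rw [quarter, lin_unit H.1 H.2.2.2.2.2, e]
    simp only [opT]
    rw [mul_left_comm]
    simp
  · rw [ruNorm_eq, ruNorm_eq, flat_autoPerm]
    obtain ⟨-, e⟩ := quarter_spec H.1 H.2.2.1 ((mem_iff _).1 v.2)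
    have hd := dot_lin H.1 (flat (v : RuVec)) (flat (v : RuVec))
    rw [e] at hd
    simp only [dot] at hd
    have : ∀ x : Z56, ∑ q, 4 * x q * (4 * x q) = 16 * ∑ q, x q * x q := fun x => by
      rw [mul_sum]; exact sum_congr rfl fun q _ => by ring
    rw [this] at hd
    omega

end CfsgLib.Rudvalis
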