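import Cfsg.Agent.Schur.PrimeCert

/-!
The certificate for the part at 2 of the multiplier of the double cover of the Rudvalis group.
-/

set_option autoImplicit false
set_option maxRecDepth 100000

namespace CfsgLib.Rudvalis

/-- The relations between the chosen elements. -/
def rulesTwo : List (List ℕ × List ℕ) := [
     ([0, 0], []), ([0, 1], [1, 0]), ([1, 1], []), ([0, 2], [2, 0]), ([1, 2], [2, 1]), ([2, 2], []),
     ([0, 3], [3, 0]), ([1, 3], [3, 1]), ([2, 3], [3, 2]), ([3, 3], []), ([0, 4], [4, 0]),
     ([1, 4], [4, 1]), ([2, 4], [4, 2]), ([3, 4], [4, 3]), ([4, 4], []), ([0, 5], [5, 0]),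
     ([1, 5], [5, 1]), ([2, 5], [5, 2]), ([3, 5], [5, 3]), ([4, 5], [5, 4]), ([5, 5], [1]),
     ([0, 6], [6, 0]), ([1, 6], [6, 1]), ([2, 6], [6, 2]), ([3, 6], [6, 3]), ([4, 6], [6, 4]),
     ([5, 6], [6, 5, 1]), ([6, 6], []), ([0, 7], [7, 0]), ([1, 7], [7, 1]), ([2, 7], [7, 2]),
     ([3, 7], [7, 3]), ([4, 7], [7, 4]), ([5, 7], [7, 5, 2]), ([6, 7], [7, 6, 1]), ([7, 7], [2, 0]),
     ([0, 8], [8, 0]), ([1, 8], [8, 1]), ([2, 8], [8, 2]), ([3, 8], [8, 3]), ([4, 8], [8, 4]),
     ([5, 8], [8, 5, 3, 2, 1, 0]), ([6, 8], [8, 6, 1]), ([7, 8], [8, 7, 3]), ([8, 8], [3, 2, 1, 0]),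
     ([0, 9], [9, 0]), ([1, 9], [9, 1]), ([2, 9], [9, 2]), ([3, 9], [9, 3]), ([4, 9], [9, 4, 1]),
     ([5, 9], [9, 5, 3, 2, 1, 0]), ([6, 9], [9, 6]), ([7, 9], [9, 7, 1, 0]), ([8, 9], [9, 8, 2, 1, 0]),
     ([9, 9], [3, 2, 1, 0]), ([0, 10], [10, 0]), ([1, 10], [10, 1]), ([2, 10], [10, 2]),
     ([3, 10], [10, 3]), ([4, 10], [10, 4, 2]), ([5, 10], [10, 5, 3, 2, 1, 0]),
     ([6, 10], [10, 6, 3, 1, 0]), ([7, 10], [10, 7, 3, 1, 0]), ([8, 10], [10, 8, 2, 1, 0]),
     ([9, 10], [10, 9, 1, 0]), ([10, 10], []), ([0, 11], [11, 0]), ([1, 11], [11, 1]), ([2, 11], [11, 2]),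
     ([3, 11], [11, 3, 1]), ([4, 11], [11, 4, 3, 0]), ([5, 11], [11, 5, 3, 1]),
     ([6, 11], [11, 6, 3, 2, 1]), ([7, 11], [11, 7, 4, 2, 0]), ([8, 11], [11, 8, 6, 4, 3, 2]),
     ([9, 11], [11, 9, 6, 4]), ([10, 11], [11, 10, 6, 5, 4, 3]), ([11, 11], [9, 8, 6, 2, 0]),
     ([0, 12], [12, 0]), ([1, 12], [12, 1]), ([2, 12], [12, 2]), ([3, 12], [12, 3, 1]),
     ([4, 12], [12, 4, 2]), ([5, 12], [12, 5, 1]), ([6, 12], [12, 6, 3, 0]),
     ([7, 12], [12, 7, 4, 2, 1, 0]), ([8, 12], [12, 8, 6, 4, 3, 0]), ([9, 12], [12, 9, 6, 4, 3, 2, 0]),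
     ([10, 12], [12, 10, 6, 5, 4, 2, 0]), ([11, 12], [12, 11, 9, 8, 6, 5, 2, 0]), ([12, 12], [5, 3, 0]),
     ([0, 13], [13, 0]), ([1, 13], [13, 1]), ([2, 13], [13, 2]), ([3, 13], [13, 3, 2]),
     ([4, 13], [13, 4, 2, 1]), ([5, 13], [13, 5, 4]), ([6, 13], [13, 6, 4, 3, 2, 1, 0]),
     ([7, 13], [13, 7, 4, 3, 1, 0]), ([8, 13], [13, 8, 7, 5, 4, 3, 1]), ([9, 13], [13, 9, 7, 6, 2, 1]),
     ([10, 13], [13, 10, 1, 0]), ([11, 13], [13, 11, 10, 7, 6, 5, 4, 1]),
     ([12, 13], [13, 12, 7, 4, 3, 2, 1, 0]), ([13, 13], [7, 6, 3, 2, 0]), ([0, 14], [14, 0]),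
     ([1, 14], [14, 1]), ([2, 14], [14, 2, 1]), ([3, 14], [14, 3]), ([4, 14], [14, 4, 2, 1]),
     ([5, 14], [14, 5, 4, 3, 2, 1]), ([6, 14], [14, 6, 3, 0]), ([7, 14], [14, 7, 6, 3, 2, 0]),
     ([8, 14], [14, 8, 6, 4, 3, 1, 0]), ([9, 14], [14, 9, 4]), ([10, 14], [14, 10, 9, 8, 7, 4, 2, 1, 0]),
     ([11, 14], [14, 11, 8, 7, 4, 2, 0]), ([12, 14], [14, 12, 9, 8, 7, 5, 1]),
     ([13, 14], [14, 13, 12, 10, 9, 7, 5, 3, 2, 1, 0]), ([14, 14], [9, 8, 7, 4, 2, 0]), ([15], [3, 1]),
     ([16], [3, 2, 1, 0]), ([17], [6, 4, 3, 2, 1]), ([18], [9, 6, 5, 3, 2]), ([19], [9, 8, 6, 5, 2, 1]),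
     ([20], [8, 6, 4, 3, 2, 0]), ([21], [12, 11, 6, 5, 4, 3, 2, 0]), ([22], [8, 4, 1]), ([23], [7, 6, 5]),
     ([24], [14, 10, 8, 2, 1]), ([25], [14, 10, 8, 6, 5, 4, 2]), ([26], [14, 11, 10, 9, 7, 5, 4, 2]),
     ([27], [14, 11, 9, 7, 6, 2]), ([28, 1], [1, 28]), ([28, 15], [2, 1, 28]), ([28, 16], [3, 1, 0, 28]),
     ([28, 17], [4, 2, 0, 28]), ([28, 18], [6, 5, 2, 1, 0, 28]), ([28, 19], [9, 8, 7, 5, 4, 3, 1, 0, 28]),
     ([28, 20], [9, 8, 7, 6, 1, 0, 28]), ([28, 21], [10, 9, 8, 6, 4, 3, 2, 1, 28]),
     ([28, 22], [9, 8, 7, 4, 1, 28]), ([28, 23], [7, 6, 5, 4, 1, 28]),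
     ([28, 24], [12, 10, 8, 7, 4, 2, 1, 0, 28]), ([28, 25], [12, 10, 9, 8, 6, 5, 4, 3, 28]),
     ([28, 26], [14, 12, 11, 10, 9, 8, 6, 5, 4, 3, 2, 0, 28]), ([28, 27], [14, 9, 5, 4, 0, 28]),
     ([1, 15], [15, 1]), ([15, 15], []), ([1, 16], [16, 1]), ([15, 16], [16, 15]), ([16, 16], []),
     ([1, 17], [17, 1]), ([15, 17], [17, 15]), ([16, 17], [17, 16]), ([17, 17], []), ([1, 18], [18, 1]),
     ([15, 18], [18, 15]), ([16, 18], [18, 16]), ([17, 18], [18, 17]), ([18, 18], []), ([1, 19], [19, 1]),
     ([15, 19], [19, 15]), ([16, 19], [19, 16]), ([17, 19], [19, 17, 1]), ([18, 19], [19, 18, 15]),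
     ([19, 19], [16, 15]), ([1, 20], [20, 1]), ([15, 20], [20, 15]), ([16, 20], [20, 16]),
     ([17, 20], [20, 17, 1]), ([18, 20], [20, 18, 15]), ([19, 20], [20, 19, 15, 1]), ([20, 20], [16, 1]),
     ([1, 21], [21, 1]), ([15, 21], [21, 15]), ([16, 21], [21, 16]), ([17, 21], [21, 17, 15]),
     ([18, 21], [21, 18, 15, 1]), ([19, 21], [21, 19, 16, 15]), ([20, 21], [21, 20, 16, 15, 1]),
     ([21, 21], [20, 19, 18, 17, 16, 15, 1]), ([1, 22], [22, 1]), ([15, 22], [22, 15]),
     ([16, 22], [22, 16]), ([17, 22], [22, 17, 1]), ([18, 22], [22, 18, 15, 1]),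
     ([19, 22], [22, 19, 15, 1]), ([20, 22], [22, 20, 1]), ([21, 22], [22, 21]), ([22, 22], [16]),
     ([1, 23], [23, 1]), ([15, 23], [23, 15]), ([16, 23], [23, 16]), ([17, 23], [23, 17]),
     ([18, 23], [23, 18, 15]), ([19, 23], [23, 19, 16]), ([20, 23], [23, 20, 16, 15]),
     ([21, 23], [23, 21]), ([22, 23], [23, 22, 16, 15]), ([23, 23], [20, 19, 18, 17]), ([1, 24], [24, 1]),
     ([15, 24], [24, 15]), ([16, 24], [24, 16, 1]), ([17, 24], [24, 17]), ([18, 24], [24, 18, 15, 1]),
     ([19, 24], [24, 19, 17, 16, 15]), ([20, 24], [24, 20, 17, 16]), ([21, 24], [24, 21, 20, 19, 16, 1]),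
     ([22, 24], [24, 22, 17, 16, 1]), ([23, 24], [24, 23, 20, 19, 18, 1]), ([24, 24], [17]),
     ([1, 25], [25, 1]), ([15, 25], [25, 15]), ([16, 25], [25, 16, 1]), ([17, 25], [25, 17, 1]),
     ([18, 25], [25, 18, 16, 15]), ([19, 25], [25, 19, 17, 16, 15, 1]), ([20, 25], [25, 20, 17, 1]),
     ([21, 25], [25, 21, 20, 19, 1]), ([22, 25], [25, 22, 17, 1]), ([23, 25], [25, 23, 17, 16, 15]),
     ([24, 25], [25, 24, 22, 19, 18, 15, 1]), ([25, 25], [22, 19, 18, 17, 15, 1]), ([1, 26], [26, 1]),
     ([15, 26], [26, 15, 1]), ([16, 26], [26, 16]), ([17, 26], [26, 17, 16, 15, 1]),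
     ([18, 26], [26, 18, 17]), ([19, 26], [26, 19, 17, 16, 15]), ([20, 26], [26, 20, 1]),
     ([21, 26], [26, 21, 19, 18, 16, 15, 1]), ([22, 26], [26, 22, 20, 19, 18, 17, 16]),
     ([23, 26], [26, 23, 22, 19, 18, 17, 15]), ([24, 26], [26, 24, 23, 20]),
     ([25, 26], [26, 25, 23, 22, 17, 1]), ([26, 26], [25, 24, 23, 22, 19, 17, 16, 15, 1]),
     ([1, 27], [27, 1]), ([15, 27], [27, 15, 1]), ([16, 27], [27, 16]), ([17, 27], [27, 17, 15]),
     ([18, 27], [27, 18, 17, 16, 15, 1]), ([19, 27], [27, 19, 17, 15, 1]), ([20, 27], [27, 20, 16, 15]),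
     ([21, 27], [27, 21, 19, 18, 16, 1]), ([22, 27], [27, 22, 1]),
     ([23, 27], [27, 23, 22, 19, 18, 17, 15]), ([24, 27], [27, 24, 18, 17, 16, 15]),
     ([25, 27], [27, 25, 22, 20, 18, 15, 1]), ([26, 27], [27, 26, 25, 24, 23, 19, 17, 16, 15, 1]),
     ([27, 27], [22, 16, 15, 1]), ([29], [2, 0]), ([30], [6, 5, 3, 2, 0]), ([31], [6, 5, 3, 1]),
     ([32], [9, 8, 6, 4, 2, 1]), ([33], [12, 10, 8, 6, 5, 4, 3, 1, 0]), ([34], [12, 10, 9, 6, 3, 0]),
     ([35], [12, 10, 9, 5, 3, 1, 0]), ([36], [12, 8, 7, 6, 3, 1, 0]), ([37], [12, 9, 7, 3, 0]),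
     ([38], [11, 10, 5, 4, 3, 1, 0]), ([39], [13, 12, 11, 9, 8, 7, 5, 4, 2]),
     ([40, 29], [6, 5, 3, 2, 0, 40]), ([40, 30], [6, 5, 3, 0, 40]), ([40, 31], [6, 5, 3, 2, 1, 40]),
     ([40, 32], [10, 7, 5, 2, 0, 40]), ([40, 33], [13, 10, 9, 4, 2, 40]),
     ([40, 34], [13, 9, 7, 5, 4, 2, 40]), ([40, 35], [13, 10, 8, 5, 1, 40]),
     ([40, 36], [12, 10, 9, 5, 3, 2, 0, 40]), ([40, 37], [13, 8, 7, 6, 5, 3, 2, 40]),
     ([40, 38], [11, 10, 6, 1, 40]), ([40, 39], [13, 12, 11, 10, 6, 2, 1, 40]), ([29, 29], []),
     ([29, 30], [30, 29]), ([30, 30], []), ([29, 31], [31, 29]), ([30, 31], [31, 30]), ([31, 31], []),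
     ([29, 32], [32, 29]), ([30, 32], [32, 30]), ([31, 32], [32, 31]), ([32, 32], [31, 30]),
     ([29, 33], [33, 29]), ([30, 33], [33, 30]), ([31, 33], [33, 31]), ([32, 33], [33, 32, 31, 30]),
     ([33, 33], []), ([29, 34], [34, 29]), ([30, 34], [34, 30]), ([31, 34], [34, 31]),
     ([32, 34], [34, 32, 31, 30]), ([33, 34], [34, 33, 31, 30]), ([34, 34], []), ([29, 35], [35, 29]),
     ([30, 35], [35, 30]), ([31, 35], [35, 31]), ([32, 35], [35, 32, 31, 30]), ([33, 35], [35, 33, 29]),
     ([34, 35], [35, 34, 31, 30, 29]), ([35, 35], [31, 30, 29]), ([29, 36], [36, 29]),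
     ([30, 36], [36, 30]), ([31, 36], [36, 31]), ([32, 36], [36, 32, 29]), ([33, 36], [36, 33, 30]),
     ([34, 36], [36, 34, 30, 29]), ([35, 36], [36, 35, 31]), ([36, 36], [34, 33, 32]),
     ([29, 37], [37, 29]), ([30, 37], [37, 30]), ([31, 37], [37, 31]), ([32, 37], [37, 32, 31, 30]),
     ([33, 37], [37, 33, 31]), ([34, 37], [37, 34, 30]), ([35, 37], [37, 35, 31, 29]),
     ([36, 37], [37, 36, 34, 33, 32, 31, 29]), ([37, 37], [31]), ([29, 38], [38, 29]),
     ([30, 38], [38, 30]), ([31, 38], [38, 31]), ([32, 38], [38, 32, 31, 30, 29]),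
     ([33, 38], [38, 33, 32, 31]), ([34, 38], [38, 34, 32, 30, 29]), ([35, 38], [38, 35, 32, 31]),
     ([36, 38], [38, 36, 35, 33, 31, 30, 29]), ([37, 38], [38, 37, 34, 33, 31, 29]),
     ([38, 38], [35, 33, 31]), ([29, 39], [39, 29]), ([30, 39], [39, 30]), ([31, 39], [39, 31]),
     ([32, 39], [39, 32, 30, 29]), ([33, 39], [39, 33, 32, 31, 30]), ([34, 39], [39, 34, 32, 31, 29]),
     ([35, 39], [39, 35, 34, 33, 31, 30, 29]), ([36, 39], [39, 36, 35, 34, 32, 30, 29]),
     ([37, 39], [39, 37, 34, 33, 31, 30, 29]), ([38, 39], [39, 38, 37, 34, 32, 30]),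
     ([39, 39], [37, 35, 34, 33, 32, 30, 29])]

/-- The words rewritten in two ways. -/
def eqsTwo : List (List ℕ × List (ℕ × ℕ × Bool) × List (ℕ × ℕ × Bool)) := [
     ([0, 2, 14], [(1, 107, true), (0, 105, true), (1, 3, true), (2, 1, true)], [(0, 3, true), (1, 105, true), (0, 107, true)]),
     ([2, 2, 14], [(1, 107, true), (0, 107, true), (2, 4, true), (1, 5, true), (1, 2, true)], [(0, 5, true)]),
     ([0, 3, 13], [(1, 94, true), (0, 91, true), (1, 6, true), (2, 3, true)], [(0, 6, true), (1, 91, true), (0, 94, true)]),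
     ([1, 3, 13], [(1, 94, true), (0, 92, true), (1, 7, true), (2, 4, true)], [(0, 7, true), (1, 92, true), (0, 94, true)]),
     ([2, 3, 14], [(1, 108, true), (0, 107, true), (2, 7, true), (1, 8, true)], [(0, 8, true), (1, 107, true), (0, 108, true)]),
     ([3, 3, 13], [(1, 94, true), (0, 94, true), (2, 8, true), (1, 9, true), (1, 5, true)], [(0, 9, true)]),
     ([0, 4, 11], [(1, 70, true), (0, 66, true), (1, 10, true), (2, 6, true), (3, 0, true)], [(0, 10, true), (1, 66, true), (0, 70, true), (3, 0, true)]),
     ([2, 4, 11], [(1, 70, true), (0, 68, true), (1, 12, true), (2, 8, true)], [(0, 12, true), (1, 68, true), (0, 70, true), (3, 3, true)]),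
     ([2, 4, 14], [(1, 109, true), (0, 107, true), (2, 11, true), (1, 12, true), (3, 4, true), (2, 5, true), (2, 2, true)], [(0, 12, true), (1, 107, true), (0, 109, true), (3, 4, true), (2, 5, true), (2, 2, true)]),
     ([3, 4, 13], [(1, 95, true), (0, 94, true), (2, 12, true), (1, 13, true), (3, 5, true)], [(0, 13, true), (1, 94, true), (0, 95, true), (3, 7, true), (2, 8, true), (4, 4, true), (3, 5, true)]),
     ([4, 4, 11], [(1, 70, true), (0, 70, true), (3, 10, true), (2, 13, true), (1, 14, true), (2, 6, true), (1, 9, true), (1, 0, true)], [(0, 14, true)]),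
     ([0, 5, 13], [(1, 96, true), (0, 91, true), (1, 15, true), (2, 10, true)], [(0, 15, true), (1, 91, true), (0, 96, true)]),
     ([2, 5, 14], [(1, 110, true), (0, 107, true), (2, 16, true), (1, 17, true), (3, 11, true), (2, 12, true), (4, 7, true), (3, 8, true), (5, 4, true), (4, 5, true), (4, 2, true)], [(0, 17, true), (1, 107, true), (0, 110, true), (5, 4, true), (4, 5, true), (4, 2, true)]),
     ([3, 5, 13], [(1, 96, true), (0, 94, true), (2, 17, true), (1, 18, true), (3, 12, true), (2, 13, true)], [(0, 18, true), (1, 94, true), (0, 96, true)]),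
     ([3, 5, 14], [(1, 110, true), (0, 108, true), (1, 18, true), (2, 13, true), (3, 9, true)], [(0, 18, true), (1, 108, true), (0, 110, true), (5, 7, true), (4, 8, true), (3, 9, true)]),
     ([4, 5, 11], [(1, 71, true), (0, 70, true), (3, 15, true), (2, 18, true), (1, 19, true), (4, 6, true), (3, 9, true), (3, 1, true)], [(0, 19, true), (1, 70, true), (0, 71, true), (3, 11, true), (2, 13, true), (4, 7, true), (3, 9, true)]),
     ([5, 5, 6], [(1, 26, true), (0, 26, true), (2, 16, true), (1, 20, true), (1, 2, true)], [(0, 20, true), (0, 22, true)]),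
     ([5, 5, 7], [(1, 33, true), (0, 33, true), (2, 17, true), (1, 20, true), (1, 4, true), (2, 4, true), (1, 5, true)], [(0, 20, true), (0, 29, true)]),
     ([5, 5, 8], [(1, 41, true), (0, 41, true), (5, 15, true), (4, 16, true), (3, 17, true), (2, 18, true), (1, 20, true), (1, 7, true), (2, 4, true), (3, 2, true), (3, 6, true), (2, 8, true), (1, 9, true), (2, 3, true), (1, 5, true), (1, 1, true), (2, 0, true)], [(0, 20, true), (0, 37, true)]),
     ([5, 5, 9], [(1, 50, true), (0, 50, true), (5, 15, true), (4, 16, true), (3, 17, true), (2, 18, true), (1, 20, true), (1, 7, true), (2, 4, true), (3, 2, true), (3, 6, true), (2, 8, true), (1, 9, true), (2, 3, true), (1, 5, true), (1, 1, true), (2, 0, true)], [(0, 20, true), (0, 46, true)]),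
     ([5, 5, 10], [(1, 60, true), (0, 60, true), (5, 15, true), (4, 16, true), (3, 17, true), (2, 18, true), (1, 20, true), (1, 7, true), (2, 4, true), (3, 2, true), (3, 6, true), (2, 8, true), (1, 9, true), (2, 3, true), (1, 5, true), (1, 1, true), (2, 0, true)], [(0, 20, true), (0, 56, true)]),
     ([5, 5, 11], [(1, 71, true), (0, 71, true), (3, 16, true), (2, 18, true), (1, 20, true), (1, 7, true), (2, 2, true), (1, 9, true)], [(0, 20, true), (0, 67, true)]),
     ([5, 5, 12], [(1, 83, true), (0, 83, true), (2, 16, true), (1, 20, true), (1, 2, true)], [(0, 20, true), (0, 79, true)]),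
     ([5, 5, 13], [(1, 96, true), (0, 96, true), (2, 19, true), (1, 20, true), (1, 11, true), (2, 11, true), (1, 14, true)], [(0, 20, true), (0, 92, true)]),
     ([5, 5, 14], [(1, 110, true), (0, 110, true), (5, 16, true), (4, 17, true), (3, 18, true), (2, 19, true), (1, 20, true), (1, 11, true), (2, 7, true), (3, 4, true), (4, 2, true), (3, 12, true), (2, 13, true), (1, 14, true), (2, 8, true), (1, 9, true), (1, 5, true)], [(0, 20, true), (0, 106, true)]),
     ([3, 6, 13], [(1, 97, true), (0, 94, true), (2, 23, true), (1, 24, true), (3, 12, true), (2, 13, true), (4, 8, true), (3, 9, true), (3, 5, true)], [(0, 24, true), (1, 94, true), (0, 97, true), (6, 6, true), (5, 7, true), (4, 8, true), (3, 9, true), (5, 3, true), (4, 4, true), (3, 5, true)]),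
     ([4, 6, 11], [(1, 72, true), (0, 70, true), (3, 21, true), (2, 24, true), (1, 25, true), (4, 6, true), (3, 9, true), (3, 3, true), (4, 1, true)], [(0, 25, true), (1, 70, true), (0, 72, true), (4, 11, true), (3, 12, true), (2, 13, true), (5, 7, true), (4, 8, true), (3, 9, true)]),
     ([5, 6, 11], [(1, 72, true), (0, 71, true), (3, 22, true), (2, 24, true), (1, 26, true), (3, 7, true), (4, 2, true), (3, 9, true)], [(0, 26, true), (2, 67, true), (1, 71, true), (0, 72, true), (4, 16, true), (3, 17, true), (2, 18, true), (5, 7, true), (4, 8, true), (3, 9, true), (4, 2, true)]),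
     ([5, 6, 13], [(1, 97, true), (0, 96, true), (2, 25, true), (1, 26, true), (3, 11, true), (4, 11, true), (3, 14, true), (3, 7, true), (4, 4, true), (5, 2, true)], [(0, 26, true), (2, 92, true), (1, 96, true), (0, 97, true), (6, 15, true), (5, 16, true), (4, 17, true), (3, 18, true), (2, 19, true), (7, 10, true), (6, 11, true), (5, 12, true), (4, 13, true), (3, 14, true), (6, 1, true), (5, 2, true)]),
     ([5, 6, 14], [(1, 111, true), (0, 110, true), (5, 22, true), (4, 23, true), (3, 24, true), (2, 25, true), (1, 26, true), (3, 11, true), (4, 7, true), (5, 4, true), (6, 2, true), (5, 8, true), (4, 9, true)], [(0, 26, true), (2, 106, true), (1, 110, true), (0, 111, true), (3, 15, true), (2, 18, true), (4, 10, true), (3, 13, true), (5, 6, true), (4, 9, true), (4, 3, true), (5, 1, true), (6, 1, true), (5, 2, true)]),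
     ([0, 7, 14], [(1, 112, true), (0, 105, true), (1, 28, true), (2, 21, true), (3, 6, true), (4, 3, true), (5, 0, true)], [(0, 28, true), (1, 105, true), (0, 112, true), (5, 0, true)]),
     ([3, 7, 13], [(1, 98, true), (0, 94, true), (2, 30, true), (1, 31, true), (3, 12, true), (2, 13, true), (4, 8, true), (3, 9, true)], [(0, 31, true), (1, 94, true), (0, 98, true), (5, 6, true), (4, 7, true), (3, 9, true), (4, 3, true), (3, 4, true)]),
     ([4, 7, 11], [(1, 73, true), (0, 70, true), (3, 28, true), (2, 31, true), (1, 32, true), (4, 10, true), (3, 13, true), (2, 14, true), (3, 3, true), (4, 0, true)], [(0, 32, true), (1, 70, true), (0, 73, true), (4, 10, true), (3, 12, true), (2, 14, true), (3, 6, true), (2, 8, true), (4, 0, true)]),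
     ([4, 7, 14], [(1, 112, true), (0, 109, true), (3, 29, true), (2, 30, true), (1, 32, true), (4, 22, true), (3, 23, true), (2, 25, true), (5, 7, true), (4, 8, true), (6, 4, true), (5, 5, true)], [(0, 32, true), (1, 109, true), (0, 112, true), (5, 10, true), (4, 12, true), (3, 13, true), (6, 3, true), (5, 5, true), (5, 1, true)]),
     ([5, 7, 7], [(1, 35, true)], [(0, 33, true), (2, 30, true), (1, 33, true), (0, 35, true), (1, 15, true), (0, 17, true), (2, 3, true), (1, 5, true), (1, 3, true)]),
     ([5, 7, 8], [(1, 43, true), (0, 41, true), (5, 28, true), (4, 29, true), (3, 30, true), (2, 31, true), (1, 33, true), (3, 8, true), (4, 5, true), (5, 6, true), (4, 7, true), (3, 9, true)], [(0, 33, true), (2, 38, true), (1, 41, true), (0, 43, true), (2, 18, true), (3, 9, true), (5, 3, true), (4, 4, true), (3, 5, true)]),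
     ([5, 7, 9], [(1, 52, true), (0, 50, true), (5, 28, true), (4, 29, true), (3, 30, true), (2, 31, true), (1, 33, true), (3, 8, true), (4, 5, true), (5, 1, true), (4, 2, true), (4, 0, true)], [(0, 33, true), (2, 47, true), (1, 50, true), (0, 52, true), (3, 15, true), (2, 16, true), (4, 6, true), (3, 7, true), (5, 3, true), (4, 4, true), (6, 1, true), (5, 2, true), (5, 0, true), (4, 5, true)]),
     ([5, 7, 10], [(1, 62, true), (0, 60, true), (5, 28, true), (4, 29, true), (3, 30, true), (2, 31, true), (1, 33, true), (3, 8, true), (4, 5, true), (5, 6, true), (4, 7, true), (3, 9, true), (4, 1, true), (3, 2, true), (3, 0, true)], [(0, 33, true), (2, 57, true), (1, 60, true), (0, 62, true), (4, 15, true), (3, 16, true), (2, 18, true), (5, 6, true), (4, 7, true), (3, 9, true), (4, 3, true), (3, 4, true), (5, 1, true), (4, 2, true), (4, 0, true), (3, 5, true)]),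
     ([5, 7, 11], [(1, 73, true), (0, 71, true), (3, 29, true), (2, 31, true), (1, 33, true), (3, 8, true), (5, 11, true), (4, 12, true), (3, 13, true), (6, 4, true), (5, 5, true)], [(0, 33, true), (2, 68, true), (1, 71, true), (0, 73, true), (4, 15, true), (3, 17, true), (2, 19, true), (5, 6, true), (4, 8, true), (6, 1, true), (7, 3, true), (6, 4, true), (5, 5, true)]),
     ([5, 7, 12], [(1, 85, true), (0, 83, true), (2, 29, true), (1, 33, true), (4, 11, true), (3, 12, true), (5, 4, true), (4, 5, true), (4, 2, true)], [(0, 33, true), (2, 80, true), (1, 83, true), (0, 85, true), (5, 15, true), (4, 16, true), (3, 17, true), (2, 19, true), (6, 1, true), (5, 2, true), (5, 3, true), (4, 5, true)]),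
     ([5, 7, 13], [(1, 98, true), (0, 96, true), (2, 32, true), (1, 33, true), (3, 12, true), (4, 12, true), (3, 14, true), (3, 8, true)], [(0, 33, true), (2, 93, true), (1, 96, true), (0, 98, true), (5, 15, true), (4, 16, true), (3, 18, true), (2, 19, true), (6, 10, true), (5, 11, true), (4, 13, true), (3, 14, true), (5, 3, true), (4, 4, true)]),
     ([5, 7, 14], [(1, 112, true), (0, 110, true), (5, 29, true), (4, 30, true), (3, 31, true), (2, 32, true), (1, 33, true), (3, 12, true), (4, 8, true), (5, 5, true), (5, 22, true), (4, 24, true), (3, 25, true), (2, 26, true), (4, 11, true), (5, 7, true), (6, 2, true), (5, 9, true)], [(0, 33, true), (2, 107, true), (1, 110, true), (0, 112, true), (5, 15, true), (4, 17, true), (3, 18, true), (6, 10, true), (5, 12, true), (4, 13, true), (7, 6, true), (6, 8, true), (5, 9, true), (6, 3, true), (5, 5, true), (5, 1, true), (6, 3, true), (5, 4, true), (7, 1, true), (6, 2, true)]),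
     ([6, 7, 11], [(1, 73, true), (0, 72, true), (4, 29, true), (3, 30, true), (2, 31, true), (1, 34, true), (3, 7, true), (4, 4, true), (5, 2, true), (4, 12, true), (3, 13, true), (5, 5, true)], [(0, 34, true), (2, 67, true), (1, 72, true), (0, 73, true), (4, 21, true), (3, 23, true), (2, 25, true), (5, 6, true), (4, 8, true), (6, 3, true), (5, 5, true), (5, 1, true), (6, 1, true), (5, 2, true)]),
     ([6, 7, 13], [(1, 98, true), (0, 97, true), (6, 28, true), (5, 29, true), (4, 30, true), (3, 31, true), (2, 32, true), (1, 34, true), (3, 11, true), (4, 7, true), (5, 4, true), (6, 2, true), (6, 10, true), (5, 12, true), (4, 13, true), (3, 14, true), (5, 6, true), (4, 8, true), (3, 9, true), (4, 1, true), (5, 0, true)], [(0, 34, true), (2, 92, true), (1, 97, true), (0, 98, true), (5, 21, true), (4, 22, true), (3, 24, true), (2, 25, true), (6, 10, true), (5, 11, true), (4, 13, true), (3, 14, true), (5, 6, true), (4, 7, true), (3, 9, true), (4, 3, true), (3, 4, true), (5, 1, true), (4, 2, true), (4, 0, true)]),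
     ([7, 7, 8], [(1, 43, true), (0, 43, true), (2, 31, true), (1, 35, true), (2, 6, true), (1, 8, true), (3, 6, true), (2, 8, true), (1, 9, true)], [(0, 35, true), (1, 36, true), (0, 38, true)]),
     ([7, 7, 9], [(1, 52, true), (0, 52, true), (3, 28, true), (2, 29, true), (1, 35, true), (2, 1, true), (3, 0, true), (2, 2, true)], [(0, 35, true), (1, 45, true), (0, 47, true)]),
     ([7, 7, 10], [(1, 62, true), (0, 62, true), (4, 28, true), (3, 29, true), (2, 31, true), (1, 35, true), (2, 6, true), (1, 8, true), (3, 1, true), (4, 0, true), (3, 7, true), (2, 8, true), (1, 9, true), (2, 2, true)], [(0, 35, true), (1, 55, true), (0, 57, true)]),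
     ([7, 7, 11], [(1, 73, true), (0, 73, true), (4, 28, true), (3, 30, true), (2, 32, true), (1, 35, true), (2, 10, true), (1, 12, true), (3, 3, true), (2, 5, true), (2, 0, true), (1, 14, true)], [(0, 35, true), (1, 66, true), (0, 68, true)]),
     ([7, 7, 12], [(1, 85, true), (0, 85, true), (5, 28, true), (4, 29, true), (3, 30, true), (2, 32, true), (1, 35, true), (2, 10, true), (1, 12, true), (3, 3, true), (2, 5, true), (2, 1, true), (3, 0, true), (2, 11, true), (1, 14, true), (1, 4, true), (2, 2, true)], [(0, 35, true), (1, 78, true), (0, 80, true)]),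
     ([7, 7, 13], [(1, 98, true), (0, 98, true), (5, 28, true), (4, 29, true), (3, 31, true), (2, 32, true), (1, 35, true), (2, 10, true), (1, 12, true), (3, 6, true), (2, 8, true), (4, 1, true), (5, 0, true), (4, 11, true), (3, 12, true), (2, 13, true), (1, 14, true), (3, 7, true), (2, 8, true), (1, 9, true), (2, 2, true)], [(0, 35, true), (1, 91, true), (0, 93, true)]),
     ([7, 7, 14], [(1, 112, true), (0, 112, true), (5, 28, true), (4, 30, true), (3, 31, true), (2, 34, true), (1, 35, true), (2, 21, true), (1, 23, true), (3, 1, true), (4, 6, true), (3, 7, true), (2, 8, true), (5, 3, true), (4, 4, true), (3, 5, true), (4, 0, true), (3, 22, true), (2, 24, true), (1, 27, true), (2, 7, true), (1, 9, true), (1, 4, true)], [(0, 35, true), (1, 105, true), (0, 107, true)]),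
     ([4, 8, 11], [(1, 74, true), (0, 70, true), (3, 36, true), (2, 39, true), (1, 40, true), (4, 21, true), (3, 24, true), (2, 25, true), (5, 10, true), (4, 13, true), (3, 14, true), (4, 6, true), (3, 9, true), (3, 3, true)], [(0, 40, true), (1, 70, true), (0, 74, true), (5, 12, true), (4, 13, true), (3, 14, true), (4, 8, true), (3, 9, true)]),
     ([5, 8, 9], [(1, 53, true), (0, 50, true), (5, 36, true), (4, 37, true), (3, 38, true), (2, 39, true), (1, 41, true), (6, 6, true), (5, 7, true), (4, 8, true), (3, 9, true), (5, 3, true), (4, 4, true), (3, 5, true), (4, 1, true), (3, 2, true), (3, 0, true)], [(0, 41, true), (5, 45, true), (4, 46, true), (3, 47, true), (2, 48, true), (1, 50, true), (0, 53, true), (4, 15, true), (3, 16, true), (2, 17, true), (5, 6, true), (4, 7, true), (3, 8, true), (6, 3, true), (5, 4, true), (4, 5, true), (5, 1, true), (4, 2, true), (4, 0, true), (3, 9, true)]),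
     ([5, 8, 10], [(1, 63, true), (0, 60, true), (5, 36, true), (4, 37, true), (3, 38, true), (2, 39, true), (1, 41, true), (6, 6, true), (5, 7, true), (4, 8, true), (3, 9, true), (5, 3, true), (4, 4, true), (3, 5, true), (4, 1, true), (3, 2, true), (3, 0, true)], [(0, 41, true), (5, 55, true), (4, 56, true), (3, 57, true), (2, 58, true), (1, 60, true), (0, 63, true), (4, 15, true), (3, 16, true), (2, 17, true), (5, 6, true), (4, 7, true), (3, 8, true), (6, 3, true), (5, 4, true), (4, 5, true), (5, 1, true), (4, 2, true), (4, 0, true), (3, 9, true)]),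
     ([5, 8, 11], [(1, 74, true), (0, 71, true), (3, 37, true), (2, 39, true), (1, 41, true), (6, 6, true), (5, 7, true), (4, 8, true), (3, 9, true), (5, 1, true), (4, 2, true), (4, 21, true), (3, 23, true), (2, 26, true), (4, 4, true), (6, 10, true), (5, 11, true), (4, 12, true), (7, 6, true), (6, 7, true), (5, 8, true), (8, 3, true), (7, 4, true), (6, 5, true)], [(0, 41, true), (5, 66, true), (4, 67, true), (3, 68, true), (2, 69, true), (1, 71, true), (0, 74, true), (5, 17, true), (4, 18, true), (3, 19, true), (6, 8, true), (5, 9, true), (6, 7, true), (5, 8, true), (7, 2, true), (6, 5, true)]),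
     ([5, 8, 12], [(1, 86, true), (0, 83, true), (2, 37, true), (1, 41, true), (6, 1, true), (5, 2, true), (5, 21, true), (4, 23, true), (3, 24, true), (2, 26, true), (4, 7, true), (5, 4, true), (7, 10, true), (6, 11, true), (5, 12, true), (4, 13, true), (8, 6, true), (7, 7, true), (6, 8, true), (5, 9, true), (7, 0, true)], [(0, 41, true), (5, 78, true), (4, 79, true), (3, 80, true), (2, 81, true), (1, 83, true), (0, 86, true), (5, 15, true), (4, 18, true), (3, 19, true), (6, 1, true), (7, 6, true), (6, 7, true), (5, 9, true), (6, 1, true), (5, 2, true), (5, 3, true), (6, 1, true), (7, 0, true)]),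
     ([5, 8, 13], [(1, 99, true), (0, 96, true), (2, 40, true), (1, 41, true), (6, 10, true), (5, 11, true), (4, 12, true), (3, 13, true), (7, 28, true), (6, 29, true), (5, 30, true), (4, 31, true), (3, 32, true), (2, 33, true), (4, 12, true), (5, 8, true), (6, 5, true), (7, 15, true), (6, 16, true), (5, 18, true), (4, 19, true), (3, 20, true), (3, 11, true), (4, 7, true), (5, 2, true), (5, 10, true), (4, 13, true), (3, 14, true), (4, 6, true), (3, 9, true), (3, 1, true)], [(0, 41, true), (5, 91, true), (4, 92, true), (3, 93, true), (2, 94, true), (1, 96, true), (0, 99, true), (6, 16, true), (5, 18, true), (4, 19, true), (3, 20, true), (3, 11, true), (4, 7, true), (5, 2, true), (4, 13, true), (3, 14, true), (3, 9, true), (3, 5, true)]),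
     ([5, 8, 14], [(1, 113, true), (0, 110, true), (5, 37, true), (4, 38, true), (3, 39, true), (2, 40, true), (1, 41, true), (6, 10, true), (5, 11, true), (4, 12, true), (3, 13, true), (7, 6, true), (6, 7, true), (5, 8, true), (4, 9, true), (6, 3, true), (5, 4, true), (4, 5, true), (5, 1, true), (4, 2, true), (4, 21, true), (3, 25, true), (2, 26, true), (4, 11, true), (6, 10, true), (5, 11, true), (4, 14, true), (5, 6, true), (4, 7, true), (6, 1, true), (5, 2, true), (5, 0, true)], [(0, 41, true), (5, 105, true), (4, 106, true), (3, 107, true), (2, 108, true), (1, 110, true), (0, 113, true), (6, 15, true), (5, 16, true), (4, 18, true), (3, 19, true), (7, 10, true), (6, 11, true), (5, 13, true), (4, 14, true), (6, 6, true), (5, 7, true), (4, 9, true), (5, 3, true), (4, 4, true), (6, 1, true), (5, 2, true), (5, 6, true), (4, 8, true), (6, 3, true), (5, 5, true), (5, 1, true), (6, 1, true), (5, 2, true), (5, 0, true)]),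
     ([6, 8, 13], [(1, 99, true), (0, 97, true), (6, 36, true), (5, 37, true), (4, 38, true), (3, 39, true), (2, 40, true), (1, 42, true), (3, 11, true), (4, 7, true), (5, 4, true), (6, 2, true), (6, 28, true), (5, 30, true), (4, 31, true), (3, 32, true), (2, 34, true), (4, 11, true), (5, 7, true), (6, 4, true), (8, 15, true), (7, 16, true), (6, 17, true), (5, 18, true), (4, 19, true), (9, 10, true), (8, 11, true), (7, 12, true), (6, 13, true), (5, 14, true), (8, 6, true), (7, 7, true), (6, 8, true), (5, 9, true), (7, 1, true), (6, 2, true)], [(0, 42, true), (2, 92, true), (1, 97, true), (0, 99, true), (6, 22, true), (5, 24, true), (4, 25, true), (3, 26, true), (5, 11, true), (6, 7, true), (7, 2, true), (6, 13, true), (5, 14, true), (5, 9, true), (7, 1, true), (6, 2, true)]),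
     ([7, 8, 14], [(1, 113, true), (0, 112, true), (5, 36, true), (4, 38, true), (3, 39, true), (2, 42, true), (1, 43, true), (3, 24, true), (5, 7, true), (4, 9, true), (4, 4, true), (6, 21, true), (5, 22, true), (4, 23, true), (3, 27, true), (5, 10, true), (4, 11, true), (3, 12, true), (6, 6, true), (5, 7, true), (4, 8, true), (7, 1, true), (6, 2, true), (6, 0, true)], [(0, 43, true), (2, 108, true), (1, 112, true), (0, 113, true), (6, 28, true), (5, 29, true), (4, 31, true), (3, 32, true), (2, 34, true), (4, 11, true), (5, 7, true), (6, 2, true), (6, 21, true), (5, 24, true), (4, 25, true), (3, 27, true), (5, 6, true), (4, 9, true), (4, 3, true), (5, 0, true), (4, 8, true)]),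
     ([8, 8, 13], [(1, 99, true), (0, 99, true), (6, 37, true), (5, 39, true), (4, 40, true), (3, 41, true), (2, 43, true), (1, 44, true), (4, 28, true), (3, 29, true), (2, 30, true), (1, 31, true), (5, 6, true), (4, 7, true), (3, 8, true), (2, 9, true), (4, 15, true), (3, 16, true), (2, 17, true), (5, 6, true), (4, 7, true), (3, 8, true), (6, 3, true), (5, 4, true), (4, 5, true), (5, 1, true), (4, 2, true), (4, 0, true), (3, 13, true), (4, 9, true), (4, 29, true), (3, 32, true), (2, 33, true), (1, 35, true), (2, 15, true), (1, 17, true), (3, 3, true), (2, 5, true), (2, 10, true), (3, 1, true), (4, 15, true), (3, 16, true), (2, 19, true), (1, 20, true), (1, 11, true), (2, 2, true), (2, 10, true), (1, 14, true), (1, 6, true), (2, 1, true)], [(0, 44, true), (3, 91, true), (2, 92, true), (1, 93, true), (0, 94, true), (2, 5, true)]),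
     ([8, 8, 14], [(1, 113, true), (0, 113, true), (6, 36, true), (5, 37, true), (4, 39, true), (3, 40, true), (2, 42, true), (1, 44, true), (4, 21, true), (3, 22, true), (2, 23, true), (1, 24, true), (5, 1, true), (4, 2, true), (4, 10, true), (3, 12, true), (2, 13, true), (5, 6, true), (4, 8, true), (3, 9, true), (4, 1, true), (5, 0, true), (4, 22, true), (3, 23, true), (2, 25, true), (1, 27, true), (3, 11, true), (2, 12, true), (1, 14, true), (2, 7, true), (1, 8, true), (3, 2, true)], [(0, 44, true), (3, 105, true), (2, 106, true), (1, 107, true), (0, 108, true), (3, 2, true)]),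
     ([5, 9, 13], [(1, 100, true), (0, 96, true), (2, 49, true), (1, 50, true), (6, 10, true), (5, 11, true), (4, 12, true), (3, 13, true), (7, 1, true), (6, 2, true), (6, 28, true), (5, 30, true), (4, 31, true), (3, 32, true), (2, 33, true), (4, 12, true), (5, 8, true), (6, 5, true), (6, 21, true), (5, 24, true), (4, 25, true), (3, 26, true), (5, 11, true), (6, 7, true), (8, 3, true), (7, 4, true), (9, 1, true), (8, 2, true)], [(0, 50, true), (5, 91, true), (4, 92, true), (3, 93, true), (2, 94, true), (1, 96, true), (0, 100, true), (5, 16, true), (4, 17, true), (6, 11, true), (5, 12, true), (7, 7, true), (6, 8, true), (8, 4, true), (7, 5, true), (7, 4, true), (8, 2, true)]),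
     ([7, 9, 14], [(1, 114, true), (0, 112, true), (5, 45, true), (4, 47, true), (3, 48, true), (2, 51, true), (1, 52, true), (4, 21, true), (3, 22, true), (5, 6, true), (4, 7, true), (6, 3, true), (5, 4, true), (7, 0, true), (6, 11, true), (5, 12, true), (4, 13, true)], [(0, 52, true), (3, 105, true), (2, 106, true), (1, 112, true), (0, 114, true), (2, 32, true), (3, 25, true), (7, 1, true), (8, 0, true)]),
     ([8, 9, 13], [(1, 100, true), (0, 99, true), (6, 46, true), (5, 48, true), (4, 49, true), (3, 50, true), (2, 52, true), (1, 53, true), (5, 28, true), (4, 29, true), (3, 30, true), (6, 1, true), (5, 2, true), (5, 0, true), (4, 17, true), (5, 8, true), (6, 5, true), (7, 10, true), (6, 11, true), (5, 13, true), (8, 1, true), (7, 2, true), (7, 6, true), (6, 9, true), (6, 1, true), (7, 28, true), (6, 29, true), (5, 32, true), (4, 33, true), (3, 35, true), (4, 15, true), (3, 17, true), (5, 3, true), (4, 5, true), (4, 10, true), (5, 1, true), (6, 0, true), (5, 22, true), (4, 25, true), (3, 26, true), (5, 11, true), (6, 2,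 true)], [(0, 53, true), (4, 91, true), (3, 92, true), (2, 93, true), (1, 99, true), (0, 100, true), (5, 37, true), (4, 38, true), (3, 42, true), (2, 43, true), (4, 24, true), (6, 4, true), (7, 2, true), (6, 30, true), (5, 31, true), (4, 34, true), (3, 35, true), (4, 21, true), (3, 23, true), (5, 1, true), (6, 6, true), (5, 7, true), (4, 8, true), (7, 3, true), (6, 4, true), (5, 5, true), (6, 15, true), (5, 16, true), (4, 18, true), (7, 10, true), (6, 11, true), (5, 13, true), (8, 6, true), (7, 7, true), (6, 9, true), (7, 1, true), (6, 2, true), (6, 3, true), (7, 1, true), (8, 0, true)]),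
     ([9, 9, 13], [(1, 100, true), (0, 100, true), (5, 46, true), (4, 47, true), (3, 51, true), (2, 52, true), (1, 54, true), (4, 28, true), (3, 29, true), (2, 30, true), (1, 31, true), (5, 1, true), (4, 2, true), (4, 0, true), (3, 23, true), (2, 24, true), (4, 5, true), (4, 29, true), (3, 31, true), (2, 34, true), (1, 35, true), (2, 21, true), (1, 23, true), (3, 1, true), (4, 6, true), (3, 7, true), (2, 8, true), (5, 1, true), (4, 2, true), (4, 21, true), (3, 23, true), (2, 24, true), (1, 27, true), (3, 3, true), (2, 5, true), (2, 1, true)], [(0, 54, true), (3, 91, true), (2, 92, true), (1, 93, true), (0, 94, true), (2, 5, true)]),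
     ([5, 10, 13], [(1, 101, true), (0, 96, true), (2, 59, true), (1, 60, true), (6, 10, true), (5, 11, true), (4, 12, true), (3, 13, true), (7, 3, true), (6, 4, true), (5, 5, true), (6, 1, true), (5, 2, true), (5, 0, true)], [(0, 60, true), (5, 91, true), (4, 92, true), (3, 93, true), (2, 94, true), (1, 96, true), (0, 101, true), (3, 15, true), (2, 16, true), (4, 10, true), (3, 11, true), (5, 6, true), (4, 7, true), (6, 3, true), (5, 4, true), (7, 3, true), (6, 4, true), (5, 5, true), (6, 1, true), (5, 2, true), (5, 0, true)]),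
     ([5, 10, 14], [(1, 115, true), (0, 110, true), (5, 56, true), (4, 57, true), (3, 58, true), (2, 59, true), (1, 60, true), (6, 10, true), (5, 11, true), (4, 12, true), (3, 13, true), (7, 3, true), (6, 4, true), (5, 5, true), (6, 6, true), (5, 7, true), (4, 9, true), (5, 3, true), (4, 4, true), (6, 1, true), (5, 2, true), (5, 45, true), (4, 47, true), (3, 49, true), (2, 50, true), (7, 10, true), (6, 11, true), (5, 12, true), (4, 13, true), (8, 1, true), (7, 2, true), (7, 3, true), (6, 5, true), (6, 0, true), (5, 39, true), (4, 40, true), (3, 41, true), (8, 10, true), (7, 11, true), (6, 12, true), (5, 13, true), (9, 6, true), (8, 7, true), (7, 8, true), (6, 9, true), (8, 28, true), (7, 29, true), (6, 30, true), (5, 32, true), (4, 33, true), (6, 12, true), (7, 5, true), (8, 10, true), (7, 11, true), (6, 14, true), (7, 3, true), (6, 4, true), (8, 1, true), (7, 2, true), (7, 0, true)], [(0, 60, true), (5, 105, true), (4, 106, true), (3, 107, true), (2, 108, true), (1, 110, true), (0, 115, true), (8, 15, true), (7, 16, true),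 (6, 17, true), (5, 19, true), (9, 10, true), (8, 11, true), (7, 12, true), (6, 14, true), (8, 6, true), (7, 7, true), (6, 8, true), (9, 3, true), (8, 4, true), (7, 5, true), (8, 1, true), (7, 2, true), (7, 6, true), (6, 9, true), (6, 3, true), (7, 1, true), (8, 1, true), (7, 2, true), (7, 0, true)]),
     ([7, 10, 14], [(1, 115, true), (0, 112, true), (5, 55, true), (4, 57, true), (3, 58, true), (2, 61, true), (1, 62, true), (5, 21, true), (4, 22, true), (3, 24, true), (6, 6, true), (5, 7, true), (4, 9, true), (5, 1, true), (4, 2, true), (4, 0, true), (6, 45, true), (5, 47, true), (4, 48, true), (3, 51, true), (2, 52, true), (5, 21, true), (4, 22, true), (6, 6, true), (5, 7, true), (7, 3, true), (6, 4, true), (8, 0, true), (7, 37, true), (6, 38, true), (5, 39, true), (4, 42, true), (3, 43, true), (5, 24, true), (7, 7, true), (6, 9, true), (6, 4, true), (7, 2, true), (6, 30, true), (5, 34, true), (4, 35, true), (5, 21, true), (4, 23, true), (6, 1, true), (7, 3, true), (6, 4, true), (5, 5, true), (6, 10, true), (5, 11, true),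 (7, 3, true), (6, 4, true), (8, 1, true), (7, 2, true), (7, 0, true)], [(0, 62, true), (4, 105, true), (3, 106, true), (2, 108, true), (1, 112, true), (0, 115, true), (8, 28, true), (7, 29, true), (6, 30, true), (5, 32, true), (4, 35, true), (5, 10, true), (4, 12, true), (6, 3, true), (5, 5, true), (5, 1, true), (6, 0, true), (5, 22, true), (4, 25, true), (6, 7, true), (7, 4, true), (9, 6, true), (8, 7, true), (7, 8, true), (6, 9, true), (8, 1, true), (7, 2, true), (7, 0, true)]),
     ([8, 10, 13], [(1, 101, true), (0, 99, true), (6, 56, true), (5, 58, true), (4, 59, true), (3, 60, true), (2, 62, true), (1, 63, true), (5, 28, true), (4, 29, true), (3, 30, true), (6, 6, true), (5, 7, true), (4, 8, true), (7, 1, true), (6, 2, true), (6, 0, true), (5, 17, true), (4, 18, true), (6, 8, true), (5, 9, true), (5, 5, true), (6, 10, true), (5, 11, true), (7, 3, true), (6, 4, true), (8, 6, true), (7, 7, true), (6, 8, true), (9, 1, true), (8, 2, true), (8, 1, true), (9, 0, true)], [(0, 63, true), (4, 91, true), (3, 92, true), (2, 93,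 true), (1, 99, true), (0, 101, true), (3, 36, true), (2, 37, true), (4, 28, true), (3, 29, true), (5, 15, true), (4, 16, true), (6, 10, true), (5, 11, true), (7, 6, true), (6, 7, true), (8, 1, true), (7, 2, true), (7, 3, true), (8, 1, true), (9, 0, true)]),
     ([8, 10, 14], [(1, 115, true), (0, 113, true), (6, 55, true), (5, 56, true), (4, 58, true), (3, 59, true), (2, 61, true), (1, 63, true), (5, 21, true), (4, 22, true), (3, 23, true), (6, 6, true), (5, 7, true), (4, 8, true), (7, 1, true), (6, 2, true), (6, 0, true), (5, 12, true), (4, 13, true), (6, 5, true), (5, 9, true), (6, 45, true), (5, 46, true), (4, 49, true), (3, 51, true), (2, 53, true), (6, 21, true), (5, 22, true), (4, 23, true), (7, 10, true), (6, 11, true), (5, 12, true), (8, 1, true), (7, 2, true), (7, 1, true), (8, 0, true), (7, 37, true), (6, 38, true), (5, 40, true), (4, 42, true), (3, 44, true), (6, 21, true), (5, 22, true), (4, 23, true), (3, 24, true), (7, 1, true), (6, 2, true), (6, 10, true), (5, 12, true), (4, 13, true), (7, 3, true), (6, 5, true),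 (6, 1, true), (7, 28, true), (6, 29, true), (5, 31, true), (4, 32, true), (3, 34, true), (5, 11, true), (6, 7, true), (7, 2, true), (7, 10, true), (6, 13, true), (5, 14, true), (6, 3, true), (7, 1, true), (8, 0, true)], [(0, 63, true), (4, 105, true), (3, 106, true), (2, 107, true), (1, 113, true), (0, 115, true), (8, 36, true), (7, 37, true), (6, 38, true), (5, 40, true), (4, 43, true), (3, 44, true), (6, 28, true), (5, 29, true), (4, 30, true), (3, 31, true), (7, 6, true), (6, 7, true), (5, 8, true), (4, 9, true), (6, 10, true), (5, 11, true), (4, 12, true), (7, 3, true), (6, 4, true), (5, 5, true), (6, 1, true), (5, 2, true), (5, 0, true), (4, 25, true), (5, 14, true), (7, 3, true), (6, 4, true), (8, 1, true), (7, 2, true), (7, 1, true), (8, 0, true)]),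
     ([9, 10, 13], [(1, 101, true), (0, 100, true), (5, 56, true), (4, 57, true), (3, 61, true), (2, 62, true), (1, 64, true), (4, 28, true), (3, 29, true), (5, 6, true), (4, 7, true), (6, 1, true), (5, 2, true), (5, 0, true), (4, 24, true), (5, 9, true), (6, 3, true), (5, 4, true), (7, 1, true), (6, 2, true), (6, 1, true), (7, 0, true)], [(0, 64, true), (3, 91, true), (2, 92, true), (1, 100, true), (0, 101, true), (3, 45, true), (2, 46, true), (4, 28, true), (3, 29, true), (5, 21, true), (4, 22, true), (6, 3, true), (5, 4, true), (7, 1, true), (6, 2, true), (6, 1, true), (7, 0, true)]),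
     ([10, 10, 14], [(1, 115, true), (0, 115, true), (8, 55, true), (7, 56, true), (6, 57, true), (5, 59, true), (4, 62, true), (3, 63, true), (2, 64, true), (1, 65, true), (3, 36, true), (2, 37, true), (4, 3, true), (3, 4, true), (5, 1, true), (4, 2, true), (4, 0, true), (3, 30, true), (4, 8, true), (7, 10, true), (6, 11, true), (5, 12, true), (4, 13, true), (8, 3, true), (7, 4, true), (6, 5, true), (7, 3, true), (6, 4, true), (8, 1, true), (7, 2, true), (7, 0, true), (6, 47, true), (5, 48, true), (4, 49, true), (3, 52, true), (2, 53, true), (1, 54, true), (4, 36, true), (3, 37, true), (2, 38, true), (1, 39, true), (5, 3, true), (4, 4, true), (3, 5, true), (4, 1, true), (3, 2, true), (3, 0, true), (2, 31, true), (5, 10, true), (4, 11, true), (3, 13, true), (6, 1, true), (5, 2, true), (5, 6, true), (4, 9, true), (4, 3, true), (5, 36, true), (4, 38, true), (3, 40, true), (2, 43, true), (1, 44, true), (4, 28, true), (3, 29, true), (2, 30, true), (1, 31, true), (5, 6, true), (4, 7, true), (3, 8, true), (2, 9, true), (4, 10, true),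 (3, 11, true), (2, 12, true), (5, 3, true), (4, 4, true), (3, 5, true), (4, 0, true), (3, 29, true), (2, 32, true), (1, 35, true), (2, 10, true), (1, 12, true), (3, 1, true), (4, 10, true), (3, 11, true), (2, 12, true), (1, 14, true), (3, 3, true), (2, 4, true), (1, 5, true), (2, 1, true), (1, 2, true), (1, 0, true)], [(0, 65, true)]),
     ([5, 11, 13], [(1, 102, true), (0, 96, true), (2, 70, true), (1, 71, true), (4, 11, true), (3, 13, true), (5, 7, true), (4, 9, true), (5, 55, true), (4, 56, true), (3, 59, true), (2, 60, true), (7, 10, true), (6, 11, true), (5, 12, true), (4, 13, true), (8, 3, true), (7, 4, true), (6, 5, true), (7, 1, true), (6, 2, true), (6, 0, true), (5, 31, true), (4, 32, true), (3, 33, true), (5, 12, true), (6, 8, true), (7, 23, true), (6, 24, true), (5, 25, true), (4, 26, true), (6, 11, true), (7, 7, true), (8, 4, true), (9, 16, true), (8, 17, true), (7, 18, true), (6, 19, true), (5, 20, true), (5, 11, true), (6, 7, true), (7, 4, true), (8, 2, true), (7, 12, true), (6, 13, true), (5, 14, true)], [(0,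 71, true), (3, 92, true), (2, 94, true), (1, 96, true), (0, 102, true), (7, 16, true), (6, 19, true), (5, 20, true), (5, 11, true), (6, 2, true), (5, 14, true)]),
     ([7, 11, 12], [(1, 89, true), (0, 85, true), (5, 66, true), (4, 67, true), (3, 68, true), (2, 70, true), (1, 73, true), (5, 10, true), (4, 12, true), (3, 14, true), (4, 6, true), (3, 8, true), (5, 0, true), (4, 5, true), (5, 45, true), (4, 46, true), (3, 48, true), (2, 52, true), (5, 6, true), (4, 7, true), (6, 1, true), (5, 2, true), (5, 0, true), (4, 39, true), (3, 43, true), (5, 9, true)], [(0, 73, true), (4, 78, true), (3, 80, true), (2, 82, true), (1, 85, true), (0, 89, true), (7, 28, true), (6, 30, true), (5, 33, true), (4, 34, true), (6, 16, true), (7, 4, true), (8, 4, true), (7, 5, true), (8, 10, true), (7, 11, true), (9, 3, true), (8, 4, true), (10, 1, true), (9, 2, true), (9, 0, true), (8, 12, true), (7, 14, true), (7, 5, true)]),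
     ([7, 11, 13], [(1, 102, true), (0, 98, true), (5, 66, true), (4, 67, true), (3, 69, true), (2, 70, true), (1, 73, true), (5, 10, true), (4, 12, true), (3, 14, true), (4, 6, true), (3, 8, true), (5, 0, true), (4, 8, true), (3, 9, true), (4, 2, true), (4, 55, true), (3, 57, true), (2, 62, true), (6, 3, true), (5, 4, true), (7, 0, true), (6, 29, true), (5, 30, true), (4, 31, true), (3, 35, true), (4, 6, true), (3, 8, true), (5, 3, true), (4, 5, true), (4, 1, true), (5, 21, true), (4, 22, true), (3, 24, true), (6, 15, true), (5, 16, true), (4, 18, true), (7, 10, true), (6, 11, true), (5, 13, true), (8, 1, true), (7, 2, true)], [(0, 73, true), (4, 91, true), (3, 93, true), (2, 95, true), (1, 98, true), (0, 102, true), (7, 29, true), (6, 32, true), (5, 33, true), (4, 34, true), (3, 35, true), (4, 21, true), (3, 23, true), (5, 1, true), (6, 15, true), (5, 16, true), (4, 17, true), (7, 3, true), (6, 4, true), (5, 5, true), (6, 10, true), (5, 11, true), (7, 1, true), (6, 2, true), (6, 10, true), (5, 14, true), (5, 6, true), (6,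 1, true), (7, 0, true), (6, 11, true), (5, 13, true), (7, 4, true), (8, 2, true), (7, 5, true)]),
     ([7, 11, 14], [(1, 116, true), (0, 112, true), (5, 66, true), (4, 68, true), (3, 69, true), (2, 72, true), (1, 73, true), (5, 21, true), (4, 23, true), (3, 25, true), (6, 6, true), (5, 8, true), (7, 3, true), (6, 5, true), (6, 1, true), (7, 6, true), (6, 7, true), (5, 9, true), (6, 1, true), (5, 2, true), (5, 3, true), (6, 0, true), (5, 38, true), (4, 40, true), (3, 42, true), (2, 43, true), (4, 24, true), (6, 11, true), (5, 13, true), (7, 4, true), (8, 29, true), (7, 30, true), (6, 31, true), (5, 32, true), (4, 34, true), (3, 35, true), (4, 21, true), (3, 23, true), (5, 1, true), (6, 10, true), (5, 11, true), (4, 12, true), (7, 6, true), (6, 7, true), (5, 8, true), (8, 3, true), (7, 4, true), (6, 5, true), (7, 1, true), (6, 2, true), (6, 10, true), (5, 13, true), (4, 14, true), (5, 3, true), (6, 0, true)], [(0, 73, true), (4, 105, true), (3, 107, true), (2, 109, true), (1, 112, true), (0, 116, true), (6, 28, true), (5, 30,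 true), (4, 32, true), (3, 35, true), (4, 10, true), (3, 12, true), (5, 3, true), (4, 5, true), (4, 0, true), (3, 25, true), (7, 10, true), (6, 12, true), (5, 13, true), (4, 14, true), (6, 3, true), (5, 5, true), (5, 1, true), (6, 3, true), (5, 4, true), (7, 1, true), (6, 2, true), (6, 0, true)]),
     ([8, 11, 11], [(1, 77, true), (0, 53, true), (4, 36, true), (3, 37, true), (2, 38, true), (1, 44, true), (4, 3, true), (3, 4, true), (2, 5, true), (3, 1, true), (2, 2, true), (2, 0, true), (1, 24, true)], [(0, 74, true), (5, 68, true), (4, 69, true), (3, 70, true), (2, 72, true), (1, 74, true), (0, 77, true), (4, 36, true), (3, 38, true), (2, 42, true), (1, 44, true), (4, 21, true), (3, 22, true), (2, 23, true), (1, 24, true), (5, 1, true), (4, 2, true), (4, 3, true), (3, 5, true), (3, 0, true), (2, 24, true), (1, 27, true), (1, 13, true), (2, 9, true), (2, 23, true), (1, 25, true), (3, 8, true), (4, 5, true), (4, 11, true), (3, 13, true), (2, 14, true), (3, 7, true), (2, 9, true), (3, 6, true), (2, 7, true), (4, 1, true), (3,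 2, true), (3, 3, true)]),
     ([8, 11, 12], [(1, 89, true), (0, 86, true), (5, 66, true), (4, 69, true), (3, 70, true), (2, 72, true), (1, 74, true), (6, 23, true), (5, 24, true), (4, 25, true), (3, 27, true), (5, 8, true), (4, 9, true), (4, 5, true), (4, 11, true), (3, 14, true), (3, 7, true), (5, 6, true), (4, 7, true), (3, 9, true), (4, 1, true), (3, 2, true), (3, 0, true), (2, 53, true), (6, 36, true), (5, 37, true), (4, 38, true), (3, 44, true), (6, 3, true), (5, 4, true), (4, 5, true), (5, 1, true), (4, 2, true), (4, 0, true), (3, 24, true), (4, 18, true)], [(0, 74, true), (5, 80, true), (4, 81, true), (3, 82, true), (2, 84, true), (1, 86, true), (0, 89, true), (7, 36, true), (6, 38, true), (5, 41, true), (4, 42, true), (3, 44, true), (6, 21, true), (5, 22, true), (4, 23, true), (3, 24, true), (7, 1, true), (6, 2, true), (6, 15, true), (5, 17, true), (4, 18, true), (7, 6, true), (6, 8, true), (5, 9, true), (6, 3, true), (5, 5, true), (5, 1, true), (6, 0, true), (5, 4, true), (7, 21, true), (6, 22, true), (5, 23, true),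 (4, 26, true), (3, 27, true), (4, 4, true), (5, 2, true), (5, 10, true), (4, 12, true), (6, 6, true), (5, 8, true), (7, 0, true), (6, 23, true), (5, 24, true), (4, 25, true), (3, 26, true), (5, 11, true), (6, 7, true), (7, 4, true), (8, 7, true), (7, 8, true), (6, 9, true), (8, 10, true), (7, 11, true), (6, 12, true), (5, 14, true), (7, 3, true), (6, 4, true), (5, 5, true), (6, 6, true), (5, 7, true), (7, 1, true), (6, 2, true), (6, 3, true)]),
     ([8, 11, 13], [(1, 102, true), (0, 99, true), (6, 67, true), (5, 69, true), (4, 70, true), (3, 71, true), (2, 73, true), (1, 74, true), (6, 30, true), (5, 31, true), (4, 32, true), (3, 34, true), (5, 11, true), (6, 7, true), (7, 4, true), (8, 11, true), (7, 12, true), (6, 13, true), (5, 14, true), (7, 4, true), (6, 5, true), (7, 15, true), (6, 16, true), (5, 18, true), (8, 6, true), (7, 7, true), (6, 9, true), (7, 1, true), (6, 2, true), (6, 10, true), (7, 6, true), (8, 0, true), (7, 9, true), (7, 2, true), (6, 59, true), (5, 60, true), (4, 61, true), (3, 62, true), (2, 63, true),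 (6, 28, true), (5, 29, true), (4, 30, true), (7, 6, true), (6, 7, true), (5, 8, true), (8, 1, true), (7, 2, true), (7, 0, true), (6, 23, true), (5, 24, true), (7, 8, true), (6, 9, true), (8, 15, true), (7, 16, true), (6, 17, true), (9, 6, true), (8, 7, true), (7, 8, true), (10, 3, true), (9, 4, true), (8, 5, true), (9, 1, true), (8, 2, true), (8, 0, true), (7, 13, true), (9, 30, true), (8, 31, true), (7, 32, true), (6, 33, true), (5, 34, true), (4, 35, true), (5, 21, true), (4, 23, true), (6, 1, true), (7, 15, true), (6, 16, true), (5, 17, true), (8, 3, true), (7, 4, true), (6, 5, true), (7, 10, true), (6, 11, true), (8, 6, true), (7, 7, true), (9, 3, true), (8, 4, true), (10, 21, true), (9, 22, true), (8, 23, true), (7, 24, true), (6, 25, true), (5, 26, true), (4, 27, true), (5, 11, true), (6, 7, true), (7, 4, true), (8, 2, true), (8, 15, true), (7, 17, true), (6, 18, true), (5, 19, true), (4, 20, true), (4, 11, true), (5, 7, true), (6, 4, true), (8, 10, true), (7, 11, true), (6, 12, true), (5, 13, true), (4, 14, true), (7,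 1, true), (6, 2, true)], [(0, 74, true), (5, 93, true), (4, 94, true), (3, 95, true), (2, 97, true), (1, 99, true), (0, 102, true), (7, 37, true), (6, 40, true), (5, 41, true), (4, 42, true), (3, 43, true), (5, 24, true), (7, 16, true), (6, 18, true), (8, 7, true), (7, 9, true), (7, 4, true), (8, 2, true), (8, 10, true), (7, 12, true), (9, 1, true), (10, 28, true), (9, 29, true), (8, 30, true), (7, 32, true), (6, 33, true), (5, 34, true), (4, 35, true), (5, 21, true), (4, 23, true), (6, 1, true), (7, 15, true), (6, 16, true), (5, 17, true), (8, 3, true), (7, 4, true), (6, 5, true), (7, 10, true), (6, 11, true), (8, 3, true), (7, 4, true), (9, 1, true), (8, 2, true), (8, 0, true), (7, 17, true), (6, 19, true), (5, 20, true), (5, 11, true), (6, 4, true), (7, 11, true), (6, 12, true), (5, 14, true), (6, 7, true), (5, 8, true), (7, 2, true), (6, 23, true), (5, 24, true), (4, 27, true), (5, 12, true), (4, 13, true), (6, 8, true), (5, 9, true), (5, 5, true), (6, 10, true), (5, 11, true), (4, 14, true), (5, 3, true), (4, 4, true),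 (6, 1, true), (5, 2, true), (5, 6, true), (4, 8, true), (6, 3, true), (5, 5, true), (5, 3, true)]),
     ([8, 11, 14], [(1, 116, true), (0, 113, true), (6, 66, true), (5, 67, true), (4, 69, true), (3, 70, true), (2, 72, true), (1, 74, true), (6, 23, true), (5, 24, true), (4, 25, true), (3, 27, true), (5, 8, true), (4, 9, true), (4, 5, true), (4, 11, true), (3, 14, true), (3, 7, true), (5, 6, true), (4, 7, true), (3, 9, true), (4, 1, true), (3, 2, true), (3, 1, true), (4, 0, true), (3, 37, true), (2, 44, true), (5, 1, true), (4, 2, true), (4, 28, true), (3, 30, true), (2, 31, true), (5, 10, true), (4, 12, true), (3, 13, true), (6, 3, true), (5, 5, true), (5, 0, true)], [(0, 74, true), (5, 107, true), (4, 108, true), (3, 109, true), (2, 111, true), (1, 113, true), (0, 116, true), (6, 36, true), (5, 38, true), (4, 40, true), (3, 43, true), (2, 44, true), (5, 28, true), (4, 29, true), (3, 30, true), (2, 31, true), (6, 6, true), (5, 7, true), (4, 8, true), (3, 9, true), (5, 10, true), (4, 11, true), (3, 12, true), (6, 3, true),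 (5, 4, true), (4, 5, true), (5, 0, true), (4, 22, true), (3, 25, true), (5, 11, true), (4, 14, true), (4, 7, true), (5, 2, true), (5, 21, true), (4, 24, true), (3, 27, true), (4, 6, true), (3, 9, true), (3, 0, true), (5, 7, true), (4, 8, true), (6, 4, true), (5, 5, true), (5, 2, true)]),
     ([9, 11, 13], [(1, 102, true), (0, 100, true), (5, 67, true), (4, 68, true), (3, 72, true), (2, 73, true), (1, 75, true), (4, 32, true), (3, 34, true), (5, 11, true), (6, 11, true), (5, 14, true), (5, 4, true), (7, 21, true), (6, 22, true), (5, 23, true), (4, 27, true), (6, 6, true), (5, 7, true), (4, 8, true), (7, 3, true), (6, 4, true), (5, 5, true), (6, 1, true), (5, 2, true), (5, 3, true), (6, 1, true), (7, 55, true), (6, 56, true), (5, 57, true), (4, 58, true), (3, 62, true), (2, 64, true), (5, 28, true), (4, 29, true), (6, 6, true), (5, 7, true), (7, 1, true), (6, 2, true), (6, 0, true), (5, 9, true), (7, 28, true), (6, 29, true), (5, 30, true), (4, 35, true), (5, 3, true), (4, 5, true), (4, 1, true), (5, 0, true), (4, 22, true),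 (5, 16, true), (6, 11, true), (7, 2, true)], [(0, 75, true), (3, 95, true), (2, 97, true), (1, 100, true), (0, 102, true), (7, 46, true), (6, 49, true), (5, 50, true), (4, 51, true), (3, 52, true), (6, 21, true), (5, 22, true), (7, 15, true), (6, 16, true), (8, 6, true), (7, 7, true), (9, 3, true), (8, 4, true), (10, 1, true), (9, 2, true), (9, 0, true), (8, 12, true), (7, 13, true), (10, 2, true), (9, 30, true), (8, 31, true), (7, 32, true), (6, 33, true), (5, 34, true), (4, 35, true), (5, 21, true), (4, 23, true), (6, 1, true), (7, 15, true), (6, 16, true), (5, 17, true), (8, 3, true), (7, 4, true), (6, 5, true), (7, 10, true), (6, 11, true), (8, 6, true), (7, 7, true), (9, 3, true), (8, 4, true), (10, 21, true), (9, 22, true), (8, 23, true), (7, 24, true), (6, 25, true), (5, 26, true), (4, 27, true), (5, 11, true), (6, 7, true), (7, 4, true), (8, 2, true), (8, 3, true), (7, 5, true), (7, 1, true), (8, 21, true), (7, 22, true), (6, 24, true), (5, 25, true), (4, 26, true), (6, 11, true), (7, 7, true), (8, 2, true), (8, 10,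 true), (7, 13, true), (6, 14, true), (7, 6, true), (6, 9, true), (6, 3, true), (7, 1, true), (8, 0, true), (7, 11, true), (6, 12, true), (8, 4, true), (7, 5, true), (7, 2, true)]),
     ([10, 11, 12], [(1, 89, true), (0, 88, true), (6, 66, true), (5, 68, true), (4, 70, true), (3, 71, true), (2, 72, true), (1, 76, true), (6, 24, true), (5, 25, true), (4, 26, true), (3, 27, true), (4, 11, true), (5, 7, true), (6, 7, true), (5, 9, true), (5, 4, true), (6, 2, true), (5, 17, true), (4, 19, true), (3, 20, true), (3, 11, true), (4, 4, true), (5, 7, true), (4, 8, true), (6, 2, true), (5, 12, true), (4, 13, true), (3, 14, true), (4, 8, true), (3, 9, true), (4, 3, true), (3, 5, true), (3, 0, true)], [(0, 76, true), (5, 81, true), (4, 82, true), (3, 83, true), (2, 84, true), (1, 88, true), (0, 89, true), (7, 55, true), (6, 57, true), (5, 60, true), (4, 61, true), (3, 63, true), (2, 64, true), (5, 36, true), (4, 37, true), (6, 3, true), (5, 4, true), (7, 1, true), (6, 2, true), (6, 0, true), (5, 23, true), (6, 8, true), (9, 15, true),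 (8, 16, true), (7, 17, true), (6, 18, true), (10, 6, true), (9, 7, true), (8, 8, true), (7, 9, true), (9, 3, true), (8, 4, true), (7, 5, true), (8, 1, true), (7, 2, true), (7, 0, true), (8, 21, true), (7, 23, true), (6, 26, true), (5, 27, true), (6, 4, true), (8, 15, true), (7, 16, true), (6, 17, true), (5, 20, true), (5, 4, true), (6, 2, true), (6, 10, true), (5, 12, true), (7, 3, true), (6, 5, true), (6, 0, true), (5, 25, true), (8, 15, true), (7, 18, true), (6, 19, true), (9, 1, true), (10, 10, true), (9, 11, true), (8, 13, true), (7, 14, true), (9, 3, true), (8, 4, true), (10, 6, true), (9, 7, true), (8, 8, true), (7, 9, true), (9, 1, true), (8, 2, true)]),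
     ([10, 11, 13], [(1, 102, true), (0, 101, true), (3, 66, true), (2, 67, true), (1, 76, true), (8, 55, true), (7, 56, true), (6, 58, true), (5, 59, true), (4, 60, true), (3, 61, true), (2, 65, true), (5, 15, true), (4, 16, true), (3, 18, true), (6, 6, true), (5, 7, true), (4, 9, true), (5, 3, true), (4, 4, true), (6, 1, true), (5, 2, true), (5, 0, true), (4, 12, true), (5, 5, true), (7, 28, true), (6, 29, true), (5, 31, true), (4, 32, true), (3, 33, true), (2, 34, true), (4, 16, true), (5, 4, true), (6, 11, true), (5, 12, true), (7, 7, true), (6, 8, true), (8, 2, true), (8, 21, true), (7, 23, true), (6, 24, true), (5, 25, true), (4, 26, true), (3, 27, true), (4, 11, true), (5, 7, true), (6, 4, true), (8, 15, true), (7, 16, true), (6, 17, true), (5, 18, true), (4, 19, true), (3, 20, true), (3, 11, true), (4, 7, true), (5, 4, true), (6, 2, true), (6, 10, true), (5, 12, true), (4, 13, true), (3, 14, true), (5, 1, true)], [(0, 76, true), (5, 94, true), (4, 95, true), (3, 96, true), (2, 97, true), (1, 101, true), (0, 102, true),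 (7, 56, true), (6, 59, true), (5, 60, true), (4, 61, true), (3, 62, true), (2, 65, true), (5, 21, true), (4, 22, true), (3, 24, true), (6, 6, true), (5, 7, true), (4, 9, true), (5, 1, true), (4, 2, true), (4, 0, true), (8, 10, true), (7, 11, true), (6, 12, true), (5, 13, true), (9, 3, true), (8, 4, true), (7, 5, true), (8, 1, true), (7, 2, true), (7, 1, true), (8, 0, true), (7, 22, true), (6, 24, true), (5, 25, true), (4, 26, true), (3, 27, true), (4, 11, true), (5, 7, true), (6, 2, true), (5, 13, true), (4, 14, true), (4, 9, true), (6, 15, true), (5, 16, true), (4, 17, true), (3, 20, true), (3, 4, true), (4, 2, true), (4, 10, true), (3, 12, true), (5, 10, true), (4, 12, true), (3, 14, true), (4, 3, true), (3, 5, true), (3, 1, true), (4, 6, true), (3, 7, true), (5, 3, true), (4, 4, true)]),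
     ([10, 11, 14], [(1, 116, true), (0, 115, true), (8, 66, true), (7, 67, true), (6, 68, true), (5, 70, true), (4, 73, true), (3, 74, true), (2, 75, true), (1, 76, true), (6, 48, true), (5, 49, true), (4, 50, true), (3, 51, true), (9, 10, true), (8, 11, true), (7, 12, true), (6, 13, true), (10, 1, true), (9, 2, true), (9, 6, true), (8, 8, true), (7, 9, true), (8, 21, true), (7, 23, true), (6, 25, true), (5, 26, true), (4, 27, true), (5, 11, true), (6, 4, true), (8, 10, true), (7, 11, true), (6, 12, true), (5, 14, true), (7, 36, true), (6, 37, true), (5, 38, true), (4, 41, true), (9, 3, true), (8, 4, true), (7, 5, true), (8, 1, true), (7, 2, true), (7, 0, true), (6, 24, true), (5, 26, true), (7, 7, true), (8, 11, true), (7, 13, true), (9, 7, true), (8, 9, true), (8, 4, true), (9, 29, true), (8, 30, true), (7, 32, true), (6, 33, true), (5, 34, true), (7, 16, true), (8, 4, true), (9, 11, true), (8, 12, true), (10, 4, true), (9, 5, true), (9, 2, true), (8, 14, true), (9, 10, true), (8, 12, true), (10, 6, true), (9, 8, true),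 (11, 0, true), (10, 5, true), (11, 36, true), (10, 37, true), (9, 39, true), (8, 40, true), (7, 41, true), (6, 42, true), (5, 43, true), (4, 44, true), (7, 28, true), (6, 29, true), (5, 30, true), (4, 31, true), (8, 6, true), (7, 7, true), (6, 8, true), (5, 9, true), (7, 21, true), (6, 22, true), (5, 23, true), (8, 1, true), (7, 2, true), (7, 15, true), (6, 17, true), (8, 6, true), (7, 8, true), (9, 3, true), (8, 5, true), (8, 1, true), (9, 0, true), (8, 11, true), (7, 13, true), (9, 7, true), (8, 9, true), (8, 2, true), (8, 28, true), (7, 32, true), (6, 33, true), (5, 34, true), (4, 35, true), (5, 21, true), (4, 23, true), (6, 1, true), (7, 15, true), (6, 16, true), (5, 17, true), (8, 3, true), (7, 4, true), (6, 5, true), (7, 10, true), (6, 11, true), (8, 0, true), (7, 11, true), (6, 14, true), (6, 4, true)], [(0, 76, true), (5, 108, true), (4, 109, true), (3, 110, true), (2, 111, true), (1, 115, true), (0, 116, true), (6, 55, true), (5, 57, true), (4, 59, true), (3, 62, true), (2, 63, true), (6, 28, true), (5, 29, true),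 (4, 30, true), (7, 6, true), (6, 7, true), (5, 8, true), (8, 1, true), (7, 2, true), (7, 0, true), (6, 12, true), (5, 13, true), (7, 5, true), (8, 45, true), (7, 47, true), (6, 48, true), (5, 49, true), (4, 52, true), (3, 53, true), (7, 28, true), (6, 29, true), (5, 30, true), (8, 1, true), (7, 2, true), (7, 0, true), (6, 12, true), (8, 7, true), (7, 8, true), (9, 4, true), (8, 5, true), (9, 36, true), (8, 37, true), (7, 39, true), (6, 40, true), (5, 43, true), (4, 44, true), (7, 28, true), (6, 29, true), (5, 30, true), (4, 31, true), (8, 6, true), (7, 7, true), (6, 8, true), (5, 9, true), (7, 10, true), (6, 11, true), (5, 12, true), (8, 6, true), (7, 7, true), (6, 8, true), (9, 1, true), (8, 2, true), (8, 0, true), (7, 30, true), (6, 31, true), (5, 32, true), (4, 35, true), (5, 10, true), (4, 12, true), (6, 6, true), (5, 8, true), (7, 3, true), (6, 5, true), (6, 10, true), (5, 13, true), (4, 14, true), (5, 3, true), (6, 1, true), (7, 0, true), (6, 22, true), (5, 23, true), (4, 24, true), (7, 7, true), (6, 8, true), (5, 9,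 true), (7, 15, true), (6, 16, true), (5, 17, true), (8, 10, true), (7, 11, true), (6, 12, true), (9, 6, true), (8, 7, true), (7, 8, true), (10, 3, true), (9, 4, true), (8, 5, true), (9, 1, true), (8, 2, true), (8, 10, true), (7, 13, true), (6, 14, true), (7, 3, true), (8, 1, true), (9, 6, true), (8, 7, true), (7, 8, true), (6, 9, true)]),
     ([11, 11, 11], [(1, 77, true)], [(0, 77, true), (4, 66, true), (3, 68, true), (2, 72, true), (1, 74, true), (0, 75, true), (3, 40, true), (2, 42, true), (4, 11, true), (5, 22, true), (4, 25, true), (3, 27, true), (4, 11, true), (3, 14, true), (3, 7, true), (4, 4, true), (5, 22, true), (4, 23, true), (3, 24, true), (6, 7, true), (5, 8, true), (4, 9, true), (5, 4, true), (4, 5, true), (4, 2, true)]),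
     ([11, 11, 12], [(1, 89, true), (0, 89, true), (7, 66, true), (6, 68, true), (5, 71, true), (4, 72, true), (3, 74, true), (2, 75, true), (1, 77, true), (5, 45, true), (4, 47, true), (3, 51, true), (2, 53, true), (1, 54, true), (4, 36, true), (3, 37, true), (2, 38, true), (1, 39, true), (5, 3, true), (4, 4, true), (3, 5, true), (4, 1, true), (3, 2, true), (3, 0, true), (2, 24, true), (5, 21, true), (4, 23, true), (3, 24, true), (2, 27, true), (4, 10, true), (3, 12, true), (2, 13, true), (5, 36, true), (4, 38, true), (3, 39, true), (2, 40, true), (1, 44, true), (4, 10, true), (3, 11, true), (2, 12, true), (1, 13, true), (5, 6, true), (4, 7, true), (3, 8, true), (2, 9, true), (4, 3, true), (3, 4, true), (2, 5, true), (3, 0, true), (2, 22, true), (1, 25, true), (3, 11, true), (2, 14, true), (2, 7, true), (3, 4, true), (4, 22, true), (3, 23, true), (2, 24, true), (1, 27, true), (3, 7, true), (2, 8, true), (1, 9, true), (2, 4, true), (1, 5, true), (1, 2, true), (3, 4, true), (5, 45, true), (4, 46, true), (3, 47, true), (2, 48,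 true), (1, 50, true), (6, 6, true), (5, 7, true), (4, 8, true), (3, 9, true), (5, 3, true), (4, 4, true), (3, 5, true), (4, 1, true), (3, 2, true), (3, 0, true), (2, 41, true), (7, 21, true), (6, 22, true), (5, 23, true), (4, 24, true), (3, 26, true), (5, 7, true), (6, 4, true), (7, 2, true), (7, 15, true), (6, 17, true), (5, 18, true), (4, 20, true), (4, 7, true), (5, 4, true), (7, 3, true), (6, 4, true), (5, 5, true), (6, 0, true)], [(0, 77, true), (4, 78, true), (3, 80, true), (2, 84, true), (1, 86, true), (0, 87, true), (6, 36, true), (5, 38, true), (4, 39, true), (3, 40, true), (2, 42, true), (4, 11, true), (5, 7, true), (6, 4, true), (8, 21, true), (7, 22, true), (6, 23, true), (5, 24, true), (4, 25, true), (3, 27, true), (7, 10, true), (6, 11, true), (5, 12, true), (4, 13, true), (3, 14, true), (6, 6, true), (5, 7, true), (4, 8, true), (3, 9, true), (5, 0, true), (4, 22, true), (3, 23, true), (5, 7, true), (4, 8, true), (7, 3, true), (6, 4, true), (5, 5, true), (6, 0, true)]),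
     ([11, 11, 13], [(1, 102, true), (0, 102, true), (7, 67, true), (6, 70, true), (5, 71, true), (4, 72, true), (3, 73, true), (2, 76, true), (1, 77, true), (5, 55, true), (4, 57, true), (3, 61, true), (2, 63, true), (1, 64, true), (4, 36, true), (3, 37, true), (5, 3, true), (4, 4, true), (6, 1, true), (5, 2, true), (5, 0, true), (4, 23, true), (5, 8, true), (8, 3, true), (7, 4, true), (6, 5, true), (7, 0, true), (6, 22, true), (5, 24, true), (4, 27, true), (5, 16, true), (4, 18, true), (6, 11, true), (5, 13, true), (7, 7, true), (6, 9, true), (6, 29, true), (5, 32, true), (4, 33, true), (6, 12, true), (8, 11, true), (7, 12, true), (6, 14, true), (7, 4, true), (6, 5, true), (7, 21, true), (6, 22, true), (5, 26, true), (7, 2, true), (7, 6, true), (8, 3, true), (9, 1, true), (10, 15, true), (9, 16, true), (8, 17, true), (7, 18, true), (6, 20, true), (6, 7, true), (7, 4, true), (8, 2, true), (8, 6, true), (7, 8, true), (6, 9, true), (7, 1, true), (8, 10, true), (7, 11, true), (6, 12, true), (9, 6, true), (8, 7, true), (7, 8,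 true), (10, 0, true), (9, 2, true), (8, 57, true), (7, 58, true), (6, 59, true), (5, 61, true), (4, 62, true), (3, 63, true), (2, 64, true), (1, 65, true), (3, 36, true), (2, 37, true), (4, 3, true), (3, 4, true), (5, 1, true), (4, 2, true), (4, 0, true), (3, 30, true), (4, 8, true), (7, 21, true), (6, 22, true), (5, 23, true), (4, 24, true), (8, 6, true), (7, 7, true), (6, 8, true), (5, 9, true), (7, 1, true), (6, 2, true), (6, 0, true), (5, 12, true), (6, 5, true), (7, 30, true), (6, 31, true), (5, 32, true), (4, 34, true), (3, 35, true), (4, 21, true), (3, 23, true), (5, 1, true), (6, 10, true), (5, 11, true), (4, 12, true), (7, 6, true), (6, 7, true), (5, 8, true), (8, 3, true), (7, 4, true), (6, 5, true), (7, 21, true), (6, 22, true), (5, 24, true), (4, 25, true), (3, 27, true), (6, 15, true), (5, 16, true), (4, 18, true), (3, 19, true), (7, 10, true), (6, 11, true), (5, 13, true), (4, 14, true), (6, 1, true), (5, 2, true)], [(0, 77, true), (4, 91, true), (3, 93, true), (2, 97, true), (1, 99, true), (0, 100, true), (5,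 37, true), (4, 38, true), (3, 42, true), (2, 43, true), (4, 24, true), (6, 4, true), (7, 2, true), (6, 30, true), (5, 31, true), (4, 34, true), (3, 35, true), (4, 21, true), (3, 23, true), (5, 1, true), (6, 6, true), (5, 7, true), (4, 8, true), (7, 3, true), (6, 4, true), (5, 5, true), (6, 15, true), (5, 16, true), (4, 18, true), (7, 10, true), (6, 11, true), (5, 13, true), (8, 6, true), (7, 7, true), (6, 9, true), (7, 1, true), (6, 2, true), (6, 21, true), (5, 25, true), (4, 26, true), (3, 27, true), (4, 11, true), (6, 10, true), (5, 11, true), (4, 14, true), (5, 6, true), (4, 7, true), (6, 3, true), (5, 4, true), (7, 1, true), (6, 2, true), (6, 0, true), (5, 5, true)]),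
     ([11, 11, 14], [(1, 116, true), (0, 116, true), (6, 66, true), (5, 68, true), (4, 70, true), (3, 73, true), (2, 74, true), (1, 77, true), (5, 36, true), (4, 38, true), (3, 42, true), (2, 44, true), (5, 21, true), (4, 22, true), (3, 23, true), (2, 24, true), (6, 1, true), (5, 2, true), (5, 3, true), (4, 5, true), (4, 0, true), (3, 24, true), (2, 27, true), (2, 13, true), (3, 9, true), (3, 30, true), (2, 32, true), (4, 12, true), (3, 14, true), (3, 5, true), (3, 10, true), (4, 6, true), (5, 0, true), (6, 36, true), (5, 38, true), (4, 39, true), (3, 40, true), (2, 43, true), (4, 13, true), (5, 9, true), (6, 28, true), (5, 30, true), (4, 32, true), (3, 35, true), (4, 10, true), (3, 12, true), (5, 3, true), (4, 5, true), (4, 0, true), (3, 14, true)], [(0, 77, true), (4, 105, true), (3, 107, true), (2, 111, true), (1, 113, true), (0, 114, true), (2, 40, true), (3, 25, true), (4, 14, true), (6, 21, true), (5, 22, true), (4, 24, true), (3, 27, true), (5, 6, true), (4, 7, true), (3, 9, true), (4, 0, true), (3, 4, true), (4, 2,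 true)]),
     ([8, 12, 13], [(1, 103, true), (0, 99, true), (6, 79, true), (5, 81, true), (4, 82, true), (3, 83, true), (2, 85, true), (1, 86, true), (6, 28, true), (5, 31, true), (4, 32, true), (3, 34, true), (5, 11, true), (6, 7, true), (8, 10, true), (7, 11, true), (6, 13, true), (5, 14, true), (7, 3, true), (6, 4, true), (8, 1, true), (7, 2, true), (7, 0, true), (6, 17, true), (5, 18, true), (8, 11, true), (7, 12, true), (6, 13, true), (9, 4, true), (8, 5, true), (8, 7, true), (7, 9, true), (7, 2, true), (7, 29, true), (6, 32, true), (5, 33, true), (4, 34, true), (3, 35, true), (4, 21, true), (3, 23, true), (5, 1, true), (6, 15, true), (5, 16, true), (4, 17, true), (7, 3, true), (6, 4, true), (5, 5, true), (6, 10, true), (5, 11, true), (7, 1, true), (6, 2, true), (6, 10, true), (5, 14, true), (5, 6, true), (6, 3, true), (7, 1, true), (8, 0, true)], [(0, 86, true), (5, 91, true), (4, 94, true), (3, 95, true), (2, 97, true), (1, 99, true), (0, 103, true), (7, 36, true), (6, 37, true), (5, 38, true), (4, 39, true), (3, 40,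 true), (2, 43, true), (4, 13, true), (5, 9, true), (7, 28, true), (6, 29, true), (5, 30, true), (4, 32, true), (3, 35, true), (4, 10, true), (3, 12, true), (5, 3, true), (4, 5, true), (4, 1, true), (5, 0, true), (4, 16, true), (3, 19, true), (5, 11, true), (4, 14, true), (4, 7, true), (5, 2, true), (4, 24, true), (3, 26, true), (5, 7, true), (6, 11, true), (5, 13, true), (7, 7, true), (6, 9, true), (6, 4, true), (7, 2, true), (7, 10, true), (6, 12, true), (5, 14, true), (6, 3, true), (5, 5, true), (5, 1, true), (6, 6, true), (5, 7, true), (7, 3, true), (6, 4, true), (8, 0, true)]),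
     ([11, 12, 13], [(1, 103, true), (0, 102, true), (7, 79, true), (6, 82, true), (5, 83, true), (4, 84, true), (3, 85, true), (2, 88, true), (1, 89, true), (8, 55, true), (7, 57, true), (6, 60, true), (5, 61, true), (4, 63, true), (3, 64, true), (6, 36, true), (5, 37, true), (7, 3, true), (6, 4, true), (8, 1, true), (7, 2, true), (7, 0, true), (6, 23, true), (7, 8, true), (10, 15, true), (9, 16, true), (8, 17, true), (7, 18, true), (11, 6, true), (10, 7, true), (9, 8, true), (8, 9, true), (10, 3, true), (9, 4, true), (8, 5, true), (9, 1, true), (8, 2, true), (8, 0, true), (9, 21, true), (8, 23, true), (7, 26, true), (6, 27, true), (7, 4, true), (9, 15, true), (8, 16, true), (7, 17, true), (6, 20, true), (6, 4, true), (7, 2, true), (7, 10, true), (6, 12, true), (8, 3, true), (7, 5, true), (7, 0, true), (6, 32, true), (7, 14, true), (9, 21, true), (8, 22, true), (7, 23, true), (10, 6, true), (9, 7, true), (8, 8, true), (11, 0, true), (10, 16, true), (9, 17, true), (8, 18, true), (11, 2, true), (10, 12, true), (9, 13, true),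 (11, 5, true), (11, 29, true), (10, 31, true), (9, 32, true), (8, 33, true), (7, 34, true), (6, 35, true), (7, 21, true), (6, 23, true), (8, 1, true), (9, 15, true), (8, 16, true), (7, 17, true), (10, 3, true), (9, 4, true), (8, 5, true), (9, 10, true), (8, 11, true), (10, 6, true), (9, 7, true), (11, 1, true), (10, 2, true), (10, 10, true), (9, 13, true), (8, 14, true), (9, 6, true), (8, 9, true), (8, 3, true), (9, 1, true), (10, 0, true)], [(0, 89, true), (7, 91, true), (6, 93, true), (5, 96, true), (4, 97, true), (3, 99, true), (2, 100, true), (1, 102, true), (0, 103, true), (7, 66, true), (6, 67, true), (5, 68, true), (4, 69, true), (3, 70, true), (2, 73, true), (6, 10, true), (5, 12, true), (4, 14, true), (5, 6, true), (4, 8, true), (6, 0, true), (5, 8, true), (4, 9, true), (5, 4, true), (4, 5, true), (4, 2, true), (4, 55, true), (3, 62, true), (7, 0, true), (6, 29, true), (5, 31, true), (4, 35, true), (5, 6, true), (4, 8, true), (6, 1, true), (7, 21, true), (6, 22, true), (5, 23, true), (4, 24, true), (8, 15, true),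 (7, 16, true), (6, 17, true), (5, 18, true), (9, 10, true), (8, 11, true), (7, 12, true), (6, 13, true), (10, 1, true), (9, 2, true), (9, 45, true), (8, 47, true), (7, 48, true), (6, 49, true), (5, 50, true), (4, 51, true), (10, 10, true), (9, 11, true), (8, 12, true), (7, 13, true), (11, 1, true), (10, 2, true), (10, 6, true), (9, 8, true), (8, 9, true), (9, 3, true), (8, 5, true), (8, 0, true), (7, 32, true), (6, 33, true), (5, 34, true), (7, 16, true), (8, 4, true), (9, 11, true), (8, 12, true), (10, 22, true), (9, 23, true), (8, 25, true), (7, 26, true), (6, 27, true), (7, 11, true), (8, 4, true), (9, 2, true), (8, 5, true), (8, 37, true), (7, 40, true), (6, 41, true), (5, 43, true), (7, 18, true), (8, 9, true), (10, 10, true), (9, 11, true), (8, 12, true), (11, 1, true), (10, 2, true), (10, 28, true), (9, 30, true), (8, 32, true), (7, 33, true), (6, 35, true), (7, 15, true), (6, 17, true), (8, 3, true), (7, 5, true), (7, 10, true), (8, 3, true), (9, 0, true), (8, 17, true), (7, 19, true), (6, 20, true), (6, 11, true),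 (7, 4, true), (8, 11, true), (7, 12, true), (6, 14, true), (7, 7, true), (6, 8, true), (8, 2, true), (7, 23, true), (6, 24, true), (8, 12, true), (7, 13, true), (9, 8, true), (8, 9, true), (8, 5, true), (9, 15, true), (8, 16, true), (7, 19, true), (10, 10, true), (9, 11, true), (8, 14, true), (9, 3, true), (8, 4, true), (10, 0, true)]),
     ([11, 12, 14], [(1, 117, true), (0, 116, true), (6, 78, true), (5, 80, true), (4, 82, true), (3, 85, true), (2, 86, true), (1, 89, true), (8, 36, true), (7, 38, true), (6, 41, true), (5, 42, true), (4, 44, true), (7, 21, true), (6, 22, true), (5, 23, true), (4, 24, true), (8, 1, true), (7, 2, true), (7, 15, true), (6, 17, true), (5, 18, true), (8, 6, true), (7, 8, true), (6, 9, true), (7, 3, true), (6, 5, true), (6, 1, true), (7, 0, true), (6, 4, true), (8, 21, true), (7, 22, true), (6, 23, true), (5, 26, true), (4, 27, true), (5, 4, true), (6, 2, true), (6, 10, true), (5, 12, true), (7, 6, true), (6, 8, true), (8, 0, true), (7, 30, true), (6, 31, true), (5, 32, true), (4, 33, true), (6,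 12, true), (7, 8, true), (8, 5, true), (7, 13, true), (6, 14, true), (9, 10, true), (8, 11, true), (7, 12, true), (6, 13, true), (10, 3, true), (9, 4, true), (8, 5, true), (9, 3, true), (8, 4, true), (10, 0, true), (9, 46, true), (8, 47, true), (7, 48, true), (6, 49, true), (5, 50, true), (4, 52, true), (3, 54, true), (6, 28, true), (5, 29, true), (4, 30, true), (3, 31, true), (7, 1, true), (6, 2, true), (6, 0, true), (5, 17, true), (4, 18, true), (6, 8, true), (5, 9, true), (5, 5, true), (6, 10, true), (5, 11, true), (7, 1, true), (6, 2, true), (6, 6, true), (7, 3, true), (8, 1, true), (9, 36, true), (8, 37, true), (7, 38, true), (6, 39, true), (5, 40, true), (4, 41, true), (3, 43, true), (5, 18, true), (6, 9, true), (8, 10, true), (7, 11, true), (6, 12, true), (9, 6, true), (8, 7, true), (7, 8, true), (10, 3, true), (9, 4, true), (8, 5, true), (9, 1, true), (8, 2, true), (8, 0, true), (7, 31, true), (6, 32, true), (5, 33, true), (4, 35, true), (5, 15, true), (4, 17, true), (6, 3, true), (5, 5, true), (5, 10, true), (6, 6,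 true), (7, 15, true), (6, 18, true), (5, 19, true), (4, 20, true), (4, 11, true), (5, 7, true), (7, 1, true), (6, 2, true)], [(0, 89, true), (7, 105, true), (6, 107, true), (5, 110, true), (4, 111, true), (3, 113, true), (2, 114, true), (1, 116, true), (0, 117, true), (6, 67, true), (5, 71, true), (4, 73, true), (3, 74, true), (2, 75, true), (5, 40, true), (4, 42, true), (6, 11, true), (7, 22, true), (6, 25, true), (5, 27, true), (6, 11, true), (5, 14, true), (5, 7, true), (6, 4, true), (7, 29, true), (6, 30, true), (5, 31, true), (8, 11, true), (7, 12, true), (6, 13, true), (9, 4, true), (8, 5, true), (9, 15, true), (8, 16, true), (7, 18, true), (6, 19, true), (10, 6, true), (9, 7, true), (8, 9, true), (9, 1, true), (8, 2, true), (8, 1, true), (9, 36, true), (8, 37, true), (7, 40, true), (6, 41, true), (5, 43, true), (4, 44, true), (7, 28, true), (6, 29, true), (5, 30, true), (4, 31, true), (8, 6, true), (7, 7, true), (6, 8, true), (5, 9, true), (7, 15, true), (6, 16, true), (5, 17, true), (8, 6, true), (7, 7, true), (6,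 8, true), (9, 3, true), (8, 4, true), (7, 5, true), (8, 1, true), (7, 2, true), (7, 0, true), (6, 13, true), (9, 28, true), (8, 29, true), (7, 31, true), (6, 32, true), (5, 33, true), (4, 35, true), (5, 15, true), (4, 17, true), (6, 3, true), (5, 5, true), (5, 10, true), (6, 6, true), (7, 1, true), (8, 0, true), (7, 11, true), (6, 13, true), (5, 14, true), (6, 4, true), (8, 45, true), (7, 46, true), (6, 47, true), (5, 48, true), (4, 50, true), (3, 54, true), (6, 15, true), (5, 16, true), (4, 17, true), (3, 18, true), (7, 6, true), (6, 7, true), (5, 8, true), (4, 9, true), (6, 3, true), (5, 4, true), (4, 5, true), (5, 1, true), (4, 2, true), (4, 0, true), (7, 10, true), (6, 11, true), (5, 12, true), (4, 13, true), (8, 36, true), (7, 37, true), (6, 38, true), (5, 39, true), (4, 40, true), (3, 41, true), (8, 10, true), (7, 11, true), (6, 12, true), (5, 13, true), (9, 6, true), (8, 7, true), (7, 8, true), (6, 9, true), (8, 3, true), (7, 4, true), (6, 5, true), (7, 1, true), (6, 2, true), (6, 0, true), (5, 25, true), (4, 26, true),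 (6, 11, true), (7, 11, true), (6, 14, true), (6, 7, true), (7, 2, true), (7, 21, true), (6, 24, true), (5, 26, true), (4, 27, true), (5, 7, true), (7, 6, true), (6, 7, true), (5, 9, true), (6, 0, true), (5, 16, true), (4, 20, true), (4, 2, true), (7, 4, true), (6, 5, true), (6, 2, true)]),
     ([8, 13, 13], [(1, 104, true)], [(0, 99, true), (6, 92, true), (5, 94, true), (4, 95, true), (3, 96, true), (2, 98, true), (1, 99, true), (0, 104, true), (4, 36, true), (3, 38, true), (2, 39, true), (1, 42, true), (0, 43, true), (2, 24, true), (4, 7, true), (3, 9, true), (3, 4, true), (5, 28, true), (4, 29, true), (3, 30, true), (2, 34, true), (1, 35, true), (2, 21, true), (1, 23, true), (3, 1, true), (4, 3, true), (3, 4, true), (2, 5, true), (3, 1, true), (2, 2, true), (2, 0, true), (5, 29, true), (4, 31, true), (3, 32, true), (2, 33, true), (1, 34, true), (3, 16, true), (4, 4, true), (5, 11, true), (4, 12, true), (6, 7, true), (5, 8, true), (7, 2, true), (6, 12, true), (5, 13, true), (4, 14, true), (5, 8, true), (4, 9, true), (6,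 15, true), (5, 16, true), (4, 17, true), (3, 20, true), (3, 4, true), (4, 2, true), (4, 10, true), (3, 12, true), (5, 10, true), (4, 12, true), (3, 14, true), (4, 3, true), (3, 5, true), (3, 1, true), (4, 6, true), (3, 7, true), (5, 3, true), (4, 4, true), (6, 1, true), (5, 2, true)]),
     ([8, 13, 14], [(1, 118, true), (0, 113, true), (6, 91, true), (5, 92, true), (4, 94, true), (3, 95, true), (2, 97, true), (1, 99, true), (7, 22, true), (6, 24, true), (5, 25, true), (4, 26, true), (6, 11, true), (7, 7, true), (8, 2, true), (7, 13, true), (6, 14, true), (6, 9, true), (8, 10, true), (7, 11, true), (6, 12, true), (9, 3, true), (8, 4, true), (7, 5, true), (8, 1, true), (7, 2, true), (7, 6, true), (8, 3, true), (9, 1, true), (10, 0, true), (9, 79, true), (8, 80, true), (7, 81, true), (6, 82, true), (5, 83, true), (4, 84, true), (3, 85, true), (2, 86, true), (7, 28, true), (6, 31, true), (5, 32, true), (4, 34, true), (6, 11, true), (7, 7, true), (9, 10, true), (8, 11, true), (7, 13, true), (6, 14, true), (8, 3, true), (7, 4,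 true), (9, 1, true), (8, 2, true), (8, 0, true), (7, 23, true), (6, 24, true), (5, 27, true), (6, 8, true), (5, 9, true), (6, 15, true), (5, 17, true), (7, 1, true), (8, 10, true), (7, 11, true), (6, 12, true), (9, 3, true), (8, 4, true), (7, 5, true), (8, 6, true), (7, 7, true), (9, 1, true), (8, 2, true), (8, 3, true), (9, 1, true), (10, 55, true), (9, 56, true), (8, 57, true), (7, 58, true), (6, 59, true), (5, 60, true), (4, 62, true), (3, 63, true), (7, 28, true), (6, 29, true), (5, 30, true), (8, 6, true), (7, 7, true), (6, 8, true), (9, 1, true), (8, 2, true), (8, 0, true), (7, 17, true), (6, 18, true), (8, 8, true), (7, 9, true), (7, 5, true), (8, 10, true), (7, 11, true), (9, 3, true), (8, 4, true), (10, 6, true), (9, 7, true), (8, 8, true), (11, 3, true), (10, 4, true), (9, 5, true), (10, 1, true), (9, 2, true), (9, 0, true), (8, 48, true), (7, 49, true), (6, 50, true), (5, 52, true), (4, 53, true), (8, 28, true), (7, 29, true), (6, 30, true), (9, 1, true), (8, 2, true), (8, 0, true), (7, 17, true), (8, 8, true),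 (9, 5, true), (10, 10, true), (9, 11, true), (8, 13, true), (11, 1, true), (10, 2, true), (10, 6, true), (9, 9, true), (9, 28, true), (8, 32, true), (7, 33, true), (6, 35, true), (7, 15, true), (6, 17, true), (8, 3, true), (7, 5, true), (7, 10, true), (8, 0, true), (7, 19, true), (6, 20, true), (6, 11, true), (7, 7, true), (8, 4, true), (9, 2, true)], [(0, 99, true), (6, 106, true), (5, 108, true), (4, 109, true), (3, 110, true), (2, 112, true), (1, 113, true), (0, 118, true), (10, 36, true), (9, 37, true), (8, 38, true), (7, 39, true), (6, 41, true), (5, 43, true), (7, 18, true), (8, 9, true), (10, 6, true), (9, 7, true), (8, 8, true), (11, 3, true), (10, 4, true), (9, 5, true), (10, 1, true), (9, 2, true), (9, 0, true), (8, 24, true), (7, 26, true), (9, 7, true), (10, 11, true), (9, 13, true), (11, 7, true), (10, 9, true), (10, 2, true), (10, 28, true), (9, 32, true), (8, 33, true), (7, 34, true), (6, 35, true), (7, 21, true), (6, 23, true), (8, 1, true), (9, 15, true), (8, 16, true), (7, 17, true), (10, 3, true), (9, 4,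 true), (8, 5, true), (9, 10, true), (8, 11, true), (10, 0, true), (9, 22, true), (8, 25, true), (7, 26, true), (6, 27, true), (7, 11, true), (8, 2, true), (10, 15, true), (9, 17, true), (8, 18, true), (7, 19, true), (6, 20, true), (6, 11, true), (7, 7, true), (8, 4, true), (10, 10, true), (9, 11, true), (8, 12, true), (7, 13, true), (6, 14, true), (9, 6, true), (8, 7, true), (7, 8, true), (6, 9, true), (8, 3, true), (7, 4, true), (6, 5, true), (7, 1, true), (6, 2, true), (6, 10, true), (7, 3, true), (8, 1, true), (9, 6, true), (8, 7, true), (7, 8, true), (10, 1, true), (9, 2, true)]),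
     ([11, 13, 13], [(1, 104, true)], [(0, 102, true), (7, 92, true), (6, 95, true), (5, 96, true), (4, 97, true), (3, 98, true), (2, 101, true), (1, 102, true), (0, 104, true), (4, 66, true), (3, 68, true), (2, 69, true), (1, 72, true), (0, 73, true), (4, 21, true), (3, 23, true), (2, 25, true), (5, 6, true), (4, 8, true), (6, 3, true), (5, 5, true), (5, 1, true), (6, 6, true), (5, 7, true), (4, 9, true), (5, 1, true), (4, 2, true), (4, 3, true), (5, 0, true), (4, 57, true), (3, 59, true), (2, 61, true), (1, 62, true), (5, 21, true), (4, 22, true), (3, 24, true), (6, 6, true), (5, 7, true), (4, 9, true), (5, 1, true), (4, 2, true), (4, 0, true), (5, 5, true), (4, 32, true), (3, 34, true), (2, 35, true), (3, 21, true), (2, 23, true), (4, 1, true), (5, 10, true), (4, 11, true), (3, 12, true), (6, 21, true), (5, 22, true), (4, 23, true), (3, 25, true), (2, 27, true), (5, 15, true), (4, 16, true), (3, 17, true), (2, 19, true), (6, 10, true), (5, 11, true), (4, 12, true), (3, 14, true), (5, 1, true), (4, 2, true), (4, 55, true),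 (3, 57, true), (2, 60, true), (1, 65, true), (5, 3, true), (4, 4, true), (3, 5, true), (4, 0, true), (3, 2, true), (3, 28, true), (2, 31, true), (1, 33, true), (3, 8, true), (5, 10, true), (4, 12, true), (3, 13, true), (6, 6, true), (5, 8, true), (4, 9, true), (5, 1, true), (6, 0, true), (5, 22, true), (4, 23, true), (3, 25, true), (2, 26, true), (4, 11, true), (5, 4, true), (6, 2, true), (5, 12, true), (4, 14, true), (4, 8, true), (5, 5, true), (6, 15, true), (5, 16, true), (4, 18, true), (3, 20, true), (3, 7, true), (4, 2, true), (4, 10, true), (3, 13, true), (5, 10, true), (4, 13, true), (3, 14, true), (4, 3, true), (5, 1, true), (6, 1, true), (5, 2, true)]),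
     ([11, 13, 14], [(1, 118, true), (0, 116, true), (6, 91, true), (5, 93, true), (4, 95, true), (3, 98, true), (2, 99, true), (1, 102, true), (8, 37, true), (7, 40, true), (6, 41, true), (5, 42, true), (4, 43, true), (6, 24, true), (8, 16, true), (7, 18, true), (9, 7, true), (8, 9, true), (8, 4, true), (9, 2, true), (9, 10, true), (8, 12, true), (10, 1, true), (11, 28, true), (10, 29, true), (9, 30, true), (8, 32, true), (7, 33, true), (6, 34, true), (5, 35, true), (6, 21, true), (5, 23, true), (7, 1, true), (8, 15, true), (7, 16, true), (6, 17, true), (9, 3, true), (8, 4, true), (7, 5, true), (8, 10, true), (7, 11, true), (9, 3, true), (8, 4, true), (10, 1, true), (9, 2, true), (9, 0, true), (8, 17, true), (7, 19, true), (6, 20, true), (6, 11, true), (7, 4, true), (8, 11, true), (7, 12, true), (6, 14, true), (7, 7, true), (6, 8, true), (8, 2, true), (7, 30, true), (6, 31, true), (5, 34, true), (7, 7, true), (8, 4, true), (9, 11, true), (8, 12, true), (7, 13, true), (10, 7, true), (9, 8, true), (8, 9, true), (9, 2, true),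 (9, 10, true), (8, 12, true), (7, 14, true), (8, 3, true), (7, 5, true), (7, 1, true), (8, 3, true), (7, 4, true), (9, 0, true), (8, 79, true), (7, 80, true), (6, 84, true), (5, 85, true), (4, 86, true), (3, 88, true), (2, 89, true), (9, 55, true), (8, 57, true), (7, 60, true), (6, 61, true), (5, 63, true), (4, 64, true), (7, 36, true), (6, 37, true), (8, 3, true), (7, 4, true), (9, 1, true), (8, 2, true), (8, 0, true), (7, 23, true), (8, 8, true), (11, 15, true), (10, 16, true), (9, 17, true), (8, 18, true), (12, 6, true), (11, 7, true), (10, 8, true), (9, 9, true), (11, 3, true), (10, 4, true), (9, 5, true), (10, 1, true), (9, 2, true), (9, 0, true), (10, 21, true), (9, 23, true), (8, 26, true), (7, 27, true), (8, 4, true), (10, 15, true), (9, 16, true), (8, 17, true), (7, 20, true), (7, 4, true), (8, 2, true), (8, 10, true), (7, 12, true), (9, 3, true), (8, 5, true), (8, 0, true), (7, 40, true), (6, 44, true), (9, 10, true), (8, 11, true), (7, 12, true), (6, 13, true), (10, 21, true), (9, 22, true), (8, 23, true), (7, 24,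 true), (6, 25, true), (11, 10, true), (10, 11, true), (9, 12, true), (8, 13, true), (7, 14, true), (10, 6, true), (9, 7, true), (8, 8, true), (7, 9, true), (9, 0, true), (8, 29, true), (7, 30, true), (6, 34, true), (8, 4, true), (9, 2, true), (8, 12, true), (9, 5, true), (10, 21, true), (9, 22, true), (8, 25, true), (7, 27, true), (9, 6, true), (8, 7, true), (10, 0, true), (9, 4, true), (10, 2, true), (9, 57, true), (8, 58, true), (7, 59, true), (6, 62, true), (5, 64, true), (4, 65, true), (6, 28, true), (5, 29, true), (7, 6, true), (6, 7, true), (8, 1, true), (7, 2, true), (7, 0, true), (6, 13, true), (8, 8, true), (7, 9, true), (7, 5, true), (6, 49, true), (5, 52, true), (4, 54, true), (7, 28, true), (6, 29, true), (5, 30, true), (4, 31, true), (8, 1, true), (7, 2, true), (7, 0, true), (6, 12, true), (5, 13, true), (8, 29, true), (7, 30, true), (6, 31, true), (5, 32, true), (4, 35, true), (5, 10, true), (4, 12, true), (6, 6, true), (5, 8, true), (7, 3, true), (6, 5, true), (6, 1, true), (7, 15, true), (6, 16, true), (5,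 18, true), (4, 19, true), (8, 6, true), (7, 7, true), (6, 9, true), (7, 3, true), (6, 4, true), (8, 1, true), (7, 2, true), (7, 0, true)], [(0, 102, true), (7, 106, true), (6, 109, true), (5, 110, true), (4, 111, true), (3, 112, true), (2, 115, true), (1, 116, true), (0, 118, true), (10, 66, true), (9, 67, true), (8, 68, true), (7, 69, true), (6, 71, true), (5, 73, true), (4, 75, true), (3, 76, true), (8, 48, true), (7, 49, true), (6, 50, true), (5, 51, true), (11, 10, true), (10, 11, true), (9, 12, true), (8, 13, true), (12, 1, true), (11, 2, true), (11, 6, true), (10, 8, true), (9, 9, true), (10, 21, true), (9, 23, true), (8, 25, true), (7, 26, true), (6, 27, true), (7, 11, true), (8, 4, true), (10, 10, true), (9, 11, true), (8, 12, true), (7, 14, true), (9, 28, true), (8, 29, true), (7, 30, true), (6, 33, true), (8, 5, true), (9, 10, true), (8, 11, true), (10, 3, true), (9, 4, true), (11, 0, true), (10, 16, true), (9, 17, true), (8, 19, true), (7, 20, true), (7, 11, true), (8, 4, true), (9, 2, true), (8, 8, true), (10,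 7, true), (9, 8, true), (8, 9, true), (9, 2, true), (8, 5, true), (9, 36, true), (8, 37, true), (7, 40, true), (6, 43, true), (8, 13, true), (11, 28, true), (10, 29, true), (9, 31, true), (8, 32, true), (7, 35, true), (8, 10, true), (7, 12, true), (9, 6, true), (8, 8, true), (10, 1, true), (11, 0, true), (10, 11, true), (9, 12, true), (8, 13, true), (7, 14, true), (9, 4, true), (8, 5, true), (9, 55, true), (8, 56, true), (7, 58, true), (6, 63, true), (5, 64, true), (4, 65, true), (6, 36, true), (5, 37, true), (7, 3, true), (6, 4, true), (8, 1, true), (7, 2, true), (7, 0, true), (6, 8, true), (9, 45, true), (8, 46, true), (7, 47, true), (6, 48, true), (5, 53, true), (4, 54, true), (7, 36, true), (6, 37, true), (5, 38, true), (4, 39, true), (8, 3, true), (7, 4, true), (6, 5, true), (7, 1, true), (6, 2, true), (6, 0, true), (5, 9, true), (7, 36, true), (6, 37, true), (5, 38, true), (4, 44, true), (7, 3, true), (6, 4, true), (5, 5, true), (6, 1, true), (5, 2, true), (5, 0, true), (4, 31, true), (5, 13, true), (9, 28, true), (8,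 29, true), (7, 30, true), (6, 31, true), (5, 32, true), (4, 35, true), (5, 10, true), (4, 12, true), (6, 6, true), (5, 8, true), (7, 3, true), (6, 5, true), (6, 1, true), (7, 0, true), (6, 22, true), (5, 24, true), (4, 25, true), (7, 7, true), (6, 9, true), (6, 4, true), (8, 21, true), (7, 22, true), (6, 23, true), (5, 25, true), (4, 27, true), (7, 6, true), (6, 7, true), (5, 8, true), (8, 0, true), (7, 16, true), (6, 17, true), (5, 18, true), (4, 19, true), (8, 11, true), (7, 12, true), (6, 13, true), (5, 14, true), (7, 7, true), (6, 8, true), (5, 9, true), (6, 4, true), (5, 5, true), (5, 2, true), (7, 2, true)]),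
     ([13, 13, 14], [(1, 118, true), (0, 118, true), (10, 91, true), (9, 92, true), (8, 93, true), (7, 94, true), (6, 96, true), (5, 98, true), (4, 100, true), (3, 101, true), (2, 103, true), (1, 104, true), (5, 78, true), (4, 80, true), (3, 81, true), (2, 84, true), (1, 85, true), (6, 21, true), (5, 22, true), (4, 23, true), (3, 25, true), (7, 6, true), (6, 7, true), (5, 8, true), (8, 0, true), (7, 7, true), (6, 8, true), (5, 9, true), (6, 2, true), (5, 5, true), (5, 28, true), (4, 32, true), (3, 34, true), (2, 35, true), (3, 21, true), (2, 23, true), (4, 1, true), (5, 10, true), (4, 11, true), (3, 12, true), (6, 0, true), (5, 11, true), (4, 12, true), (3, 14, true), (4, 7, true), (3, 8, true), (5, 4, true), (4, 5, true), (4, 2, true), (4, 55, true), (3, 58, true), (2, 61, true), (6, 6, true), (5, 7, true), (4, 9, true), (5, 0, true), (4, 2, true), (4, 45, true), (3, 51, true), (5, 28, true), (4, 34, true), (7, 21, true), (6, 22, true), (5, 27, true), (6, 3, true), (5, 4, true), (7, 1, true), (6, 2, true), (6, 28, true),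 (5, 30, true), (4, 35, true), (5, 3, true), (4, 5, true), (4, 0, true), (7, 15, true), (6, 16, true), (5, 18, true), (4, 19, true), (8, 10, true), (7, 11, true), (6, 13, true), (5, 14, true), (7, 6, true), (6, 7, true), (5, 9, true), (6, 3, true), (5, 4, true), (7, 3, true), (6, 4, true), (5, 5, true), (6, 1, true), (5, 2, true), (5, 0, true), (4, 83, true), (3, 87, true), (2, 88, true), (1, 90, true), (3, 55, true), (2, 58, true), (1, 60, true), (6, 6, true), (5, 7, true), (4, 8, true), (3, 9, true), (5, 0, true), (4, 22, true), (3, 23, true), (2, 26, true), (4, 4, true), (5, 2, true), (4, 17, true), (3, 20, true), (3, 4, true), (4, 11, true), (3, 12, true), (5, 4, true), (4, 5, true), (5, 45, true), (4, 46, true), (3, 49, true), (2, 51, true), (5, 2, true), (5, 21, true), (4, 25, true), (3, 27, true), (4, 10, true), (3, 14, true), (3, 6, true), (4, 3, true), (5, 0, true), (4, 17, true), (3, 18, true), (6, 56, true), (5, 57, true), (4, 58, true), (3, 60, true), (2, 64, true), (1, 65, true), (3, 15, true), (2, 16, true), (4,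 6, true), (3, 7, true), (5, 3, true), (4, 4, true), (6, 1, true), (5, 2, true), (5, 0, true), (4, 8, true), (3, 9, true), (3, 5, true), (3, 46, true), (2, 50, true), (1, 54, true), (4, 15, true), (3, 16, true), (2, 17, true), (1, 18, true), (5, 6, true), (4, 7, true), (3, 8, true), (2, 9, true), (4, 3, true), (3, 4, true), (2, 5, true), (3, 1, true), (2, 2, true), (2, 0, true), (2, 29, true), (1, 33, true), (4, 16, true), (3, 17, true), (2, 20, true), (2, 4, true), (3, 2, true), (2, 8, true), (3, 5, true)], [(0, 104, true), (4, 105, true), (3, 107, true), (2, 108, true), (1, 111, true), (0, 112, true), (5, 21, true), (4, 23, true), (3, 24, true), (2, 27, true), (4, 6, true), (3, 8, true), (2, 9, true), (3, 0, true), (2, 8, true), (3, 5, true)]),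
     ([11, 14, 14], [(1, 119, true)], [(0, 116, true), (6, 105, true), (5, 107, true), (4, 109, true), (3, 112, true), (2, 113, true), (1, 116, true), (0, 119, true), (5, 66, true), (4, 68, true), (3, 70, true), (2, 73, true), (1, 74, true), (0, 75, true), (3, 40, true), (2, 42, true), (4, 11, true), (5, 22, true), (4, 25, true), (3, 27, true), (4, 11, true), (3, 14, true), (3, 7, true), (4, 4, true), (5, 29, true), (4, 30, true), (3, 31, true), (6, 11, true), (5, 12, true), (4, 13, true), (7, 4, true), (6, 5, true), (7, 10, true), (6, 11, true), (5, 13, true), (4, 14, true), (6, 6, true), (5, 7, true), (4, 9, true), (5, 0, true), (4, 4, true), (6, 36, true), (5, 37, true), (4, 38, true), (3, 43, true), (2, 44, true), (5, 28, true), (4, 29, true), (3, 30, true), (2, 31, true), (6, 6, true), (5, 7, true), (4, 8, true), (3, 9, true), (5, 3, true), (4, 4, true), (3, 5, true), (4, 1, true), (3, 2, true), (3, 0, true), (2, 35, true), (3, 10, true), (2, 12, true), (4, 3, true), (3, 5, true), (3, 0, true), (2, 40, true), (3, 25,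 true), (4, 14, true), (6, 28, true), (5, 29, true), (4, 31, true), (3, 34, true), (5, 7, true), (6, 2, true), (6, 21, true), (5, 24, true), (4, 27, true), (5, 6, true), (4, 9, true), (4, 3, true), (5, 0, true), (4, 12, true), (5, 5, true), (5, 4, true), (6, 2, true)]),
     ([13, 14, 14], [(1, 119, true)], [(0, 118, true), (10, 105, true), (9, 106, true), (8, 107, true), (7, 108, true), (6, 110, true), (5, 112, true), (4, 114, true), (3, 115, true), (2, 117, true), (1, 118, true), (0, 119, true), (5, 91, true), (4, 93, true), (3, 95, true), (2, 98, true), (1, 99, true), (0, 100, true), (5, 37, true), (4, 38, true), (3, 42, true), (2, 43, true), (4, 24, true), (6, 4, true), (7, 2, true), (6, 30, true), (5, 31, true), (4, 34, true), (3, 35, true), (4, 21, true), (3, 23, true), (5, 1, true), (6, 6, true), (5, 7, true), (4, 8, true), (7, 3, true), (6, 4, true), (5, 5, true), (6, 15, true), (5, 16, true), (4, 18, true), (7, 10, true), (6, 11, true), (5, 13, true), (8, 6, true), (7, 7, true), (6, 9, true), (7, 1, true), (6, 2, true),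 (6, 28, true), (5, 32, true), (4, 33, true), (3, 34, true), (5, 16, true), (6, 4, true), (7, 11, true), (6, 12, true), (9, 10, true), (8, 11, true), (7, 12, true), (6, 14, true), (8, 6, true), (7, 7, true), (6, 8, true), (9, 1, true), (8, 2, true), (8, 0, true), (7, 12, true), (6, 13, true), (8, 5, true), (8, 4, true), (10, 78, true), (9, 79, true), (8, 80, true), (7, 81, true), (6, 82, true), (5, 83, true), (4, 84, true), (3, 85, true), (2, 86, true), (1, 87, true), (7, 36, true), (6, 38, true), (5, 39, true), (4, 40, true), (3, 42, true), (5, 11, true), (6, 7, true), (7, 4, true), (9, 21, true), (8, 22, true), (7, 23, true), (6, 24, true), (5, 25, true), (4, 27, true), (8, 10, true), (7, 11, true), (6, 12, true), (5, 13, true), (4, 14, true), (7, 6, true), (6, 7, true), (5, 8, true), (4, 9, true), (6, 0, true), (5, 29, true), (4, 30, true), (6, 11, true), (5, 12, true), (7, 4, true), (6, 5, true), (6, 2, true), (6, 21, true), (5, 25, true), (7, 6, true), (8, 0, true), (7, 18, true), (6, 19, true), (9, 11, true), (8, 13,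 true), (7, 14, true), (8, 4, true), (9, 7, true), (8, 8, true), (7, 9, true), (8, 2, true), (7, 5, true), (8, 55, true), (7, 56, true), (6, 60, true), (5, 61, true), (4, 62, true), (3, 63, true), (2, 64, true), (5, 36, true), (4, 37, true), (6, 3, true), (5, 4, true), (7, 1, true), (6, 2, true), (6, 0, true), (5, 30, true), (6, 8, true), (9, 21, true), (8, 22, true), (7, 23, true), (6, 24, true), (10, 6, true), (9, 7, true), (8, 8, true), (7, 9, true), (9, 1, true), (8, 2, true), (8, 0, true), (7, 17, true), (8, 8, true), (9, 5, true), (10, 1, true), (9, 2, true), (9, 0, true), (8, 48, true), (7, 50, true), (6, 51, true), (5, 52, true), (4, 53, true), (3, 54, true), (6, 36, true), (5, 37, true), (4, 38, true), (3, 39, true), (7, 3, true), (6, 4, true), (5, 5, true), (6, 1, true), (5, 2, true), (5, 0, true), (4, 31, true), (7, 21, true), (6, 22, true), (5, 24, true), (8, 15, true), (7, 16, true), (6, 18, true), (9, 6, true), (8, 7, true), (7, 9, true), (8, 3, true), (7, 4, true), (9, 1, true), (8, 2, true), (8, 0, true), (7,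 8, true), (8, 30, true), (7, 31, true), (6, 33, true), (5, 34, true), (4, 35, true), (5, 21, true), (4, 23, true), (6, 1, true), (7, 15, true), (6, 16, true), (5, 17, true), (8, 3, true), (7, 4, true), (6, 5, true), (7, 6, true), (6, 7, true), (8, 3, true), (7, 4, true), (9, 15, true), (8, 16, true), (7, 17, true), (6, 18, true), (5, 20, true), (5, 7, true), (6, 4, true), (7, 2, true), (7, 6, true), (6, 8, true), (5, 9, true), (6, 3, true), (5, 5, true), (5, 1, true), (6, 0, true), (5, 79, true), (4, 84, true), (3, 86, true), (2, 88, true), (1, 90, true), (3, 55, true), (2, 58, true), (1, 60, true), (6, 6, true), (5, 7, true), (4, 8, true), (3, 9, true), (5, 0, true), (4, 22, true), (3, 23, true), (2, 26, true), (4, 4, true), (5, 2, true), (4, 17, true), (3, 20, true), (3, 4, true), (4, 11, true), (3, 12, true), (5, 4, true), (4, 5, true), (5, 36, true), (4, 37, true), (3, 40, true), (2, 42, true), (4, 11, true), (5, 2, true), (5, 21, true), (4, 25, true), (3, 27, true), (4, 10, true), (3, 14, true), (3, 6, true), (4, 0, true),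 (3, 24, true), (4, 9, true), (4, 1, true), (5, 45, true), (4, 46, true), (3, 51, true), (2, 53, true), (6, 21, true), (5, 22, true), (4, 23, true), (7, 1, true), (6, 2, true), (6, 0, true), (5, 38, true), (4, 42, true), (3, 44, true), (6, 21, true), (5, 22, true), (4, 23, true), (3, 24, true), (7, 1, true), (6, 2, true), (6, 3, true), (5, 5, true), (5, 28, true), (4, 31, true), (3, 34, true), (5, 7, true), (7, 15, true), (6, 16, true), (5, 18, true), (8, 1, true), (7, 2, true), (7, 55, true), (6, 58, true), (5, 60, true), (4, 61, true), (3, 62, true), (2, 64, true), (1, 65, true), (3, 28, true), (2, 29, true), (4, 6, true), (3, 7, true), (5, 1, true), (4, 2, true), (4, 0, true), (3, 24, true), (4, 9, true), (5, 15, true), (4, 16, true), (6, 6, true), (5, 7, true), (7, 3, true), (6, 4, true), (8, 1, true), (7, 2, true), (7, 0, true), (6, 8, true), (5, 9, true), (6, 45, true), (5, 47, true), (4, 50, true), (3, 51, true), (2, 52, true), (1, 54, true), (4, 28, true), (3, 29, true), (2, 30, true), (1, 31, true), (5, 1, true), (4,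 2, true), (4, 0, true), (3, 23, true), (2, 24, true), (4, 17, true), (3, 18, true), (5, 8, true), (4, 9, true), (4, 5, true), (5, 3, true), (4, 4, true), (6, 0, true), (5, 37, true), (4, 38, true), (3, 41, true), (2, 42, true), (1, 43, true), (3, 24, true), (5, 16, true), (4, 18, true), (6, 7, true), (5, 9, true), (5, 4, true), (6, 2, true), (6, 3, true), (5, 5, true), (5, 1, true), (6, 28, true), (5, 29, true), (4, 33, true), (3, 34, true), (2, 35, true), (3, 21, true), (2, 23, true), (4, 1, true), (5, 15, true), (4, 16, true), (3, 17, true), (6, 3, true), (5, 4, true), (4, 5, true), (5, 1, true), (4, 2, true), (4, 0, true), (7, 45, true), (6, 46, true), (5, 47, true), (4, 49, true), (3, 50, true), (2, 51, true), (1, 53, true), (5, 21, true), (4, 22, true), (3, 23, true), (6, 15, true), (5, 16, true), (4, 17, true), (7, 6, true), (6, 7, true), (5, 8, true), (8, 3, true), (7, 4, true), (6, 5, true), (7, 1, true), (6, 2, true), (6, 0, true), (5, 13, true), (7, 4, true), (8, 2, true), (8, 10, true), (7, 12, true), (6, 13, true),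 (5, 14, true), (7, 28, true), (6, 30, true), (5, 31, true), (4, 33, true), (3, 34, true), (5, 16, true), (6, 4, true), (7, 7, true), (6, 8, true), (8, 4, true), (7, 5, true), (8, 21, true), (7, 22, true), (6, 24, true), (5, 26, true), (4, 27, true), (5, 7, true), (6, 2, true), (6, 6, true), (5, 9, true), (5, 3, true), (6, 0, true), (5, 17, true), (4, 20, true), (4, 4, true), (5, 11, true), (4, 12, true), (6, 7, true), (5, 8, true), (7, 4, true), (6, 5, true), (6, 2, true), (5, 9, true), (6, 2, true)]),
     ([17, 17], [(0, 155, true)], [(0, 122, true), (5, 122, true), (4, 22, true), (3, 23, true), (2, 24, true), (1, 25, true), (0, 27, true), (3, 11, true), (2, 12, true), (1, 13, true), (0, 14, true), (2, 7, true), (1, 8, true), (0, 9, true), (1, 4, true), (0, 5, true), (0, 2, true)]),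
     ([28, 17, 17], [(1, 155, true)], [(0, 136, true), (3, 136, true), (2, 10, true), (1, 12, true), (0, 14, true), (1, 3, true), (0, 5, true), (0, 0, true)]),
     ([18, 18], [(0, 160, true)], [(0, 123, true), (5, 123, true), (4, 47, true), (3, 48, true), (2, 50, true), (1, 51, true), (0, 54, true), (3, 21, true), (2, 22, true), (1, 23, true), (0, 24, true), (4, 15, true), (3, 16, true), (2, 17, true), (1, 18, true), (5, 6, true), (4, 7, true), (3, 8, true), (2, 9, true), (4, 3, true), (3, 4, true), (2, 5, true), (3, 1, true), (2, 2, true), (2, 0, true), (3, 23, true), (2, 24, true), (1, 26, true), (0, 27, true), (1, 7, true), (2, 4, true), (3, 16, true), (2, 17, true), (1, 18, true), (0, 20, true), (0, 7, true), (1, 4, true), (2, 2, true), (1, 8, true), (0, 9, true), (0, 5, true)]),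
     ([28, 18, 18], [(1, 160, true)], [(0, 137, true), (5, 137, true), (4, 21, true), (3, 22, true), (2, 23, true), (1, 26, true), (0, 27, true), (1, 4, true), (2, 2, true), (2, 15, true), (1, 17, true), (0, 20, true), (0, 4, true), (2, 3, true), (1, 4, true), (0, 5, true), (1, 1, true), (0, 2, true), (0, 0, true)]),
     ([17, 19], [(0, 164, true), (0, 124, true), (6, 122, true), (5, 22, true), (4, 23, true), (3, 26, true), (2, 27, true), (3, 4, true), (4, 2, true), (3, 12, true), (4, 8, true), (5, 5, true), (5, 2, true)], [(0, 122, true), (5, 124, true), (4, 46, true), (3, 47, true), (2, 48, true), (1, 49, true), (0, 51, true), (3, 7, true), (4, 4, true), (5, 2, true), (4, 38, true), (3, 39, true), (2, 40, true), (1, 42, true), (3, 11, true), (4, 7, true), (5, 4, true), (6, 22, true), (5, 23, true), (4, 24, true), (3, 25, true), (2, 27, true), (5, 16, true), (4, 17, true), (3, 18, true), (2, 19, true), (6, 4, true), (5, 5, true), (5, 2, true)]),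
     ([28, 17, 19], [(1, 164, true), (0, 138, true), (8, 136, true), (11, 133, true), (7, 10, true), (6, 11, true), (5, 13, true), (4, 14, true), (6, 3, true), (5, 4, true), (7, 0, true), (6, 2, true)], [(0, 136, true), (3, 138, true), (2, 45, true), (1, 47, true), (0, 49, true), (2, 4, true), (4, 36, true), (3, 37, true), (2, 38, true), (1, 40, true), (5, 28, true), (4, 29, true), (3, 30, true), (2, 32, true), (6, 15, true), (5, 16, true), (4, 17, true), (3, 19, true), (7, 10, true), (6, 11, true), (5, 12, true), (4, 14, true), (6, 6, true), (5, 7, true), (4, 8, true), (7, 1, true), (6, 2, true), (6, 0, true)]),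
     ([19, 19], [(0, 166, true), (0, 121, true), (4, 120, true), (3, 6, true), (2, 7, true), (1, 8, true), (0, 9, true), (2, 1, true), (1, 2, true)], [(0, 124, true), (6, 124, true), (5, 46, true), (4, 47, true), (3, 50, true), (2, 51, true), (1, 53, true), (0, 54, true), (3, 36, true), (2, 37, true), (1, 38, true), (0, 39, true), (4, 3, true), (3, 4, true), (2, 5, true), (3, 1, true), (2, 2, true), (2, 0, true), (1, 24, true), (2, 18, true), (3, 9, true), (5, 3, true), (4, 4, true), (3, 5, true), (4, 1, true), (3, 2, true), (3, 36, true), (2, 41, true), (1, 42, true), (0, 44, true), (3, 21, true), (2, 22, true), (1, 23, true), (0, 24, true), (4, 1, true), (3, 2, true), (3, 15, true), (2, 17, true), (1, 18, true), (4, 6, true), (3, 8, true), (2, 9, true), (3, 3, true), (2, 5, true), (2, 1, true), (3, 0, true), (3, 21, true), (2, 22, true), (1, 26, true), (0, 27, true), (1, 2, true), (1, 15, true), (0, 20, true), (1, 3, true), (0, 4, true), (2, 1, true), (1, 2, true)]),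
     ([28, 19, 19], [(1, 166, true), (0, 135, true), (3, 134, true), (2, 3, true), (1, 4, true), (3, 1, true), (2, 2, true)], [(0, 138, true), (8, 138, true), (7, 45, true), (6, 46, true), (5, 48, true), (4, 49, true), (3, 50, true), (2, 52, true), (1, 53, true), (0, 54, true), (3, 36, true), (2, 37, true), (1, 38, true), (0, 39, true), (4, 3, true), (3, 4, true), (2, 5, true), (3, 1, true), (2, 2, true), (2, 0, true), (1, 31, true), (4, 15, true), (3, 16, true), (2, 18, true), (5, 6, true), (4, 7, true), (3, 9, true), (4, 3, true), (3, 4, true), (5, 1, true), (4, 2, true), (4, 0, true), (3, 12, true), (5, 7, true), (4, 8, true), (6, 2, true), (6, 36, true), (5, 38, true), (4, 39, true), (3, 40, true), (2, 41, true), (1, 43, true), (0, 44, true), (3, 28, true), (2, 29, true), (1, 30, true), (0, 31, true), (4, 6, true), (3, 7, true), (2, 8, true), (1, 9, true), (3, 15, true), (2, 16, true), (1, 17, true), (4, 6, true), (3, 7, true), (2, 8, true), (5, 3, true), (4, 4, true), (3, 5, true), (4, 1, true), (3, 2, true), (3, 0, true),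 (2, 13, true), (3, 9, true), (4, 28, true), (3, 30, true), (2, 32, true), (1, 33, true), (0, 35, true), (1, 15, true), (0, 17, true), (2, 3, true), (1, 5, true), (1, 10, true), (2, 3, true), (3, 0, true), (2, 17, true), (1, 19, true), (0, 20, true), (0, 11, true), (1, 4, true), (2, 11, true), (1, 12, true), (0, 14, true), (1, 7, true), (0, 8, true), (2, 2, true)]),
     ([21, 21], [(0, 181, true), (0, 125, true), (6, 124, true), (12, 123, true), (17, 122, true), (22, 121, true), (26, 120, true), (5, 45, true), (4, 47, true), (3, 48, true), (2, 49, true), (1, 51, true), (0, 53, true), (4, 21, true), (3, 22, true), (2, 23, true), (5, 10, true), (4, 11, true), (3, 12, true), (6, 1, true), (5, 2, true), (5, 6, true), (4, 8, true), (6, 3, true), (5, 5, true), (5, 0, true), (4, 39, true), (3, 40, true), (2, 42, true), (1, 44, true), (4, 21, true), (3, 22, true), (2, 23, true), (1, 24, true), (5, 1, true), (4, 2, true), (4, 10, true), (3, 12, true), (2, 13, true), (5, 6, true), (4, 8, true), (3, 9, true), (4, 21, true), (3, 23, true),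 (2, 25, true), (1, 27, true), (3, 15, true), (2, 17, true), (1, 19, true), (4, 3, true), (3, 5, true), (3, 1, true), (4, 45, true), (3, 46, true), (2, 49, true), (1, 50, true), (0, 54, true), (3, 15, true), (2, 16, true), (1, 17, true), (0, 18, true), (4, 6, true), (3, 7, true), (2, 8, true), (1, 9, true), (3, 3, true), (2, 4, true), (1, 5, true), (2, 1, true), (1, 2, true), (1, 0, true), (2, 2, true), (2, 21, true), (1, 25, true), (0, 26, true), (2, 11, true), (4, 15, true), (3, 16, true), (2, 19, true), (1, 20, true), (1, 11, true), (2, 2, true), (2, 6, true), (3, 3, true), (4, 21, true), (3, 23, true), (2, 24, true), (1, 25, true), (0, 27, true), (3, 10, true), (2, 12, true), (1, 13, true), (0, 14, true), (2, 6, true), (1, 8, true), (0, 9, true), (1, 3, true), (0, 5, true), (0, 1, true), (1, 6, true), (0, 7, true), (2, 3, true), (1, 4, true), (3, 1, true), (2, 2, true), (2, 0, true), (1, 8, true), (0, 9, true), (1, 2, true)], [(0, 126, true), (8, 126, true), (7, 78, true), (6, 80, true), (5, 81, true), (4, 82, true), (3,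 83, true), (2, 84, true), (1, 89, true), (0, 90, true), (2, 66, true), (1, 69, true), (0, 71, true), (3, 7, true), (2, 9, true), (2, 2, true), (2, 45, true), (1, 50, true), (6, 0, true), (5, 37, true), (4, 38, true), (3, 39, true), (2, 41, true), (7, 6, true), (6, 7, true), (5, 8, true), (4, 9, true), (6, 3, true), (5, 4, true), (4, 5, true), (5, 1, true), (4, 2, true), (4, 21, true), (3, 26, true), (6, 15, true), (5, 16, true), (4, 20, true), (4, 2, true), (4, 3, true), (5, 0, true), (4, 23, true), (3, 27, true), (3, 8, true), (5, 15, true), (4, 17, true), (3, 18, true), (6, 1, true), (7, 10, true), (6, 11, true), (5, 12, true), (4, 13, true), (8, 3, true), (7, 4, true), (6, 5, true), (7, 6, true), (6, 7, true), (5, 9, true), (6, 1, true), (5, 2, true), (5, 3, true), (6, 0, true), (5, 68, true), (4, 70, true), (3, 71, true), (2, 74, true), (1, 75, true), (0, 77, true), (4, 45, true), (3, 47, true), (2, 51, true), (1, 53, true), (0, 54, true), (3, 36, true), (2, 37, true), (1, 38, true), (0, 39, true), (4, 3, true), (3, 4,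 true), (2, 5, true), (3, 1, true), (2, 2, true), (2, 0, true), (1, 24, true), (4, 21, true), (3, 23, true), (2, 24, true), (1, 27, true), (3, 10, true), (2, 12, true), (1, 13, true), (4, 36, true), (3, 38, true), (2, 39, true), (1, 40, true), (0, 44, true), (3, 10, true), (2, 11, true), (1, 12, true), (0, 13, true), (4, 6, true), (3, 7, true), (2, 8, true), (1, 9, true), (3, 3, true), (2, 4, true), (1, 5, true), (2, 0, true), (1, 22, true), (0, 25, true), (2, 11, true), (1, 14, true), (1, 7, true), (2, 4, true), (3, 16, true), (2, 17, true), (1, 18, true), (4, 7, true), (3, 8, true), (2, 9, true), (3, 2, true), (2, 12, true), (3, 8, true), (5, 3, true), (4, 5, true), (4, 21, true), (3, 24, true), (2, 25, true), (1, 26, true), (0, 27, true), (1, 11, true), (2, 7, true), (4, 15, true), (3, 16, true), (2, 18, true), (1, 19, true), (0, 20, true), (0, 11, true), (1, 7, true), (2, 2, true), (2, 10, true), (1, 13, true), (0, 14, true), (1, 6, true), (0, 9, true), (0, 3, true), (1, 0, true)]),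
     ([28, 21, 21], [(1, 181, true), (0, 139, true), (6, 138, true), (14, 137, true), (19, 136, true), (22, 135, true), (25, 134, true), (27, 133, true), (5, 45, true), (4, 46, true), (3, 51, true), (2, 52, true), (1, 53, true), (0, 54, true), (3, 36, true), (2, 37, true), (1, 38, true), (0, 39, true), (4, 3, true), (3, 4, true), (2, 5, true), (3, 1, true), (2, 2, true), (2, 0, true), (1, 31, true), (4, 21, true), (3, 22, true), (2, 24, true), (5, 1, true), (4, 2, true), (4, 0, true), (3, 39, true), (2, 42, true), (1, 43, true), (0, 44, true), (3, 28, true), (2, 29, true), (1, 30, true), (0, 31, true), (4, 6, true), (3, 7, true), (2, 8, true), (1, 9, true), (3, 21, true), (2, 22, true), (1, 23, true), (4, 1, true), (3, 2, true), (3, 6, true), (2, 8, true), (4, 28, true), (3, 30, true), (2, 31, true), (1, 34, true), (0, 35, true), (1, 21, true), (0, 23, true), (2, 1, true), (3, 6, true), (2, 7, true), (1, 8, true), (4, 3, true), (3, 4, true), (2, 5, true), (3, 0, true), (2, 16, true), (1, 18, true), (3, 11, true), (2, 13, true),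 (4, 7, true), (3, 9, true), (3, 2, true), (3, 21, true), (2, 25, true), (1, 26, true), (0, 27, true), (1, 11, true), (3, 15, true), (2, 16, true), (1, 19, true), (0, 20, true), (0, 11, true), (1, 2, true), (1, 3, true), (2, 1, true), (3, 0, true), (2, 11, true), (1, 12, true), (0, 14, true), (1, 4, true), (0, 5, true), (1, 6, true), (0, 7, true), (2, 1, true), (1, 2, true), (1, 0, true), (2, 2, true)], [(0, 140, true), (8, 140, true), (7, 56, true), (6, 57, true), (5, 58, true), (4, 59, true), (3, 61, true), (2, 63, true), (1, 64, true), (0, 65, true), (2, 36, true), (1, 37, true), (3, 3, true), (2, 4, true), (4, 1, true), (3, 2, true), (3, 0, true), (2, 23, true), (3, 8, true), (6, 10, true), (5, 11, true), (4, 12, true), (3, 13, true), (7, 3, true), (6, 4, true), (5, 5, true), (6, 6, true), (5, 7, true), (4, 9, true), (5, 3, true), (4, 4, true), (6, 1, true), (5, 2, true), (5, 45, true), (4, 47, true), (3, 49, true), (2, 51, true), (1, 53, true), (0, 54, true), (3, 36, true), (2, 37, true), (1, 38, true), (0, 39, true),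 (4, 3, true), (3, 4, true), (2, 5, true), (3, 1, true), (2, 2, true), (2, 0, true), (1, 24, true), (2, 13, true), (4, 4, true), (6, 36, true), (5, 37, true), (4, 38, true), (3, 39, true), (2, 40, true), (1, 42, true), (0, 44, true), (3, 21, true), (2, 22, true), (1, 23, true), (0, 24, true), (4, 1, true), (3, 2, true), (3, 10, true), (2, 12, true), (1, 13, true), (4, 6, true), (3, 8, true), (2, 9, true), (3, 3, true), (2, 5, true), (2, 1, true), (3, 0, true), (2, 22, true), (1, 25, true), (0, 27, true), (1, 11, true), (0, 14, true), (0, 7, true), (1, 4, true), (2, 2, true)]),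
     ([21, 23], [(0, 198, true), (0, 128, true), (3, 126, true), (2, 83, true), (1, 84, true), (0, 85, true), (5, 21, true), (4, 22, true), (3, 23, true), (2, 25, true), (6, 6, true), (5, 7, true), (4, 8, true), (7, 0, true), (6, 16, true), (5, 17, true), (4, 18, true), (3, 19, true), (7, 2, true), (6, 68, true), (5, 69, true), (4, 70, true), (3, 71, true), (2, 72, true), (1, 73, true), (5, 21, true), (4, 23, true), (3, 25, true), (6, 6, true), (5, 8, true), (7, 3, true), (6, 5, true), (6, 1, true), (7, 15, true), (6, 16, true), (5, 18, true), (4, 19, true), (8, 6, true), (7, 7, true), (6, 9, true), (7, 1, true), (6, 2, true), (6, 10, true), (5, 14, true), (5, 6, true), (6, 0, true), (5, 9, true), (5, 4, true), (6, 22, true), (5, 23, true), (4, 26, true), (3, 27, true), (4, 4, true), (5, 2, true), (4, 17, true), (3, 20, true), (3, 4, true), (4, 11, true), (3, 12, true), (5, 7, true), (4, 8, true), (6, 4, true), (5, 5, true)], [(0, 126, true), (8, 128, true), (7, 28, true), (6, 30, true), (5, 31, true), (4, 32, true), (3, 33,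 true), (2, 34, true), (4, 16, true), (5, 4, true), (6, 11, true), (5, 12, true), (7, 7, true), (6, 8, true), (8, 4, true), (7, 5, true), (8, 21, true), (7, 22, true), (6, 24, true), (5, 25, true), (4, 26, true), (3, 27, true), (4, 11, true), (5, 7, true), (6, 2, true), (6, 15, true), (5, 18, true), (4, 19, true), (3, 20, true), (3, 11, true), (4, 7, true)]),
     ([28, 21, 23], [(1, 198, true), (0, 142, true), (5, 140, true), (4, 56, true), (3, 59, true), (2, 60, true), (1, 61, true), (0, 62, true), (4, 21, true), (3, 22, true), (2, 24, true), (5, 6, true), (4, 7, true), (3, 9, true), (4, 1, true), (3, 2, true), (3, 0, true), (7, 10, true), (6, 11, true), (5, 12, true), (4, 13, true), (8, 3, true), (7, 4, true), (6, 5, true), (7, 1, true), (6, 2, true), (6, 45, true), (5, 48, true), (4, 49, true), (3, 50, true), (2, 51, true), (1, 52, true), (4, 21, true), (3, 22, true), (5, 15, true), (4, 16, true), (6, 6, true), (5, 7, true), (7, 3, true), (6, 4, true), (8, 1, true), (7, 2, true), (7, 0, true), (6, 12, true), (5, 13, true),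 (8, 7, true), (7, 8, true), (6, 9, true), (8, 36, true), (7, 37, true), (6, 38, true), (5, 40, true), (4, 41, true), (3, 42, true), (2, 43, true), (4, 24, true), (6, 16, true), (5, 18, true), (7, 7, true), (6, 9, true), (6, 4, true), (7, 2, true), (7, 10, true), (6, 12, true), (8, 3, true), (7, 5, true), (7, 1, true), (8, 0, true), (7, 22, true), (6, 25, true), (5, 26, true), (4, 27, true), (5, 11, true), (6, 2, true), (5, 14, true)], [(0, 140, true), (8, 142, true), (7, 29, true), (6, 30, true), (5, 31, true), (4, 32, true), (3, 34, true), (5, 11, true), (6, 7, true), (7, 4, true), (8, 2, true), (7, 23, true), (6, 24, true), (5, 25, true), (4, 27, true), (6, 17, true), (5, 18, true), (4, 19, true), (7, 12, true), (6, 13, true), (5, 14, true)]),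
     ([23, 23], [(0, 200, true), (0, 125, true), (6, 124, true), (12, 123, true), (17, 122, true), (5, 45, true), (4, 47, true), (3, 48, true), (2, 49, true), (1, 51, true), (0, 53, true), (4, 21, true), (3, 22, true), (2, 23, true), (5, 10, true), (4, 11, true), (3, 12, true), (6, 1, true), (5, 2, true), (5, 6, true), (4, 8, true), (6, 3, true), (5, 5, true), (5, 0, true), (4, 39, true), (3, 40, true), (2, 42, true), (1, 44, true), (4, 21, true), (3, 22, true), (2, 23, true), (1, 24, true), (5, 1, true), (4, 2, true), (4, 10, true), (3, 12, true), (2, 13, true), (5, 6, true), (4, 8, true), (3, 9, true), (4, 21, true), (3, 23, true), (2, 25, true), (1, 27, true), (3, 15, true), (2, 17, true), (1, 19, true), (4, 3, true), (3, 5, true), (3, 1, true), (4, 45, true), (3, 46, true), (2, 49, true), (1, 50, true), (0, 54, true), (3, 15, true), (2, 16, true), (1, 17, true), (0, 18, true), (4, 6, true), (3, 7, true), (2, 8, true), (1, 9, true), (3, 3, true), (2, 4, true), (1, 5, true), (2, 1, true), (1, 2, true), (1, 0, true), (2,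 2, true), (2, 21, true), (1, 25, true), (0, 26, true), (2, 11, true), (4, 15, true), (3, 16, true), (2, 19, true), (1, 20, true), (1, 11, true), (2, 2, true), (2, 6, true), (3, 3, true), (4, 21, true), (3, 23, true), (2, 24, true), (1, 25, true), (0, 27, true), (3, 10, true), (2, 12, true), (1, 13, true), (0, 14, true), (2, 6, true), (1, 8, true), (0, 9, true), (1, 3, true), (0, 5, true), (0, 1, true)], [(0, 128, true), (3, 128, true), (2, 33, true), (1, 34, true), (0, 35, true), (1, 21, true), (0, 23, true), (2, 1, true), (3, 15, true), (2, 16, true), (1, 17, true), (4, 3, true), (3, 4, true), (2, 5, true), (3, 21, true), (2, 22, true), (1, 26, true), (0, 27, true), (1, 2, true), (1, 15, true), (0, 20, true)]),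
     ([28, 23, 23], [(1, 200, true), (0, 139, true), (6, 138, true), (14, 137, true), (19, 136, true), (5, 45, true), (4, 46, true), (3, 51, true), (2, 52, true), (1, 53, true), (0, 54, true), (3, 36, true), (2, 37, true), (1, 38, true), (0, 39, true), (4, 3, true), (3, 4, true), (2, 5, true), (3, 1, true), (2, 2, true), (2, 0, true), (1, 31, true), (4, 21, true), (3, 22, true), (2, 24, true), (5, 1, true), (4, 2, true), (4, 0, true), (3, 39, true), (2, 42, true), (1, 43, true), (0, 44, true), (3, 28, true), (2, 29, true), (1, 30, true), (0, 31, true), (4, 6, true), (3, 7, true), (2, 8, true), (1, 9, true), (3, 21, true), (2, 22, true), (1, 23, true), (4, 1, true), (3, 2, true), (3, 6, true), (2, 8, true), (4, 28, true), (3, 30, true), (2, 31, true), (1, 34, true), (0, 35, true), (1, 21, true), (0, 23, true), (2, 1, true), (3, 6, true), (2, 7, true), (1, 8, true), (4, 3, true), (3, 4, true), (2, 5, true), (3, 0, true), (2, 16, true), (1, 18, true), (3, 11, true), (2, 13, true), (4, 7, true), (3, 9, true), (3, 2, true), (3,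 21, true), (2, 25, true), (1, 26, true), (0, 27, true), (1, 11, true), (3, 15, true), (2, 16, true), (1, 19, true), (0, 20, true), (0, 11, true), (1, 2, true), (1, 3, true), (2, 1, true), (3, 0, true), (2, 11, true), (1, 12, true), (0, 14, true), (1, 4, true), (0, 5, true)], [(0, 142, true), (5, 142, true), (4, 29, true), (3, 32, true), (2, 33, true), (1, 34, true), (0, 35, true), (1, 21, true), (0, 23, true), (2, 1, true), (3, 15, true), (2, 16, true), (1, 17, true), (4, 3, true), (3, 4, true), (2, 5, true), (3, 10, true), (2, 11, true), (4, 1, true), (3, 2, true), (3, 21, true), (2, 25, true), (1, 26, true), (0, 27, true), (1, 11, true), (3, 15, true), (2, 16, true), (1, 19, true), (0, 20, true), (0, 11, true), (1, 2, true), (1, 10, true), (0, 14, true), (0, 1, true)]),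
     ([19, 24], [(0, 206, true), (0, 129, true), (5, 124, true), (11, 122, true), (16, 121, true), (20, 120, true), (4, 46, true), (3, 47, true), (2, 53, true), (6, 3, true), (5, 4, true), (4, 5, true), (5, 1, true), (4, 2, true), (4, 36, true), (3, 44, true), (6, 0, true), (5, 22, true), (4, 23, true), (3, 24, true), (6, 16, true), (5, 17, true), (4, 18, true), (7, 4, true), (6, 5, true), (6, 2, true), (5, 24, true), (4, 26, true), (3, 27, true), (4, 7, true), (5, 11, true), (4, 13, true), (6, 7, true), (5, 9, true), (5, 4, true), (6, 2, true), (5, 8, true), (6, 5, true), (7, 6, true), (6, 7, true), (5, 9, true), (6, 1, true), (5, 2, true)], [(0, 124, true), (6, 129, true), (5, 106, true), (4, 107, true), (3, 110, true), (2, 111, true), (1, 113, true), (0, 114, true), (2, 40, true), (3, 25, true), (4, 14, true), (6, 21, true), (5, 22, true), (4, 24, true), (3, 27, true), (5, 6, true), (4, 7, true), (3, 9, true), (4, 0, true), (3, 16, true), (4, 11, true), (5, 7, true), (6, 4, true), (7, 2, true), (6, 5, true), (6, 2, true),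 (5, 58, true), (4, 59, true), (3, 60, true), (2, 63, true), (1, 64, true), (4, 36, true), (3, 37, true), (5, 3, true), (4, 4, true), (6, 1, true), (5, 2, true), (5, 0, true), (4, 17, true), (5, 8, true), (6, 5, true), (7, 10, true), (6, 11, true), (5, 13, true), (8, 3, true), (7, 4, true), (9, 6, true), (8, 7, true), (7, 8, true), (6, 9, true), (8, 36, true), (7, 37, true), (6, 38, true), (5, 40, true), (4, 41, true), (3, 44, true), (6, 15, true), (5, 16, true), (4, 17, true), (3, 18, true), (7, 6, true), (6, 7, true), (5, 8, true), (4, 9, true), (6, 3, true), (5, 4, true), (4, 5, true), (5, 1, true), (4, 2, true), (4, 0, true), (7, 3, true), (6, 4, true), (5, 5, true), (6, 1, true), (5, 2, true)]),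
     ([28, 19, 24], [(1, 206, true), (0, 143, true), (8, 138, true), (16, 136, true), (19, 135, true), (22, 134, true), (7, 45, true), (6, 46, true), (5, 47, true), (4, 49, true), (3, 52, true), (2, 53, true), (6, 28, true), (5, 29, true), (4, 30, true), (7, 1, true), (6, 2, true), (6, 0, true), (5, 12, true), (7, 4, true), (6, 5, true), (6, 2, true), (6, 36, true), (5, 40, true), (4, 43, true), (3, 44, true), (6, 28, true), (5, 29, true), (4, 30, true), (3, 31, true), (7, 6, true), (6, 7, true), (5, 8, true), (4, 9, true), (6, 10, true), (5, 11, true), (4, 12, true), (7, 0, true), (6, 29, true), (5, 30, true), (4, 32, true), (3, 35, true), (4, 10, true), (3, 12, true), (5, 3, true), (4, 5, true), (4, 1, true), (5, 15, true), (4, 16, true), (3, 19, true), (6, 10, true), (5, 11, true), (4, 14, true), (5, 6, true), (4, 7, true), (6, 1, true), (5, 2, true), (5, 0, true), (4, 13, true), (7, 6, true), (6, 8, true), (5, 9, true), (6, 1, true), (7, 0, true), (6, 4, true), (5, 5, true), (5, 2, true)], [(0, 138, true), (8, 143, true),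 (7, 78, true), (6, 79, true), (5, 81, true), (4, 82, true), (3, 83, true), (2, 85, true), (1, 86, true), (0, 87, true), (6, 36, true), (5, 38, true), (4, 39, true), (3, 40, true), (2, 42, true), (4, 11, true), (5, 7, true), (6, 4, true), (8, 21, true), (7, 22, true), (6, 23, true), (5, 24, true), (4, 25, true), (3, 27, true), (7, 10, true), (6, 11, true), (5, 12, true), (4, 13, true), (3, 14, true), (6, 6, true), (5, 7, true), (4, 8, true), (3, 9, true), (5, 0, true), (4, 29, true), (3, 30, true), (5, 11, true), (4, 12, true), (6, 4, true), (5, 5, true), (5, 2, true), (5, 15, true), (4, 19, true), (6, 1, true), (7, 10, true), (6, 11, true), (5, 14, true), (6, 3, true), (5, 4, true), (7, 6, true), (6, 7, true), (5, 8, true), (8, 1, true), (7, 2, true), (7, 1, true), (8, 0, true), (7, 56, true), (6, 57, true), (5, 58, true), (4, 60, true), (3, 62, true), (2, 63, true), (1, 64, true), (4, 36, true), (3, 37, true), (5, 3, true), (4, 4, true), (6, 1, true), (5, 2, true), (5, 0, true), (4, 30, true), (5, 8, true), (8, 15, true),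 (7, 16, true), (6, 17, true), (5, 18, true), (9, 6, true), (8, 7, true), (7, 8, true), (6, 9, true), (8, 3, true), (7, 4, true), (6, 5, true), (7, 1, true), (6, 2, true), (6, 0, true), (8, 37, true), (7, 38, true), (6, 39, true), (5, 41, true), (4, 43, true), (3, 44, true), (6, 28, true), (5, 29, true), (4, 30, true), (3, 31, true), (7, 6, true), (6, 7, true), (5, 8, true), (4, 9, true), (6, 15, true), (5, 16, true), (4, 17, true), (7, 6, true), (6, 7, true), (5, 8, true), (8, 3, true), (7, 4, true), (6, 5, true), (7, 1, true), (6, 2, true), (6, 0, true), (5, 9, true), (6, 29, true), (5, 30, true), (4, 33, true), (3, 35, true), (4, 15, true), (3, 17, true), (5, 3, true), (4, 5, true), (4, 3, true), (5, 1, true), (6, 10, true), (5, 11, true), (4, 12, true), (7, 3, true), (6, 4, true), (5, 5, true), (6, 1, true), (5, 2, true), (5, 0, true)]),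
     ([24, 24], [(0, 211, true), (0, 122, true)], [(0, 129, true), (5, 129, true), (4, 106, true), (3, 107, true), (2, 113, true), (1, 115, true), (0, 119, true), (5, 55, true), (4, 57, true), (3, 59, true), (2, 62, true), (1, 63, true), (0, 64, true), (3, 36, true), (2, 37, true), (4, 3, true), (3, 4, true), (5, 1, true), (4, 2, true), (4, 0, true), (3, 30, true), (4, 8, true), (7, 10, true), (6, 11, true), (5, 12, true), (4, 13, true), (8, 3, true), (7, 4, true), (6, 5, true), (7, 3, true), (6, 4, true), (8, 0, true), (7, 46, true), (6, 47, true), (5, 48, true), (4, 49, true), (3, 52, true), (2, 53, true), (1, 54, true), (4, 36, true), (3, 37, true), (2, 38, true), (1, 39, true), (5, 3, true), (4, 4, true), (3, 5, true), (4, 1, true), (3, 2, true), (3, 0, true), (2, 31, true), (5, 10, true), (4, 11, true), (3, 13, true), (6, 1, true), (5, 2, true), (5, 6, true), (4, 9, true), (4, 3, true), (5, 1, true), (6, 36, true), (5, 37, true), (4, 38, true), (3, 40, true), (2, 43, true), (1, 44, true), (4, 28, true), (3, 29, true),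 (2, 30, true), (1, 31, true), (5, 6, true), (4, 7, true), (3, 8, true), (2, 9, true), (4, 10, true), (3, 11, true), (2, 12, true), (5, 3, true), (4, 4, true), (3, 5, true), (4, 1, true), (3, 2, true), (3, 0, true), (2, 32, true), (1, 35, true), (2, 10, true), (1, 12, true), (3, 10, true), (2, 12, true), (1, 14, true), (2, 3, true), (1, 5, true), (1, 1, true), (2, 0, true), (1, 37, true), (2, 22, true), (3, 11, true), (4, 7, true), (5, 2, true), (5, 3, true), (6, 1, true), (7, 1, true), (6, 2, true), (6, 55, true), (5, 57, true), (4, 58, true), (3, 59, true), (2, 61, true), (1, 63, true), (0, 65, true), (3, 21, true), (2, 22, true), (1, 23, true), (4, 6, true), (3, 7, true), (2, 8, true), (5, 1, true), (4, 2, true), (4, 0, true), (3, 12, true), (2, 13, true), (4, 5, true), (3, 9, true), (4, 36, true), (3, 38, true), (2, 40, true), (1, 42, true), (0, 44, true), (3, 21, true), (2, 22, true), (1, 23, true), (0, 24, true), (4, 1, true), (3, 2, true), (3, 10, true), (2, 12, true), (1, 13, true), (4, 3, true), (3, 5, true), (3, 0,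 true)]),
     ([28, 24, 24], [(1, 211, true), (0, 136, true)], [(0, 143, true), (8, 143, true), (7, 78, true), (6, 79, true), (5, 80, true), (4, 82, true), (3, 85, true), (2, 86, true), (1, 88, true), (0, 90, true), (2, 55, true), (1, 58, true), (0, 60, true), (5, 6, true), (4, 7, true), (3, 8, true), (2, 9, true), (4, 0, true), (3, 22, true), (2, 23, true), (1, 26, true), (3, 4, true), (4, 2, true), (3, 17, true), (2, 20, true), (2, 4, true), (3, 11, true), (2, 12, true), (4, 4, true), (3, 5, true), (4, 36, true), (3, 37, true), (2, 40, true), (1, 42, true), (3, 11, true), (4, 2, true), (4, 21, true), (3, 25, true), (2, 27, true), (3, 10, true), (2, 14, true), (2, 6, true), (3, 0, true), (2, 31, true), (3, 13, true), (7, 10, true), (6, 11, true), (5, 12, true), (4, 13, true), (3, 14, true), (6, 3, true), (5, 4, true), (4, 5, true), (5, 3, true), (4, 4, true), (6, 1, true), (5, 2, true), (5, 0, true), (4, 57, true), (3, 58, true), (2, 62, true), (1, 63, true), (0, 65, true), (3, 28, true), (2, 29, true), (1, 30, true), (4,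 6, true), (3, 7, true), (2, 8, true), (5, 1, true), (4, 2, true), (4, 0, true), (3, 8, true), (2, 9, true), (2, 5, true), (1, 43, true), (0, 44, true), (3, 28, true), (2, 29, true), (1, 30, true), (0, 31, true), (4, 6, true), (3, 7, true), (2, 8, true), (1, 9, true), (3, 28, true), (2, 29, true), (1, 30, true), (0, 35, true), (1, 3, true), (0, 5, true), (0, 1, true), (1, 0, true), (0, 11, true), (1, 4, true), (2, 2, true)]),
     ([32, 32], [(0, 282, true), (0, 253, true), (4, 252, true), (3, 22, true), (2, 24, true), (1, 26, true), (0, 27, true), (1, 7, true), (2, 2, true), (1, 18, true), (0, 20, true), (0, 7, true), (1, 7, true), (0, 9, true), (0, 4, true)], [(0, 254, true), (6, 254, true), (5, 46, true), (4, 47, true), (3, 49, true), (2, 51, true), (1, 53, true), (0, 54, true), (3, 36, true), (2, 37, true), (1, 38, true), (0, 39, true), (4, 3, true), (3, 4, true), (2, 5, true), (3, 1, true), (2, 2, true), (2, 0, true), (1, 24, true), (2, 13, true), (4, 4, true), (5, 2, true), (4, 38, true), (3, 39, true), (2, 40, true),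 (1, 42, true), (0, 44, true), (3, 21, true), (2, 22, true), (1, 23, true), (0, 24, true), (4, 1, true), (3, 2, true), (3, 10, true), (2, 12, true), (1, 13, true), (4, 6, true), (3, 8, true), (2, 9, true), (3, 3, true), (2, 5, true), (2, 21, true), (1, 25, true), (0, 27, true), (1, 10, true), (0, 14, true), (0, 3, true), (1, 1, true)]),
     ([40, 32, 32], [(1, 282, true), (0, 264, true), (5, 263, true), (4, 22, true), (3, 23, true), (2, 24, true), (1, 26, true), (0, 27, true), (1, 7, true), (2, 4, true), (3, 2, true), (2, 17, true), (1, 18, true), (0, 20, true), (0, 7, true), (1, 4, true), (2, 7, true), (1, 8, true), (0, 9, true)], [(0, 265, true), (5, 265, true), (4, 55, true), (3, 57, true), (2, 60, true), (1, 62, true), (0, 65, true), (3, 15, true), (2, 16, true), (1, 18, true), (4, 6, true), (3, 7, true), (2, 9, true), (3, 3, true), (2, 4, true), (4, 1, true), (3, 2, true), (3, 0, true), (2, 5, true), (2, 28, true), (1, 33, true), (0, 35, true), (1, 15, true), (0, 17, true), (2, 3, true), (1, 5, true), (1, 0, true), (0,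 20, true), (0, 4, true)]),
     ([33, 33], [(0, 287, true)], [(0, 255, true), (9, 255, true), (8, 78, true), (7, 79, true), (6, 81, true), (5, 82, true), (4, 83, true), (3, 84, true), (2, 86, true), (1, 88, true), (0, 90, true), (2, 55, true), (1, 58, true), (0, 60, true), (5, 6, true), (4, 7, true), (3, 8, true), (2, 9, true), (4, 0, true), (3, 22, true), (2, 23, true), (1, 26, true), (3, 4, true), (4, 2, true), (3, 17, true), (2, 20, true), (2, 4, true), (3, 11, true), (2, 12, true), (4, 4, true), (3, 5, true), (4, 36, true), (3, 37, true), (2, 40, true), (1, 42, true), (3, 11, true), (4, 2, true), (4, 21, true), (3, 25, true), (2, 27, true), (3, 10, true), (2, 14, true), (2, 6, true), (3, 0, true), (2, 24, true), (3, 9, true), (3, 15, true), (4, 1, true), (5, 10, true), (4, 11, true), (6, 3, true), (5, 4, true), (7, 6, true), (6, 7, true), (5, 8, true), (8, 1, true), (7, 2, true), (7, 1, true), (8, 0, true), (7, 56, true), (6, 57, true), (5, 58, true), (4, 59, true), (3, 60, true), (2, 61, true), (1, 63, true), (0, 65,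 true), (3, 21, true), (2, 22, true), (1, 23, true), (4, 6, true), (3, 7, true), (2, 8, true), (5, 1, true), (4, 2, true), (4, 0, true), (3, 17, true), (2, 18, true), (4, 8, true), (3, 9, true), (3, 5, true), (4, 10, true), (3, 11, true), (5, 3, true), (4, 4, true), (6, 6, true), (5, 7, true), (4, 8, true), (7, 3, true), (6, 4, true), (5, 5, true), (6, 1, true), (5, 2, true), (5, 36, true), (4, 39, true), (3, 40, true), (2, 41, true), (1, 42, true), (0, 44, true), (3, 21, true), (2, 22, true), (1, 23, true), (0, 24, true), (4, 1, true), (3, 2, true), (3, 15, true), (2, 17, true), (1, 18, true), (4, 6, true), (3, 8, true), (2, 9, true), (3, 3, true), (2, 5, true), (2, 1, true), (3, 0, true), (2, 11, true), (3, 7, true), (5, 21, true), (4, 22, true), (3, 24, true), (2, 25, true), (1, 26, true), (0, 27, true), (1, 11, true), (2, 7, true), (3, 2, true), (3, 15, true), (2, 18, true), (1, 19, true), (0, 20, true), (0, 11, true), (1, 7, true), (3, 10, true), (2, 11, true), (1, 13, true), (0, 14, true), (2, 6, true), (1, 7, true),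 (0, 9, true), (1, 1, true), (0, 2, true), (0, 0, true)]),
     ([40, 33, 33], [(1, 287, true)], [(0, 266, true), (5, 266, true), (4, 93, true), (3, 95, true), (2, 100, true), (1, 101, true), (0, 104, true), (4, 55, true), (3, 57, true), (2, 58, true), (1, 61, true), (0, 62, true), (4, 21, true), (3, 22, true), (2, 24, true), (5, 6, true), (4, 7, true), (3, 9, true), (4, 1, true), (3, 2, true), (3, 0, true), (5, 1, true), (6, 0, true), (5, 46, true), (4, 47, true), (3, 48, true), (2, 51, true), (1, 52, true), (4, 21, true), (3, 22, true), (5, 6, true), (4, 7, true), (6, 3, true), (5, 4, true), (7, 1, true), (6, 2, true), (6, 28, true), (5, 30, true), (4, 31, true), (3, 34, true), (2, 35, true), (3, 21, true), (2, 23, true), (4, 1, true), (5, 6, true), (4, 7, true), (3, 8, true), (6, 3, true), (5, 4, true), (4, 5, true), (5, 0, true), (4, 22, true), (3, 24, true), (2, 27, true), (3, 4, true), (4, 2, true), (3, 12, true), (2, 13, true), (4, 5, true), (4, 4, true), (5, 56, true), (4, 57, true), (3, 58, true), (2, 59, true), (1,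 64, true), (0, 65, true), (2, 10, true), (1, 11, true), (3, 3, true), (2, 4, true), (4, 6, true), (3, 7, true), (2, 8, true), (5, 3, true), (4, 4, true), (3, 5, true), (4, 1, true), (3, 2, true), (3, 45, true), (2, 48, true), (1, 49, true), (0, 54, true), (3, 10, true), (2, 11, true), (1, 12, true), (0, 13, true), (4, 1, true), (3, 2, true), (3, 6, true), (2, 8, true), (1, 9, true), (2, 0, true), (1, 12, true), (0, 14, true), (0, 5, true)]),
     ([32, 35], [(0, 297, true), (0, 257, true), (7, 254, true), (13, 253, true), (17, 252, true), (6, 45, true), (5, 46, true), (4, 48, true), (3, 50, true), (2, 54, true), (5, 15, true), (4, 16, true), (3, 17, true), (2, 18, true), (6, 6, true), (5, 7, true), (4, 8, true), (3, 9, true), (5, 3, true), (4, 4, true), (3, 5, true), (4, 1, true), (3, 2, true), (3, 0, true), (5, 36, true), (4, 37, true), (3, 39, true), (2, 41, true), (7, 6, true), (6, 7, true), (5, 8, true), (4, 9, true), (6, 1, true), (5, 2, true), (5, 0, true), (4, 23, true), (3, 26, true), (5, 4, true), (6, 11, true), (5,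 12, true), (7, 4, true), (6, 5, true), (6, 2, true), (5, 25, true), (4, 26, true), (3, 27, true), (4, 11, true), (5, 16, true), (4, 19, true), (3, 20, true), (3, 11, true), (4, 2, true), (5, 22, true), (4, 24, true), (3, 25, true), (6, 16, true), (5, 18, true), (4, 19, true), (7, 7, true), (6, 9, true), (6, 4, true)], [(0, 254, true), (6, 257, true), (5, 79, true), (4, 80, true), (3, 82, true), (2, 84, true), (1, 86, true), (0, 87, true), (6, 36, true), (5, 38, true), (4, 39, true), (3, 40, true), (2, 42, true), (4, 11, true), (5, 7, true), (6, 4, true), (8, 21, true), (7, 22, true), (6, 23, true), (5, 24, true), (4, 25, true), (3, 27, true), (7, 10, true), (6, 11, true), (5, 12, true), (4, 13, true), (3, 14, true), (6, 6, true), (5, 7, true), (4, 8, true), (3, 9, true), (5, 0, true), (4, 22, true), (3, 23, true), (5, 7, true), (4, 8, true), (7, 10, true), (6, 11, true), (5, 12, true), (4, 13, true), (8, 3, true), (7, 4, true), (6, 5, true), (7, 3, true), (6, 4, true), (8, 1, true), (7, 2, true), (7, 55, true), (6, 57, true),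 (5, 58, true), (4, 59, true), (3, 61, true), (2, 63, true), (1, 64, true), (4, 36, true), (3, 37, true), (5, 3, true), (4, 4, true), (6, 1, true), (5, 2, true), (5, 0, true), (4, 23, true), (5, 8, true), (8, 10, true), (7, 11, true), (6, 12, true), (5, 13, true), (9, 3, true), (8, 4, true), (7, 5, true), (8, 6, true), (7, 7, true), (6, 9, true), (7, 3, true), (6, 4, true), (8, 0, true), (7, 46, true), (6, 47, true), (5, 49, true), (4, 51, true), (3, 53, true), (2, 54, true), (5, 36, true), (4, 37, true), (3, 38, true), (2, 39, true), (6, 3, true), (5, 4, true), (4, 5, true), (5, 1, true), (4, 2, true), (4, 0, true), (3, 24, true), (4, 13, true), (6, 4, true), (7, 2, true), (6, 17, true), (5, 18, true), (4, 19, true), (7, 8, true), (6, 9, true)]),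
     ([40, 32, 35], [(1, 297, true), (0, 268, true), (5, 265, true), (10, 264, true), (15, 263, true), (4, 56, true), (3, 60, true), (2, 63, true), (1, 65, true), (4, 15, true), (3, 16, true), (2, 17, true), (5, 6, true), (4, 7, true), (3, 8, true), (6, 3, true), (5, 4, true), (4, 5, true), (5, 1, true), (4, 2, true), (4, 0, true), (4, 29, true), (3, 31, true), (2, 33, true), (4, 8, true), (6, 16, true), (5, 17, true), (4, 18, true), (3, 20, true), (3, 7, true), (4, 4, true), (5, 2, true), (4, 5, true), (4, 21, true), (3, 24, true), (5, 15, true), (4, 18, true), (6, 6, true), (5, 9, true), (5, 3, true), (6, 1, true), (7, 21, true), (6, 22, true), (5, 23, true), (4, 26, true), (3, 27, true), (4, 4, true), (5, 2, true), (5, 15, true), (4, 17, true), (3, 20, true), (3, 4, true), (5, 6, true), (4, 7, true), (3, 8, true), (6, 0, true)], [(0, 265, true), (5, 268, true), (4, 91, true), (3, 93, true), (2, 96, true), (1, 98, true), (0, 101, true), (3, 28, true), (2, 29, true), (4, 10, true), (3, 11, true), (5, 6, true), (4, 7, true),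 (6, 1, true), (5, 2, true), (5, 0, true), (4, 18, true), (3, 19, true), (5, 13, true), (4, 14, true), (6, 55, true), (5, 57, true), (4, 58, true), (3, 60, true), (2, 62, true), (1, 65, true), (4, 15, true), (3, 16, true), (2, 18, true), (5, 6, true), (4, 7, true), (3, 9, true), (4, 3, true), (3, 4, true), (5, 1, true), (4, 2, true), (4, 0, true), (3, 8, true), (4, 5, true), (4, 36, true), (3, 39, true), (2, 41, true), (1, 43, true), (3, 18, true), (4, 9, true), (6, 6, true), (5, 7, true), (4, 8, true), (7, 0, true), (6, 16, true), (5, 17, true), (4, 18, true), (3, 20, true), (3, 7, true), (4, 4, true), (5, 2, true)]),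
     ([33, 35], [(0, 298, true), (0, 257, true), (7, 255, true), (16, 251, true), (6, 78, true), (5, 79, true), (4, 81, true), (3, 83, true), (2, 87, true), (1, 88, true), (0, 90, true), (2, 55, true), (1, 58, true), (0, 60, true), (5, 6, true), (4, 7, true), (3, 8, true), (2, 9, true), (4, 0, true), (3, 22, true), (2, 23, true), (1, 26, true), (3, 4, true), (4, 2, true), (3, 17, true), (2, 20, true), (2, 4, true), (3, 11, true), (2, 12, true), (4, 4, true), (3, 5, true), (4, 45, true), (3, 46, true), (2, 49, true), (1, 51, true), (4, 2, true), (4, 21, true), (3, 25, true), (2, 27, true), (3, 10, true), (2, 14, true), (2, 6, true), (3, 3, true), (4, 0, true), (3, 17, true), (2, 18, true), (5, 7, true), (4, 8, true), (3, 9, true), (4, 2, true), (5, 55, true), (4, 56, true), (3, 57, true), (2, 60, true), (1, 64, true), (0, 65, true), (2, 15, true), (1, 16, true), (3, 6, true), (2, 7, true), (4, 3, true), (3, 4, true), (5, 1, true), (4, 2, true), (4, 0, true), (3, 5, true), (4, 36, true), (3, 37, true), (2, 39, true), (1, 41,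 true), (6, 6, true), (5, 7, true), (4, 8, true), (3, 9, true), (5, 1, true), (4, 2, true), (4, 0, true), (3, 23, true), (2, 26, true), (4, 4, true), (5, 16, true), (4, 17, true), (3, 20, true), (3, 4, true), (4, 2, true), (3, 12, true), (4, 8, true), (7, 3, true), (6, 4, true), (5, 5, true), (6, 0, true)], [(0, 255, true), (9, 257, true), (8, 78, true), (7, 79, true), (6, 81, true), (5, 82, true), (4, 83, true), (3, 84, true), (2, 86, true), (1, 88, true), (0, 90, true), (2, 55, true), (1, 58, true), (0, 60, true), (5, 6, true), (4, 7, true), (3, 8, true), (2, 9, true), (4, 0, true), (3, 22, true), (2, 23, true), (1, 26, true), (3, 4, true), (4, 2, true), (3, 17, true), (2, 20, true), (2, 4, true), (3, 11, true), (2, 12, true), (4, 4, true), (3, 5, true), (4, 36, true), (3, 37, true), (2, 40, true), (1, 42, true), (3, 11, true), (4, 2, true), (4, 21, true), (3, 25, true), (2, 27, true), (3, 10, true), (2, 14, true), (2, 6, true), (3, 0, true), (2, 24, true), (3, 9, true), (3, 15, true), (4, 1, true), (5, 10, true), (4, 11,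 true), (6, 3, true), (5, 4, true), (7, 6, true), (6, 7, true), (5, 8, true), (8, 1, true), (7, 2, true), (7, 1, true), (8, 0, true), (7, 56, true), (6, 57, true), (5, 58, true), (4, 59, true), (3, 60, true), (2, 61, true), (1, 63, true), (0, 65, true), (3, 21, true), (2, 22, true), (1, 23, true), (4, 6, true), (3, 7, true), (2, 8, true), (5, 1, true), (4, 2, true), (4, 0, true), (3, 17, true), (2, 18, true), (4, 8, true), (3, 9, true), (3, 5, true), (4, 10, true), (3, 11, true), (5, 3, true), (4, 4, true), (6, 6, true), (5, 7, true), (4, 8, true), (7, 3, true), (6, 4, true), (5, 5, true), (6, 1, true), (5, 2, true), (5, 45, true), (4, 48, true), (3, 49, true), (2, 50, true), (1, 51, true), (0, 53, true), (4, 21, true), (3, 22, true), (2, 23, true), (5, 15, true), (4, 16, true), (3, 17, true), (6, 6, true), (5, 7, true), (4, 8, true), (7, 3, true), (6, 4, true), (5, 5, true), (6, 1, true), (5, 2, true), (5, 0, true), (4, 13, true), (6, 7, true), (5, 9, true), (6, 15, true), (5, 16, true), (4, 19, true), (3, 20, true), (3, 11,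 true), (4, 2, true), (4, 6, true), (5, 1, true), (6, 0, true)]),
     ([40, 33, 35], [(1, 298, true), (0, 268, true), (5, 266, true), (10, 262, true), (4, 92, true), (3, 96, true), (2, 99, true), (1, 101, true), (0, 104, true), (4, 55, true), (3, 57, true), (2, 58, true), (1, 61, true), (0, 62, true), (4, 21, true), (3, 22, true), (2, 24, true), (5, 6, true), (4, 7, true), (3, 9, true), (4, 1, true), (3, 2, true), (3, 0, true), (5, 1, true), (6, 0, true), (5, 37, true), (4, 38, true), (3, 39, true), (2, 42, true), (1, 43, true), (3, 24, true), (5, 7, true), (4, 9, true), (4, 4, true), (5, 2, true), (4, 30, true), (3, 34, true), (2, 35, true), (3, 21, true), (2, 23, true), (4, 1, true), (5, 3, true), (4, 4, true), (3, 5, true), (4, 15, true), (3, 16, true), (5, 10, true), (4, 11, true), (6, 6, true), (5, 7, true), (7, 1, true), (6, 2, true), (6, 15, true), (5, 18, true), (4, 19, true), (3, 20, true), (3, 11, true), (4, 7, true), (6, 10, true), (5, 11, true), (4, 13, true), (3, 14, true), (5, 1, true), (4, 2, true), (4, 55,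 true), (3, 58, true), (2, 61, true), (1, 63, true), (0, 65, true), (3, 21, true), (2, 22, true), (1, 23, true), (4, 6, true), (3, 7, true), (2, 8, true), (5, 1, true), (4, 2, true), (4, 0, true), (3, 8, true), (2, 9, true), (3, 45, true), (2, 47, true), (1, 51, true), (0, 53, true), (4, 21, true), (3, 22, true), (2, 23, true), (5, 3, true), (4, 4, true), (3, 5, true), (4, 0, true), (3, 11, true), (4, 4, true), (5, 22, true), (4, 23, true), (3, 25, true), (2, 27, true), (4, 16, true), (3, 17, true), (2, 19, true), (5, 7, true), (4, 8, true), (6, 4, true), (5, 5, true)], [(0, 266, true), (5, 268, true), (4, 93, true), (3, 95, true), (2, 100, true), (1, 101, true), (0, 104, true), (4, 55, true), (3, 57, true), (2, 58, true), (1, 61, true), (0, 62, true), (4, 21, true), (3, 22, true), (2, 24, true), (5, 6, true), (4, 7, true), (3, 9, true), (4, 1, true), (3, 2, true), (3, 0, true), (5, 1, true), (6, 0, true), (5, 46, true), (4, 47, true), (3, 48, true), (2, 51, true), (1, 52, true), (4, 21, true), (3, 22, true), (5, 6, true),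 (4, 7, true), (6, 3, true), (5, 4, true), (7, 1, true), (6, 2, true), (6, 28, true), (5, 30, true), (4, 31, true), (3, 34, true), (2, 35, true), (3, 21, true), (2, 23, true), (4, 1, true), (5, 6, true), (4, 7, true), (3, 8, true), (6, 3, true), (5, 4, true), (4, 5, true), (5, 0, true), (4, 22, true), (3, 24, true), (2, 27, true), (3, 4, true), (4, 2, true), (3, 12, true), (2, 13, true), (4, 5, true), (4, 4, true), (5, 56, true), (4, 57, true), (3, 58, true), (2, 59, true), (1, 64, true), (0, 65, true), (2, 10, true), (1, 11, true), (3, 3, true), (2, 4, true), (4, 6, true), (3, 7, true), (2, 8, true), (5, 3, true), (4, 4, true), (3, 5, true), (4, 1, true), (3, 2, true), (3, 36, true), (2, 39, true), (1, 40, true), (4, 15, true), (3, 18, true), (2, 19, true), (5, 1, true)]),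
     ([35, 35], [(0, 300, true), (0, 253, true), (4, 252, true), (9, 251, true), (3, 22, true), (2, 24, true), (1, 26, true), (0, 27, true), (1, 7, true), (2, 2, true), (1, 18, true), (0, 20, true), (0, 7, true), (1, 7, true), (0, 9, true), (0, 4, true), (2, 3, true), (1, 4, true), (0, 5, true), (1, 0, true)], [(0, 257, true), (7, 257, true), (6, 78, true), (5, 79, true), (4, 81, true), (3, 83, true), (2, 87, true), (1, 88, true), (0, 90, true), (2, 55, true), (1, 58, true), (0, 60, true), (5, 6, true), (4, 7, true), (3, 8, true), (2, 9, true), (4, 0, true), (3, 22, true), (2, 23, true), (1, 26, true), (3, 4, true), (4, 2, true), (3, 17, true), (2, 20, true), (2, 4, true), (3, 11, true), (2, 12, true), (4, 4, true), (3, 5, true), (4, 45, true), (3, 46, true), (2, 49, true), (1, 51, true), (4, 2, true), (4, 21, true), (3, 25, true), (2, 27, true), (3, 10, true), (2, 14, true), (2, 6, true), (3, 3, true), (4, 0, true), (3, 17, true), (2, 18, true), (5, 7, true), (4, 8, true), (3, 9, true), (4, 2, true), (5, 55, true), (4, 56,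 true), (3, 57, true), (2, 60, true), (1, 64, true), (0, 65, true), (2, 15, true), (1, 16, true), (3, 6, true), (2, 7, true), (4, 3, true), (3, 4, true), (5, 1, true), (4, 2, true), (4, 0, true), (3, 5, true), (4, 45, true), (3, 46, true), (2, 48, true), (1, 50, true), (0, 54, true), (3, 15, true), (2, 16, true), (1, 17, true), (0, 18, true), (4, 6, true), (3, 7, true), (2, 8, true), (1, 9, true), (3, 3, true), (2, 4, true), (1, 5, true), (2, 1, true), (1, 2, true), (1, 0, true), (3, 15, true), (2, 16, true), (1, 18, true), (0, 20, true), (0, 7, true), (1, 2, true), (1, 6, true), (0, 9, true), (0, 1, true), (1, 0, true)]),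
     ([40, 35, 35], [(1, 300, true), (0, 264, true), (5, 263, true), (9, 262, true), (4, 22, true), (3, 23, true), (2, 24, true), (1, 26, true), (0, 27, true), (1, 7, true), (2, 4, true), (3, 2, true), (2, 17, true), (1, 18, true), (0, 20, true), (0, 7, true), (1, 4, true), (2, 7, true), (1, 8, true), (0, 9, true), (2, 21, true), (1, 22, true), (0, 23, true), (3, 15, true), (2, 16, true), (1, 17, true), (4, 6, true), (3, 7, true), (2, 8, true), (5, 3, true), (4, 4, true), (3, 5, true), (4, 0, true)], [(0, 268, true), (5, 268, true), (4, 92, true), (3, 96, true), (2, 99, true), (1, 101, true), (0, 104, true), (4, 55, true), (3, 57, true), (2, 58, true), (1, 61, true), (0, 62, true), (4, 21, true), (3, 22, true), (2, 24, true), (5, 6, true), (4, 7, true), (3, 9, true), (4, 1, true), (3, 2, true), (3, 0, true), (5, 1, true), (6, 0, true), (5, 37, true), (4, 38, true), (3, 39, true), (2, 42, true), (1, 43, true), (3, 24, true), (5, 7, true), (4, 9, true), (4, 4, true), (5, 2, true), (4, 30, true), (3, 34, true), (2, 35, true),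 (3, 21, true), (2, 23, true), (4, 1, true), (5, 3, true), (4, 4, true), (3, 5, true), (4, 15, true), (3, 16, true), (5, 10, true), (4, 11, true), (6, 6, true), (5, 7, true), (7, 1, true), (6, 2, true), (6, 15, true), (5, 18, true), (4, 19, true), (3, 20, true), (3, 11, true), (4, 7, true), (6, 10, true), (5, 11, true), (4, 13, true), (3, 14, true), (5, 1, true), (4, 2, true), (4, 55, true), (3, 58, true), (2, 61, true), (1, 63, true), (0, 65, true), (3, 21, true), (2, 22, true), (1, 23, true), (4, 6, true), (3, 7, true), (2, 8, true), (5, 1, true), (4, 2, true), (4, 0, true), (3, 8, true), (2, 9, true), (3, 36, true), (2, 38, true), (1, 42, true), (0, 44, true), (3, 21, true), (2, 22, true), (1, 23, true), (0, 24, true), (4, 1, true), (3, 2, true), (3, 3, true), (2, 5, true), (2, 0, true), (1, 18, true)]),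
     ([33, 36], [(0, 305, true), (0, 258, true), (7, 255, true), (16, 252, true), (6, 78, true), (5, 79, true), (4, 81, true), (3, 84, true), (2, 85, true), (1, 86, true), (0, 90, true), (2, 36, true), (1, 39, true), (0, 41, true), (5, 6, true), (4, 7, true), (3, 8, true), (2, 9, true), (4, 0, true), (3, 22, true), (2, 23, true), (1, 26, true), (3, 4, true), (4, 2, true), (3, 12, true), (4, 8, true), (6, 28, true), (5, 30, true), (4, 31, true), (3, 32, true), (2, 33, true), (1, 34, true), (3, 16, true), (4, 4, true), (5, 11, true), (4, 12, true), (6, 7, true), (5, 8, true), (7, 4, true), (6, 5, true), (7, 10, true), (6, 11, true), (5, 13, true), (4, 14, true), (6, 3, true), (5, 4, true), (7, 1, true), (6, 2, true), (6, 0, true), (5, 23, true), (4, 24, true), (3, 26, true), (2, 27, true), (3, 7, true), (4, 4, true), (5, 7, true), (4, 8, true), (3, 9, true), (5, 6, true), (4, 7, true), (3, 8, true), (6, 1, true), (5, 2, true), (5, 1, true), (6, 0, true), (5, 56, true), (4, 57, true), (3, 58, true), (2, 60, true), (1, 62, true),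 (0, 63, true), (4, 28, true), (3, 29, true), (2, 30, true), (5, 6, true), (4, 7, true), (3, 8, true), (6, 1, true), (5, 2, true), (5, 0, true), (4, 17, true), (3, 18, true), (5, 8, true), (4, 9, true), (4, 5, true), (5, 6, true), (4, 7, true), (6, 3, true), (5, 4, true), (7, 1, true), (6, 2, true), (6, 36, true), (5, 38, true), (4, 39, true), (3, 41, true), (2, 43, true), (1, 44, true), (4, 28, true), (3, 29, true), (2, 30, true), (1, 31, true), (5, 6, true), (4, 7, true), (3, 8, true), (2, 9, true), (4, 15, true), (3, 16, true), (2, 17, true), (5, 6, true), (4, 7, true), (3, 8, true), (6, 3, true), (5, 4, true), (4, 5, true), (5, 1, true), (4, 2, true), (4, 0, true), (3, 9, true), (4, 21, true), (3, 23, true), (2, 26, true), (4, 4, true), (6, 15, true), (5, 16, true), (4, 17, true), (3, 20, true), (3, 4, true), (4, 2, true), (4, 10, true), (3, 12, true), (5, 6, true), (4, 8, true), (6, 1, true), (7, 0, true), (6, 22, true), (5, 23, true), (4, 24, true), (3, 25, true), (2, 27, true), (5, 16, true), (4, 17, true), (3, 18, true),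 (2, 19, true), (6, 7, true), (5, 8, true), (4, 9, true), (5, 4, true), (4, 5, true)], [(0, 255, true), (9, 258, true), (8, 78, true), (7, 79, true), (6, 81, true), (5, 82, true), (4, 83, true), (3, 84, true), (2, 86, true), (1, 88, true), (0, 90, true), (2, 55, true), (1, 58, true), (0, 60, true), (5, 6, true), (4, 7, true), (3, 8, true), (2, 9, true), (4, 0, true), (3, 22, true), (2, 23, true), (1, 26, true), (3, 4, true), (4, 2, true), (3, 17, true), (2, 20, true), (2, 4, true), (3, 11, true), (2, 12, true), (4, 4, true), (3, 5, true), (4, 36, true), (3, 37, true), (2, 40, true), (1, 42, true), (3, 11, true), (4, 2, true), (4, 21, true), (3, 25, true), (2, 27, true), (3, 10, true), (2, 14, true), (2, 6, true), (3, 0, true), (2, 24, true), (3, 9, true), (3, 15, true), (4, 1, true), (5, 10, true), (4, 11, true), (6, 3, true), (5, 4, true), (7, 6, true), (6, 7, true), (5, 8, true), (8, 1, true), (7, 2, true), (7, 1, true), (8, 0, true), (7, 37, true), (6, 38, true), (5, 39, true), (4, 40, true), (3, 41, true), (2, 42, true),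 (1, 44, true), (4, 21, true), (3, 22, true), (2, 23, true), (1, 24, true), (5, 1, true), (4, 2, true), (4, 15, true), (3, 17, true), (2, 18, true), (5, 6, true), (4, 8, true), (3, 9, true), (4, 3, true), (3, 5, true), (3, 1, true), (4, 0, true), (3, 11, true), (4, 7, true), (5, 4, true), (6, 2, true), (5, 30, true), (4, 31, true), (3, 32, true), (2, 33, true), (1, 34, true), (3, 16, true), (4, 4, true), (5, 11, true), (4, 12, true), (6, 7, true), (5, 8, true), (7, 4, true), (6, 5, true), (6, 22, true), (5, 24, true), (4, 25, true), (3, 26, true), (2, 27, true), (3, 11, true), (4, 7, true), (5, 2, true), (4, 9, true)]),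
     ([40, 33, 36], [(1, 305, true), (0, 269, true), (7, 266, true), (12, 263, true), (6, 91, true), (5, 93, true), (4, 94, true), (3, 96, true), (2, 100, true), (1, 101, true), (0, 103, true), (7, 55, true), (6, 56, true), (5, 57, true), (4, 58, true), (3, 59, true), (2, 62, true), (6, 10, true), (5, 11, true), (4, 13, true), (7, 3, true), (6, 4, true), (8, 6, true), (7, 7, true), (6, 8, true), (5, 9, true), (7, 3, true), (6, 4, true), (5, 5, true), (6, 1, true), (5, 2, true), (5, 0, true), (6, 45, true), (5, 46, true), (4, 49, true), (3, 52, true), (6, 10, true), (5, 11, true), (7, 1, true), (6, 2, true), (6, 1, true), (7, 0, true), (6, 29, true), (5, 32, true), (4, 35, true), (5, 10, true), (4, 12, true), (6, 1, true), (7, 21, true), (6, 22, true), (5, 23, true), (4, 25, true), (8, 3, true), (7, 4, true), (6, 5, true), (7, 1, true), (6, 2, true), (6, 15, true), (5, 19, true), (7, 10, true), (6, 14, true), (6, 6, true), (7, 3, true), (8, 3, true), (7, 5, true), (7, 0, true), (6, 58, true), (5, 60, true), (4, 61, true), (3,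 64, true), (2, 65, true), (4, 21, true), (3, 22, true), (5, 6, true), (4, 7, true), (6, 1, true), (5, 2, true), (5, 0, true), (4, 18, true), (5, 9, true), (7, 6, true), (6, 7, true), (5, 8, true), (8, 45, true), (7, 46, true), (6, 47, true), (5, 48, true), (4, 50, true), (3, 51, true), (2, 54, true), (5, 21, true), (4, 22, true), (3, 23, true), (2, 24, true), (6, 15, true), (5, 16, true), (4, 17, true), (3, 18, true), (7, 6, true), (6, 7, true), (5, 8, true), (4, 9, true), (6, 3, true), (5, 4, true), (4, 5, true), (5, 1, true), (4, 2, true), (4, 0, true), (7, 10, true), (6, 11, true), (5, 12, true), (4, 13, true), (8, 3, true), (7, 4, true), (6, 5, true), (7, 21, true), (6, 22, true), (5, 24, true), (4, 25, true), (3, 26, true), (2, 27, true), (3, 11, true), (4, 7, true), (5, 2, true), (5, 15, true), (4, 18, true), (3, 19, true), (2, 20, true), (2, 11, true), (3, 7, true), (5, 6, true), (4, 7, true), (3, 9, true), (4, 0, true)], [(0, 266, true), (5, 269, true), (4, 80, true), (3, 82, true), (2, 87, true), (1, 88, true), (7,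 45, true), (6, 47, true), (5, 49, true), (4, 50, true), (3, 51, true), (9, 10, true), (8, 11, true), (7, 12, true), (6, 13, true), (10, 1, true), (9, 2, true), (9, 3, true), (8, 5, true), (8, 0, true), (7, 24, true), (6, 25, true), (5, 26, true), (4, 27, true), (5, 11, true), (6, 7, true), (7, 11, true), (6, 13, true), (5, 14, true), (6, 7, true), (5, 9, true), (5, 4, true), (7, 10, true), (6, 11, true), (5, 12, true), (8, 3, true), (7, 4, true), (6, 5, true), (7, 3, true), (6, 4, true), (8, 55, true), (7, 56, true), (6, 57, true), (5, 59, true), (4, 60, true), (3, 64, true), (2, 65, true), (4, 15, true), (3, 16, true), (5, 6, true), (4, 7, true), (6, 3, true), (5, 4, true), (7, 1, true), (6, 2, true), (6, 0, true), (5, 12, true), (4, 13, true), (6, 5, true), (8, 45, true), (7, 46, true), (6, 47, true), (5, 48, true), (4, 49, true), (3, 50, true), (2, 54, true), (5, 15, true), (4, 16, true), (3, 17, true), (2, 18, true), (6, 6, true), (5, 7, true), (4, 8, true), (3, 9, true), (5, 3, true), (4, 4, true), (3, 5, true), (4, 1,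 true), (3, 2, true), (3, 0, true), (4, 7, true), (5, 4, true), (6, 2, true), (6, 15, true), (5, 17, true), (4, 18, true), (3, 19, true), (2, 20, true), (2, 11, true), (3, 7, true), (4, 4, true), (6, 6, true), (5, 7, true), (4, 8, true), (3, 9, true), (5, 3, true), (4, 4, true), (3, 5, true), (4, 0, true)]),
     ([33, 37], [(0, 313, true), (0, 259, true), (5, 255, true), (14, 253, true), (4, 78, true), (3, 81, true), (2, 85, true), (1, 87, true), (0, 90, true), (2, 45, true), (1, 48, true), (0, 50, true), (5, 6, true), (4, 7, true), (3, 8, true), (2, 9, true), (4, 0, true), (3, 22, true), (2, 23, true), (1, 26, true), (3, 4, true), (4, 2, true), (3, 12, true), (4, 8, true), (5, 5, true), (5, 28, true), (4, 31, true), (3, 32, true), (2, 33, true), (1, 34, true), (3, 16, true), (4, 4, true), (5, 11, true), (4, 12, true), (6, 7, true), (5, 8, true), (8, 10, true), (7, 11, true), (6, 12, true), (5, 13, true), (4, 14, true), (7, 3, true), (6, 4, true), (5, 5, true), (6, 1, true), (5, 2, true), (5, 0, true), (4, 9, true), (5, 55,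 true), (4, 56, true), (3, 60, true), (2, 61, true), (1, 62, true), (0, 64, true), (3, 28, true), (2, 29, true), (4, 6, true), (3, 7, true), (5, 1, true), (4, 2, true), (4, 0, true), (3, 24, true), (4, 9, true), (5, 15, true), (4, 16, true), (6, 6, true), (5, 7, true), (7, 3, true), (6, 4, true), (8, 1, true), (7, 2, true), (7, 0, true), (8, 36, true), (7, 37, true), (6, 38, true), (5, 39, true), (4, 41, true), (3, 42, true), (2, 43, true), (4, 24, true), (6, 16, true), (5, 18, true), (7, 7, true), (6, 9, true), (6, 4, true), (7, 2, true), (7, 6, true), (6, 8, true), (8, 3, true), (7, 5, true), (7, 1, true), (8, 0, true), (7, 22, true), (6, 24, true), (5, 26, true), (4, 27, true), (5, 7, true), (6, 2, true), (5, 18, true), (4, 20, true), (4, 7, true), (5, 11, true), (4, 13, true), (6, 7, true), (5, 9, true), (5, 2, true), (5, 21, true), (4, 25, true), (6, 15, true), (5, 19, true), (7, 6, true), (8, 1, true)], [(0, 255, true), (9, 259, true), (8, 78, true), (7, 79, true), (6, 81, true), (5, 82, true), (4, 83, true), (3, 84,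 true), (2, 86, true), (1, 88, true), (0, 90, true), (2, 55, true), (1, 58, true), (0, 60, true), (5, 6, true), (4, 7, true), (3, 8, true), (2, 9, true), (4, 0, true), (3, 22, true), (2, 23, true), (1, 26, true), (3, 4, true), (4, 2, true), (3, 17, true), (2, 20, true), (2, 4, true), (3, 11, true), (2, 12, true), (4, 4, true), (3, 5, true), (4, 36, true), (3, 37, true), (2, 40, true), (1, 42, true), (3, 11, true), (4, 2, true), (4, 21, true), (3, 25, true), (2, 27, true), (3, 10, true), (2, 14, true), (2, 6, true), (3, 0, true), (2, 24, true), (3, 9, true), (3, 15, true), (4, 1, true), (5, 10, true), (4, 11, true), (6, 3, true), (5, 4, true), (7, 6, true), (6, 7, true), (5, 8, true), (8, 1, true), (7, 2, true), (7, 1, true), (8, 0, true), (7, 46, true), (6, 47, true), (5, 48, true), (4, 49, true), (3, 50, true), (2, 51, true), (1, 53, true), (5, 21, true), (4, 22, true), (3, 23, true), (6, 15, true), (5, 16, true), (4, 17, true), (7, 6, true), (6, 7, true), (5, 8, true), (8, 3, true), (7, 4, true), (6, 5, true), (7, 1, true),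 (6, 2, true), (6, 0, true), (5, 13, true), (7, 7, true), (6, 9, true), (6, 4, true), (7, 2, true), (6, 30, true), (5, 32, true), (4, 33, true), (3, 34, true), (5, 16, true), (6, 4, true), (7, 11, true), (6, 12, true), (8, 4, true), (7, 5, true), (7, 7, true)]),
     ([40, 33, 37], [(1, 313, true), (0, 270, true), (7, 266, true), (12, 264, true), (6, 93, true), (5, 94, true), (4, 96, true), (3, 97, true), (2, 98, true), (1, 99, true), (0, 104, true), (4, 36, true), (3, 38, true), (2, 39, true), (1, 42, true), (0, 43, true), (2, 24, true), (4, 7, true), (3, 9, true), (3, 4, true), (5, 28, true), (4, 29, true), (3, 30, true), (2, 34, true), (1, 35, true), (2, 21, true), (1, 23, true), (3, 1, true), (4, 3, true), (3, 4, true), (2, 5, true), (3, 1, true), (2, 2, true), (2, 0, true), (5, 29, true), (4, 31, true), (3, 32, true), (2, 33, true), (1, 34, true), (3, 16, true), (4, 4, true), (5, 11, true), (4, 12, true), (6, 7, true), (5, 8, true), (7, 2, true), (6, 12, true), (5, 13, true), (4, 14, true), (5, 8, true), (4, 9, true),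 (6, 21, true), (5, 22, true), (4, 23, true), (3, 26, true), (2, 27, true), (3, 4, true), (4, 2, true), (4, 10, true), (3, 12, true), (5, 6, true), (4, 8, true), (6, 3, true), (5, 5, true), (5, 1, true), (6, 0, true), (5, 16, true), (4, 18, true), (3, 19, true), (2, 20, true), (2, 11, true), (3, 7, true), (4, 2, true), (3, 13, true), (2, 14, true), (2, 9, true), (2, 5, true), (1, 62, true), (0, 63, true), (4, 28, true), (3, 29, true), (2, 30, true), (5, 6, true), (4, 7, true), (3, 8, true), (6, 1, true), (5, 2, true), (5, 0, true), (4, 47, true), (3, 48, true), (2, 52, true), (1, 53, true), (5, 28, true), (4, 29, true), (3, 30, true), (6, 1, true), (5, 2, true), (5, 0, true), (4, 8, true), (5, 5, true), (4, 13, true), (6, 23, true), (5, 24, true), (4, 25, true), (7, 17, true), (6, 18, true), (5, 19, true), (8, 8, true), (7, 9, true), (7, 5, true)], [(0, 266, true), (5, 270, true), (4, 93, true), (3, 95, true), (2, 100, true), (1, 101, true), (0, 104, true), (4, 55, true), (3, 57, true), (2, 58, true), (1, 61, true), (0, 62,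 true), (4, 21, true), (3, 22, true), (2, 24, true), (5, 6, true), (4, 7, true), (3, 9, true), (4, 1, true), (3, 2, true), (3, 0, true), (5, 1, true), (6, 0, true), (5, 46, true), (4, 47, true), (3, 48, true), (2, 51, true), (1, 52, true), (4, 21, true), (3, 22, true), (5, 6, true), (4, 7, true), (6, 3, true), (5, 4, true), (7, 1, true), (6, 2, true), (6, 28, true), (5, 30, true), (4, 31, true), (3, 34, true), (2, 35, true), (3, 21, true), (2, 23, true), (4, 1, true), (5, 6, true), (4, 7, true), (3, 8, true), (6, 3, true), (5, 4, true), (4, 5, true), (5, 0, true), (4, 22, true), (3, 24, true), (2, 27, true), (3, 4, true), (4, 2, true), (3, 12, true), (2, 13, true), (4, 5, true), (4, 4, true), (5, 37, true), (4, 38, true), (3, 39, true), (2, 40, true), (6, 29, true), (5, 30, true), (4, 31, true), (3, 32, true), (7, 22, true), (6, 23, true), (5, 24, true), (4, 25, true), (8, 16, true), (7, 17, true), (6, 18, true), (5, 19, true), (9, 7, true), (8, 8, true), (7, 9, true), (8, 4, true), (7, 5, true)])]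

/-- The changes of the lifts. -/
def gaugeTwo : List (List (ℕ × ℕ)) := [
     [(33, 1), (35, 1)], [(20, 1)], [(33, 1)], [(20, 1), (35, 1), (41, 1)], [(35, 1), (73, 1)],
     [(33, 1), (74, 1), (76, 1)], [(20, 1), (33, 1), (41, 1), (73, 1), (74, 1)],
     [(33, 1), (41, 1), (73, 1), (74, 1), (76, 1), (99, 1)],
     [(33, 1), (41, 1), (74, 1), (76, 1), (99, 1), (116, 1)],
     [(20, 1), (35, 1), (73, 1), (76, 1), (77, 1), (99, 1), (116, 1)],
     [(33, 1), (35, 1), (73, 1), (74, 1), (99, 1), (102, 1)], [],
     [(20, 1), (33, 1), (73, 1), (74, 1), (76, 1), (77, 1), (99, 1), (102, 1), (116, 1), (118, 1)], [], [],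
     [], [], [], [], [], [], [], [], [], [], [], [], [], [], [], [], [], [], [], [], [], [], [], [], [], []]

/-- The new tails. -/
def picksTwo : List (List (ℕ × ℕ)) := [
     [(0, 1), (2, 1), (3, 1), (4, 1), (6, 1), (7, 1), (9, 1), (10, 1), (11, 1), (12, 1), (13, 1), (14, 1), (16, 1), (21, 1), (26, 1), (27, 1), (30, 1)],
     [(0, 1)], [(1, 1), (3, 1)], [(2, 1)], [(3, 1)], [(2, 1), (5, 1), (7, 1)], [(6, 1)], [(4, 1)],
     [(2, 1), (7, 1)],
     [(0, 1), (3, 1), (9, 1), (12, 1), (13, 1), (16, 1), (21, 1), (26, 1), (27, 1), (30, 1)], [(11, 1)],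
     [(8, 1)], [(2, 1), (3, 1), (4, 1), (7, 1), (9, 1)], [(2, 1), (4, 1), (7, 1), (14, 1)],
     [(0, 1), (1, 1), (2, 1), (3, 1), (5, 1), (6, 1), (14, 1), (15, 1), (16, 1), (17, 1), (23, 1), (25, 1), (28, 1), (31, 1), (33, 1)],
     [(2, 1), (3, 1), (4, 1), (5, 1), (6, 1), (13, 1), (31, 1), (34, 1)],
     [(3, 1), (8, 1), (9, 1), (12, 1)], [(3, 1), (9, 1), (13, 1), (14, 1)],
     [(0, 1), (3, 1), (4, 1), (5, 1), (7, 1), (8, 1), (13, 1), (14, 1), (15, 1), (31, 1), (34, 1)],
     [(2, 1), (3, 1), (4, 1), (15, 1), (21, 1), (23, 1), (24, 1), (25, 1), (27, 1), (28, 1), (29, 1), (31, 1), (34, 1)],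
     [], [(2, 1), (6, 1), (30, 1)], [(1, 1), (8, 1), (9, 1), (12, 1), (16, 1)],
     [(2, 1), (4, 1), (6, 1), (9, 1), (14, 1), (25, 1)],
     [(0, 1), (2, 1), (3, 1), (4, 1), (7, 1), (8, 1), (9, 1), (14, 1), (26, 1), (30, 1)],
     [(0, 1), (1, 1), (3, 1), (4, 1), (5, 1), (7, 1), (8, 1), (9, 1), (11, 1), (12, 1), (13, 1), (16, 1), (17, 1), (25, 1), (31, 1), (33, 1)],
     [(0, 1), (1, 1), (6, 1), (9, 1), (10, 1), (11, 1), (12, 1), (13, 1), (14, 1), (15, 1), (16, 1), (21, 1), (25, 1), (26, 1), (27, 1), (28, 1), (30, 1), (31, 1), (32, 1), (33, 1), (34, 1), (36, 1), (37, 1), (41, 1), (43, 1), (46, 1), (49, 1), (51, 1), (53, 1), (56, 1), (58, 1), (59, 1), (60, 1), (63, 1), (64, 1), (65, 1), (66, 1), (67, 1), (99, 1), (100, 1)],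
     [(1, 1), (5, 1), (7, 1), (10, 1), (11, 1), (13, 1), (17, 1), (26, 1), (30, 1), (31, 1), (33, 1), (99, 1), (100, 1)],
     [(0, 1), (2, 1), (3, 1), (5, 1), (6, 1), (8, 1), (11, 1), (12, 1), (15, 1), (26, 1), (27, 1), (31, 1), (32, 1), (33, 1), (34, 1), (42, 1)],
     [(2, 1), (3, 1), (5, 1), (7, 1), (9, 1), (13, 1), (14, 1), (17, 1)],
     [(4, 1), (6, 1), (7, 1), (9, 1), (14, 1), (31, 1)],
     [(0, 1), (2, 1), (5, 1), (7, 1), (8, 1), (9, 1), (11, 1), (12, 1), (14, 1), (15, 1), (26, 1), (27, 1), (31, 1), (33, 1), (34, 1), (42, 1)],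
     [(0, 1), (1, 1), (3, 1), (4, 1), (5, 1), (7, 1), (8, 1), (9, 1), (11, 1), (14, 1), (16, 1), (17, 1), (21, 1), (23, 1), (24, 1), (25, 1), (26, 1), (27, 1), (29, 1), (32, 1), (34, 1), (43, 1)],
     [],
     [(0, 1), (1, 1), (4, 1), (5, 1), (6, 1), (8, 1), (9, 1), (10, 1), (11, 1), (12, 1), (15, 1), (21, 1), (23, 1), (25, 1), (27, 1), (28, 1), (29, 1), (30, 1), (34, 1), (36, 1), (37, 1), (41, 1), (43, 1), (46, 1), (49, 1), (50, 1), (53, 1), (56, 1), (60, 1), (61, 1), (63, 1), (64, 1), (65, 1), (66, 1), (67, 1), (99, 1), (100, 1)],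
     [],
     [(0, 1), (3, 1), (4, 1), (5, 1), (6, 1), (9, 1), (11, 1), (13, 1), (14, 1), (16, 1), (17, 1), (21, 1), (30, 1), (31, 1), (32, 1), (33, 1), (35, 1), (42, 1), (44, 1)],
     [(1, 1), (2, 1), (5, 1), (6, 1), (10, 1), (11, 1), (12, 1), (13, 1), (14, 1), (15, 1), (18, 1)],
     [(0, 1), (2, 1), (4, 1), (6, 1), (7, 1), (8, 1), (9, 1), (15, 1), (17, 1), (32, 1), (34, 1), (35, 1)],
     [(0, 1), (1, 1), (2, 1), (6, 1), (11, 1), (12, 1), (21, 1), (25, 1), (26, 1), (30, 1), (32, 1), (35, 1), (42, 1), (44, 1), (51, 1)],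
     [(3, 1), (6, 1), (7, 1), (9, 1), (10, 1), (12, 1), (13, 1), (17, 1), (18, 1), (21, 1), (24, 1), (27, 1), (28, 1), (30, 1), (31, 1), (35, 1), (43, 1), (50, 1), (59, 1), (61, 1)],
     [],
     [(0, 1), (2, 1), (3, 1), (4, 1), (5, 1), (6, 1), (7, 1), (8, 1), (10, 1), (13, 1), (14, 1), (15, 1), (16, 1), (21, 1), (24, 1), (25, 1), (26, 1), (28, 1), (29, 1), (31, 1), (32, 1), (34, 1), (36, 1), (37, 1), (41, 1), (42, 1), (43, 1), (44, 1), (46, 1), (49, 1), (51, 1), (53, 1), (56, 1), (57, 1), (58, 1), (59, 1), (60, 1), (61, 1), (63, 1), (64, 1), (65, 1), (66, 1), (67, 1)],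
     [(0, 1), (1, 1), (3, 1), (11, 1), (12, 1), (13, 1), (15, 1), (18, 1), (21, 1), (24, 1), (25, 1), (29, 1), (32, 1), (33, 1), (34, 1), (35, 1), (42, 1), (44, 1), (51, 1), (56, 1), (60, 1)],
     [(0, 1), (3, 1), (11, 1), (12, 1), (14, 1), (15, 1), (16, 1), (19, 1), (20, 1), (22, 1), (23, 1), (26, 1), (27, 1), (28, 1), (29, 1), (30, 1), (31, 1), (32, 1), (38, 1), (39, 1), (41, 1), (43, 1), (44, 1), (47, 1), (49, 1), (50, 1), (51, 1), (52, 1), (54, 1), (58, 1), (60, 1), (61, 1), (62, 1), (64, 1), (68, 1), (70, 1), (71, 1), (72, 1), (73, 1), (74, 1), (77, 1), (79, 1), (85, 1), (86, 1), (94, 1), (101, 1), (102, 1), (117, 1), (118, 1), (121, 1), (122, 1)],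
     [(0, 1), (1, 1), (2, 1), (3, 1), (10, 1), (12, 1), (14, 1), (15, 1), (16, 1), (21, 1), (30, 1), (31, 1), (33, 1), (36, 1), (42, 1), (45, 1)],
     [(1, 1), (2, 1), (5, 1), (6, 1), (10, 1), (11, 1), (12, 1), (13, 1), (14, 1), (15, 1), (19, 1)],
     [(3, 1), (4, 1), (8, 1), (12, 1), (14, 1), (17, 1), (32, 1), (34, 1), (36, 1)],
     [(7, 1), (8, 1), (10, 1), (13, 1), (17, 1), (18, 1), (19, 1), (21, 1), (25, 1), (26, 1), (30, 1), (31, 1), (34, 1), (35, 1), (42, 1), (45, 1), (51, 1), (52, 1)],
     [(1, 1), (2, 1), (5, 1), (6, 1), (8, 1), (11, 1), (15, 1), (17, 1), (18, 1), (24, 1), (32, 1), (35, 1), (36, 1), (37, 1), (41, 1), (46, 1), (49, 1), (50, 1), (51, 1), (53, 1), (58, 1), (60, 1), (61, 1), (62, 1), (63, 1), (64, 1), (65, 1), (66, 1), (67, 1), (99, 1), (100, 1)],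
     [(0, 1), (1, 1), (3, 1), (8, 1), (10, 1), (14, 1), (17, 1), (21, 1), (25, 1), (26, 1), (27, 1), (31, 1), (32, 1), (33, 1), (34, 1), (37, 1), (45, 1), (46, 1), (51, 1), (53, 1), (57, 1), (62, 1), (66, 1), (67, 1)],
     [(1, 1), (2, 1), (3, 1), (7, 1), (8, 1), (9, 1), (16, 1), (17, 1), (18, 1), (19, 1), (23, 1), (26, 1), (27, 1), (32, 1), (33, 1), (34, 1), (35, 1), (41, 1), (42, 1), (52, 1), (58, 1), (59, 1), (61, 1), (63, 1), (99, 1), (100, 1)],
     [(0, 1), (1, 1), (3, 1), (7, 1), (10, 1), (15, 1), (16, 1), (23, 1), (25, 1), (26, 1), (32, 1), (33, 1), (37, 1), (43, 1), (46, 1), (49, 1), (52, 1), (53, 1), (58, 1), (60, 1), (61, 1), (64, 1), (66, 1), (67, 1), (99, 1), (100, 1)],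
     [(2, 1), (4, 1), (5, 1), (6, 1), (7, 1), (9, 1), (10, 1), (11, 1), (16, 1), (20, 1), (21, 1), (23, 1), (25, 1), (27, 1), (29, 1), (30, 1), (35, 1), (36, 1), (41, 1), (44, 1), (45, 1), (46, 1), (49, 1), (50, 1), (53, 1), (57, 1), (60, 1), (61, 1), (62, 1), (64, 1), (67, 1), (68, 1), (70, 1)],
     [(0, 1), (2, 1), (4, 1), (5, 1), (7, 1), (9, 1), (12, 1), (16, 1), (23, 1), (25, 1), (26, 1), (30, 1), (32, 1), (36, 1), (37, 1), (41, 1), (46, 1), (53, 1), (57, 1), (58, 1), (59, 1), (61, 1), (62, 1), (63, 1), (66, 1), (67, 1), (99, 1), (100, 1), (101, 1), (102, 1)],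
     [(1, 1), (3, 1), (4, 1), (10, 1), (11, 1), (12, 1), (14, 1), (15, 1), (31, 1), (37, 1), (46, 1)],
     [(1, 1), (2, 1), (5, 1), (6, 1), (10, 1), (11, 1), (12, 1), (13, 1), (14, 1), (15, 1), (20, 1)],
     [(0, 1), (4, 1), (5, 1), (6, 1), (7, 1), (12, 1), (13, 1), (15, 1), (17, 1), (31, 1), (32, 1), (37, 1)],
     [(2, 1), (3, 1), (4, 1), (5, 1), (6, 1), (10, 1), (11, 1), (14, 1), (15, 1), (16, 1), (17, 1), (18, 1), (20, 1), (25, 1), (26, 1), (33, 1), (35, 1), (46, 1), (51, 1), (53, 1)],
     [(1, 1), (3, 1), (6, 1), (7, 1), (8, 1), (9, 1), (10, 1), (11, 1), (16, 1), (17, 1), (18, 1), (23, 1), (25, 1), (26, 1), (28, 1), (29, 1), (30, 1), (34, 1), (35, 1), (50, 1), (56, 1), (59, 1), (61, 1), (66, 1)],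
     [(0, 1), (1, 1), (2, 1), (3, 1), (6, 1), (8, 1), (9, 1), (11, 1), (15, 1), (19, 1), (21, 1), (23, 1), (25, 1), (29, 1), (33, 1), (36, 1), (40, 1), (42, 1), (43, 1), (44, 1), (45, 1), (49, 1), (50, 1), (51, 1), (52, 1), (53, 1), (58, 1), (63, 1), (64, 1), (67, 1), (68, 1), (69, 1), (71, 1), (99, 1), (100, 1)],
     [(1, 1), (2, 1), (3, 1), (5, 1), (6, 1), (7, 1), (10, 1), (12, 1), (13, 1), (15, 1), (17, 1), (18, 1), (20, 1), (21, 1), (25, 1), (30, 1), (31, 1), (32, 1), (34, 1), (35, 1), (37, 1), (42, 1), (46, 1), (49, 1), (52, 1), (56, 1), (58, 1), (59, 1), (61, 1), (63, 1), (64, 1), (66, 1), (67, 1), (68, 1), (99, 1), (100, 1)],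
     [(1, 1), (3, 1), (5, 1), (6, 1), (7, 1), (9, 1), (12, 1), (13, 1), (14, 1), (17, 1), (18, 1), (19, 1), (23, 1), (25, 1), (26, 1), (31, 1), (32, 1), (33, 1), (34, 1), (35, 1), (36, 1), (40, 1), (45, 1), (46, 1), (52, 1), (56, 1), (58, 1), (59, 1), (61, 1), (63, 1), (64, 1), (66, 1), (67, 1), (68, 1), (71, 1), (99, 1), (100, 1)],
     [(1, 1), (2, 1), (3, 1), (7, 1), (9, 1), (10, 1), (11, 1), (12, 1), (14, 1), (19, 1), (20, 1), (22, 1), (25, 1), (27, 1), (29, 1), (31, 1), (32, 1), (34, 1), (36, 1), (37, 1), (39, 1), (40, 1), (42, 1), (43, 1), (45, 1), (49, 1), (50, 1), (51, 1), (54, 1), (57, 1), (60, 1), (61, 1), (62, 1), (64, 1), (66, 1), (69, 1), (70, 1), (71, 1), (73, 1), (78, 1), (79, 1), (89, 1), (109, 1), (110, 1)],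
     [(0, 1), (3, 1), (4, 1), (7, 1), (9, 1), (10, 1), (12, 1), (15, 1), (16, 1), (25, 1), (27, 1), (30, 1), (32, 1), (35, 1), (38, 1), (43, 1), (44, 1), (47, 1), (49, 1), (56, 1), (57, 1), (58, 1), (61, 1), (62, 1), (63, 1), (65, 1), (67, 1), (68, 1), (69, 1), (70, 1), (71, 1), (74, 1), (77, 1), (78, 1), (85, 1), (86, 1), (89, 1), (94, 1), (109, 1), (110, 1), (117, 1), (118, 1), (121, 1), (122, 1)],
     [(0, 1), (4, 1), (6, 1), (7, 1), (8, 1), (13, 1), (16, 1), (17, 1), (18, 1), (19, 1), (22, 1), (23, 1), (24, 1), (25, 1), (26, 1), (31, 1), (32, 1), (34, 1), (35, 1), (37, 1), (38, 1), (39, 1), (42, 1), (47, 1), (49, 1), (50, 1), (52, 1), (53, 1), (54, 1), (57, 1), (58, 1), (59, 1), (69, 1), (71, 1), (72, 1), (73, 1), (74, 1), (77, 1), (79, 1), (85, 1), (86, 1), (94, 1), (119, 1), (120, 1), (121, 1), (122, 1), (123, 1), (124, 1), (125, 1), (126, 1)],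
     [(2, 1), (5, 1), (7, 1), (10, 1), (11, 1), (12, 1), (16, 1), (17, 1), (21, 1), (23, 1), (25, 1), (27, 1), (30, 1), (33, 1), (34, 1), (38, 1), (43, 1), (47, 1)],
     [(1, 1), (5, 1), (7, 1), (14, 1), (15, 1), (16, 1), (26, 1), (27, 1), (30, 1), (31, 1), (34, 1)],
     [(2, 1), (3, 1), (5, 1), (11, 1), (12, 1), (13, 1), (17, 1), (21, 1), (23, 1), (24, 1), (25, 1), (26, 1), (28, 1), (29, 1), (31, 1), (33, 1), (34, 1), (38, 1), (42, 1)],
     [(2, 1), (3, 1), (4, 1), (5, 1), (6, 1), (10, 1), (12, 1), (13, 1), (15, 1), (16, 1), (18, 1), (21, 1), (23, 1), (28, 1), (30, 1), (31, 1), (33, 1), (35, 1), (36, 1), (37, 1), (41, 1), (44, 1), (46, 1), (47, 1), (49, 1), (53, 1), (54, 1), (56, 1), (58, 1), (59, 1), (60, 1), (63, 1), (64, 1), (65, 1), (66, 1), (67, 1), (99, 1), (100, 1)],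
     [(0, 1), (2, 1), (3, 1), (6, 1), (7, 1), (10, 1), (13, 1), (15, 1), (16, 1), (17, 1), (19, 1), (20, 1), (25, 1), (26, 1), (29, 1), (31, 1), (33, 1), (40, 1), (41, 1), (44, 1), (45, 1), (49, 1), (50, 1), (52, 1), (56, 1), (59, 1), (60, 1), (65, 1), (68, 1), (69, 1), (71, 1), (73, 1)],
     [(1, 1), (2, 1), (7, 1), (8, 1), (9, 1), (10, 1), (11, 1), (13, 1), (14, 1), (15, 1), (17, 1), (20, 1), (22, 1), (25, 1), (27, 1), (31, 1), (37, 1), (38, 1), (39, 1), (40, 1), (41, 1), (46, 1), (47, 1), (51, 1), (54, 1), (56, 1), (58, 1), (60, 1), (61, 1), (62, 1), (63, 1), (67, 1), (69, 1), (70, 1), (71, 1), (73, 1), (74, 1), (81, 1), (85, 1), (86, 1), (94, 1), (117, 1), (118, 1), (121, 1), (122, 1)],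
     [(3, 1), (4, 1), (5, 1), (8, 1), (11, 1), (12, 1), (13, 1), (15, 1), (16, 1), (17, 1), (19, 1), (26, 1), (27, 1), (30, 1), (31, 1), (32, 1), (36, 1), (38, 1), (40, 1), (43, 1), (46, 1), (47, 1), (51, 1), (52, 1), (53, 1), (54, 1), (56, 1), (59, 1), (62, 1), (64, 1), (65, 1), (67, 1), (69, 1), (70, 1), (71, 1), (73, 1), (77, 1)],
     [], [],
     [(0, 1), (3, 1), (4, 1), (9, 1), (11, 1), (13, 1), (15, 1), (17, 1), (18, 1), (19, 1), (21, 1), (23, 1), (24, 1), (31, 1), (33, 1), (34, 1), (35, 1), (37, 1), (38, 1), (40, 1), (41, 1), (44, 1), (49, 1), (50, 1), (52, 1), (54, 1), (57, 1), (58, 1), (59, 1), (60, 1), (62, 1), (63, 1), (66, 1), (69, 1), (70, 1), (71, 1), (73, 1), (77, 1), (85, 1), (99, 1), (100, 1)],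
     [], [],
     [(1, 1), (3, 1), (4, 1), (5, 1), (6, 1), (8, 1), (9, 1), (10, 1), (12, 1), (13, 1), (14, 1), (15, 1), (16, 1), (21, 1), (23, 1), (25, 1), (26, 1), (30, 1), (31, 1), (39, 1), (42, 1), (43, 1), (48, 1)],
     [(1, 1), (8, 1), (9, 1), (12, 1), (22, 1)],
     [(0, 1), (2, 1), (3, 1), (4, 1), (6, 1), (12, 1), (13, 1), (15, 1), (17, 1), (21, 1), (23, 1), (24, 1), (25, 1), (27, 1), (28, 1), (29, 1), (39, 1)],
     [(2, 1), (6, 1), (7, 1), (8, 1), (10, 1), (11, 1), (12, 1), (14, 1), (17, 1), (18, 1), (22, 1), (23, 1), (25, 1), (26, 1), (27, 1), (28, 1), (31, 1), (32, 1), (33, 1), (36, 1), (37, 1), (41, 1), (42, 1), (46, 1), (48, 1), (49, 1), (51, 1), (53, 1), (55, 1), (56, 1), (58, 1), (59, 1), (60, 1), (63, 1), (64, 1), (65, 1), (66, 1), (67, 1), (99, 1), (100, 1)],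
     [(6, 1), (7, 1), (10, 1), (12, 1), (13, 1), (17, 1), (19, 1), (20, 1), (21, 1), (24, 1), (27, 1), (28, 1), (29, 1), (30, 1), (33, 1), (34, 1), (35, 1), (40, 1), (42, 1), (44, 1), (45, 1), (47, 1), (48, 1), (49, 1), (51, 1), (52, 1), (56, 1), (58, 1), (59, 1), (63, 1), (68, 1), (69, 1), (71, 1), (73, 1), (74, 1)],
     [(4, 1), (6, 1), (9, 1), (11, 1), (15, 1), (16, 1), (23, 1), (24, 1), (25, 1), (26, 1), (27, 1), (30, 1), (31, 1), (35, 1), (36, 1), (37, 1), (38, 1), (39, 1), (40, 1), (45, 1), (47, 1), (49, 1), (50, 1), (54, 1), (56, 1), (59, 1), (60, 1), (65, 1), (67, 1), (77, 1), (78, 1), (79, 1), (81, 1), (82, 1), (99, 1), (100, 1)],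
     [(2, 1), (3, 1), (4, 1), (5, 1), (6, 1), (11, 1), (12, 1), (13, 1), (18, 1), (19, 1), (20, 1), (22, 1), (23, 1), (24, 1), (28, 1), (29, 1), (30, 1), (32, 1), (33, 1), (35, 1), (36, 1), (37, 1), (39, 1), (40, 1), (41, 1), (42, 1), (43, 1), (44, 1), (45, 1), (46, 1), (52, 1), (53, 1), (55, 1), (60, 1), (64, 1), (65, 1), (66, 1), (67, 1), (68, 1), (69, 1), (71, 1), (73, 1), (74, 1), (77, 1), (78, 1)],
     [(2, 1), (3, 1), (4, 1), (6, 1), (8, 1), (10, 1), (11, 1), (12, 1), (13, 1), (14, 1), (15, 1), (16, 1), (17, 1), (18, 1), (19, 1), (20, 1), (24, 1), (26, 1), (29, 1), (35, 1), (39, 1), (40, 1), (42, 1), (43, 1), (44, 1), (46, 1), (49, 1), (51, 1), (52, 1), (53, 1), (55, 1), (56, 1), (59, 1), (61, 1), (63, 1), (67, 1), (68, 1), (69, 1), (77, 1), (79, 1), (82, 1), (85, 1), (86, 1), (94, 1), (99, 1), (100, 1), (109, 1), (110, 1), (117, 1), (118, 1), (121, 1), (122, 1)],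
     [(0, 1), (1, 1), (2, 1), (3, 1), (4, 1), (6, 1), (7, 1), (9, 1), (11, 1), (17, 1), (20, 1), (22, 1), (25, 1), (26, 1), (29, 1), (32, 1), (33, 1), (35, 1), (36, 1), (37, 1), (40, 1), (42, 1), (44, 1), (46, 1), (50, 1), (51, 1), (52, 1), (54, 1), (55, 1), (57, 1), (58, 1), (59, 1), (60, 1), (62, 1), (63, 1), (64, 1), (70, 1), (71, 1), (72, 1), (74, 1), (77, 1), (78, 1), (79, 1), (80, 1), (81, 1), (82, 1), (84, 1), (85, 1), (86, 1), (88, 1), (89, 1), (91, 1), (94, 1), (99, 1), (100, 1), (101, 1), (102, 1), (117, 1), (118, 1), (121, 1), (122, 1)],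
     [(0, 1), (1, 1), (7, 1), (8, 1), (9, 1), (10, 1), (12, 1), (13, 1), (16, 1), (17, 1), (18, 1), (19, 1), (20, 1), (24, 1), (27, 1), (29, 1), (34, 1), (35, 1), (36, 1), (39, 1), (40, 1), (41, 1), (42, 1), (43, 1), (46, 1), (48, 1), (49, 1), (51, 1), (52, 1), (53, 1), (54, 1), (59, 1), (63, 1), (64, 1), (68, 1), (73, 1), (77, 1), (80, 1), (82, 1), (84, 1), (88, 1), (89, 1), (91, 1), (94, 1), (101, 1), (102, 1), (117, 1), (118, 1), (121, 1), (122, 1)],
     [(0, 1), (2, 1), (3, 1), (6, 1), (8, 1), (9, 1), (12, 1), (13, 1), (14, 1), (16, 1), (17, 1), (18, 1), (21, 1), (22, 1), (25, 1), (26, 1), (27, 1), (30, 1), (31, 1), (33, 1), (34, 1), (36, 1), (37, 1), (38, 1), (40, 1), (41, 1), (42, 1), (44, 1), (45, 1), (47, 1), (48, 1), (53, 1), (54, 1), (57, 1), (65, 1), (68, 1), (69, 1), (72, 1), (73, 1), (78, 1), (81, 1), (83, 1), (85, 1), (86, 1), (87, 1), (89, 1), (90, 1), (94, 1), (119, 1), (120, 1), (121, 1), (122, 1), (123, 1), (124, 1), (125, 1), (126, 1)],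
     [(0, 1), (2, 1), (4, 1), (5, 1), (8, 1), (10, 1), (12, 1), (14, 1), (15, 1), (16, 1), (20, 1), (22, 1), (25, 1), (26, 1), (30, 1), (31, 1), (34, 1), (36, 1), (37, 1), (38, 1), (40, 1), (41, 1), (46, 1), (48, 1), (49, 1), (51, 1), (53, 1), (54, 1), (55, 1), (58, 1), (59, 1), (60, 1), (61, 1), (62, 1), (67, 1), (69, 1), (70, 1), (77, 1), (80, 1), (81, 1), (83, 1), (85, 1), (86, 1), (87, 1), (88, 1), (91, 1), (92, 1), (93, 1), (94, 1), (96, 1), (99, 1), (100, 1), (103, 1), (104, 1), (105, 1), (106, 1), (107, 1), (108, 1), (109, 1), (110, 1), (111, 1), (112, 1), (119, 1), (120, 1), (123, 1), (124, 1), (125, 1), (126, 1), (127, 1), (128, 1), (129, 1), (130, 1)],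
     [(2, 1), (4, 1), (7, 1), (8, 1), (10, 1), (11, 1), (13, 1), (14, 1), (15, 1), (19, 1), (22, 1), (23, 1), (28, 1), (29, 1), (32, 1), (33, 1), (35, 1), (36, 1), (37, 1), (38, 1), (40, 1), (41, 1), (42, 1), (43, 1), (44, 1), (45, 1), (46, 1), (49, 1), (50, 1), (51, 1), (52, 1), (53, 1), (55, 1), (60, 1), (62, 1), (63, 1), (64, 1), (65, 1), (68, 1), (71, 1), (72, 1), (79, 1), (80, 1), (82, 1), (83, 1), (86, 1), (87, 1), (88, 1), (91, 1), (92, 1), (93, 1), (94, 1), (96, 1), (109, 1), (110, 1), (117, 1), (118, 1), (127, 1), (128, 1), (129, 1), (130, 1)],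
     [(0, 1), (2, 1), (3, 1), (4, 1), (6, 1), (7, 1), (9, 1), (10, 1), (11, 1), (12, 1), (13, 1), (14, 1), (15, 1), (16, 1), (21, 1), (24, 1), (27, 1), (29, 1), (32, 1), (33, 1), (34, 1), (40, 1), (49, 1)],
     [(0, 1), (1, 1), (4, 1), (5, 1), (6, 1), (14, 1), (16, 1), (17, 1), (21, 1), (23, 1), (24, 1), (27, 1), (29, 1), (33, 1), (34, 1)],
     [(1, 1), (2, 1), (4, 1), (5, 1), (6, 1), (12, 1), (14, 1), (16, 1), (17, 1), (26, 1), (28, 1), (31, 1), (32, 1), (40, 1), (43, 1)],
     [(1, 1), (4, 1), (5, 1), (12, 1), (15, 1), (17, 1), (18, 1), (25, 1), (29, 1), (30, 1), (35, 1), (43, 1), (49, 1), (50, 1), (56, 1), (59, 1), (61, 1)],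
     [(0, 1), (1, 1), (2, 1), (3, 1), (4, 1), (5, 1), (6, 1), (7, 1), (8, 1), (9, 1), (10, 1), (11, 1), (13, 1), (14, 1), (15, 1), (20, 1), (21, 1), (23, 1), (26, 1), (28, 1), (30, 1), (32, 1), (36, 1), (38, 1), (41, 1), (42, 1), (54, 1), (59, 1), (60, 1), (63, 1), (64, 1), (65, 1), (66, 1), (67, 1), (69, 1), (73, 1), (75, 1), (99, 1), (100, 1)],
     [(0, 1), (2, 1), (9, 1), (17, 1), (18, 1), (19, 1), (20, 1), (27, 1), (29, 1), (30, 1), (32, 1), (33, 1), (34, 1), (36, 1), (37, 1), (40, 1), (41, 1), (42, 1), (43, 1), (44, 1), (45, 1), (46, 1), (47, 1), (49, 1), (50, 1), (51, 1), (52, 1), (53, 1), (54, 1), (59, 1), (60, 1), (68, 1), (73, 1), (74, 1), (78, 1), (81, 1), (83, 1), (85, 1), (86, 1), (89, 1), (94, 1), (109, 1), (110, 1), (117, 1), (118, 1), (121, 1), (122, 1)],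
     [(1, 1), (3, 1), (4, 1), (8, 1), (9, 1), (11, 1), (12, 1), (14, 1), (16, 1), (20, 1), (21, 1), (23, 1), (25, 1), (29, 1), (30, 1), (32, 1), (33, 1), (35, 1), (37, 1), (41, 1), (43, 1), (44, 1), (46, 1), (49, 1), (50, 1), (53, 1), (56, 1), (58, 1), (60, 1), (61, 1), (63, 1), (64, 1), (66, 1), (67, 1), (69, 1), (71, 1), (74, 1), (75, 1), (78, 1), (81, 1), (85, 1), (86, 1), (89, 1), (94, 1), (99, 1), (100, 1), (109, 1), (110, 1), (117, 1), (118, 1), (121, 1), (122, 1)],
     [(0, 1), (3, 1), (5, 1), (6, 1), (7, 1), (9, 1), (10, 1), (13, 1), (15, 1), (16, 1), (18, 1), (19, 1), (23, 1), (32, 1), (34, 1), (35, 1), (36, 1), (38, 1), (40, 1), (41, 1), (44, 1), (45, 1), (47, 1), (49, 1), (52, 1), (56, 1), (57, 1), (58, 1), (68, 1), (69, 1), (74, 1), (75, 1), (78, 1), (81, 1), (83, 1), (85, 1), (86, 1), (89, 1), (92, 1), (94, 1), (99, 1), (100, 1), (109, 1), (110, 1), (117, 1), (118, 1), (121, 1), (122, 1)],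
     [],
     [(0, 1), (1, 1), (3, 1), (5, 1), (6, 1), (7, 1), (8, 1), (10, 1), (11, 1), (13, 1), (14, 1), (15, 1), (16, 1), (21, 1), (24, 1), (25, 1), (27, 1), (28, 1), (29, 1), (30, 1), (32, 1), (35, 1), (36, 1), (37, 1), (38, 1), (42, 1), (46, 1), (47, 1), (49, 1), (51, 1), (53, 1), (54, 1), (58, 1), (60, 1), (61, 1), (65, 1), (67, 1), (69, 1), (72, 1), (74, 1), (75, 1), (78, 1), (79, 1), (85, 1), (86, 1), (87, 1), (89, 1), (94, 1), (99, 1), (100, 1), (109, 1), (110, 1), (119, 1), (120, 1), (121, 1), (122, 1), (123, 1), (124, 1), (125, 1), (126, 1)],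
     [(2, 1), (3, 1), (4, 1), (5, 1), (6, 1), (8, 1), (12, 1), (14, 1), (17, 1), (18, 1), (21, 1), (22, 1), (23, 1), (24, 1), (26, 1), (27, 1), (29, 1), (30, 1), (31, 1), (32, 1), (35, 1), (36, 1), (39, 1), (40, 1), (41, 1), (44, 1), (46, 1), (49, 1), (52, 1), (54, 1), (56, 1), (59, 1), (61, 1), (62, 1), (64, 1), (65, 1), (67, 1), (68, 1), (70, 1), (71, 1), (72, 1), (75, 1), (78, 1), (79, 1), (81, 1), (89, 1), (92, 1), (94, 1), (109, 1), (110, 1), (117, 1), (118, 1), (119, 1), (120, 1), (123, 1), (124, 1), (125, 1), (126, 1)],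
     [],
     [(0, 1), (1, 1), (3, 1), (4, 1), (6, 1), (7, 1), (8, 1), (9, 1), (15, 1), (16, 1), (18, 1), (19, 1), (21, 1), (23, 1), (24, 1), (26, 1), (32, 1), (34, 1), (35, 1), (36, 1), (42, 1), (43, 1), (50, 1), (54, 1), (59, 1), (60, 1), (61, 1), (62, 1), (65, 1), (67, 1), (68, 1), (69, 1), (75, 1), (77, 1), (79, 1), (80, 1), (82, 1), (84, 1), (85, 1), (86, 1), (87, 1), (88, 1), (89, 1), (90, 1), (91, 1), (92, 1), (94, 1), (99, 1), (100, 1), (101, 1), (102, 1), (109, 1), (110, 1), (121, 1), (122, 1), (127, 1), (128, 1), (129, 1), (130, 1)],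
     [(2, 1), (4, 1), (5, 1), (6, 1), (8, 1), (11, 1), (15, 1), (17, 1), (21, 1), (22, 1), (23, 1), (24, 1), (25, 1), (26, 1), (27, 1), (28, 1), (31, 1), (37, 1), (38, 1), (41, 1), (42, 1), (43, 1), (44, 1), (46, 1), (50, 1), (51, 1), (52, 1), (53, 1), (56, 1), (57, 1), (58, 1), (59, 1), (61, 1), (63, 1), (65, 1), (66, 1), (69, 1), (70, 1), (71, 1), (75, 1), (77, 1), (79, 1), (82, 1), (84, 1), (85, 1), (87, 1), (90, 1), (93, 1), (94, 1), (96, 1), (101, 1), (102, 1), (109, 1), (110, 1), (117, 1), (118, 1), (121, 1), (122, 1), (123, 1), (124, 1), (125, 1), (126, 1), (127, 1), (128, 1), (129, 1), (130, 1)],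
     [(0, 1), (1, 1), (4, 1), (5, 1), (6, 1), (7, 1), (9, 1), (13, 1), (16, 1), (21, 1), (24, 1), (25, 1), (32, 1), (41, 1), (42, 1), (43, 1), (51, 1), (58, 1), (59, 1), (61, 1), (99, 1), (100, 1)],
     [(0, 1), (3, 1), (4, 1), (5, 1), (6, 1), (7, 1), (8, 1), (13, 1), (15, 1), (17, 1), (26, 1), (29, 1), (30, 1), (31, 1), (33, 1)],
     [(2, 1), (8, 1), (9, 1), (10, 1), (11, 1), (14, 1), (15, 1), (17, 1), (23, 1), (24, 1), (25, 1), (27, 1), (28, 1), (29, 1), (33, 1), (34, 1), (36, 1), (37, 1), (42, 1), (46, 1), (49, 1), (51, 1), (53, 1), (56, 1), (58, 1), (59, 1), (60, 1), (63, 1), (64, 1), (65, 1), (66, 1), (67, 1), (99, 1), (100, 1)],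
     [(1, 1), (2, 1), (4, 1), (6, 1), (7, 1), (15, 1), (16, 1), (17, 1), (21, 1), (26, 1), (29, 1), (30, 1), (31, 1), (35, 1), (42, 1), (43, 1), (44, 1), (50, 1), (57, 1), (58, 1), (99, 1), (100, 1)],
     [(0, 1), (2, 1), (3, 1), (4, 1), (13, 1), (15, 1), (17, 1), (18, 1), (19, 1), (21, 1), (23, 1), (25, 1), (26, 1), (29, 1), (30, 1), (31, 1), (33, 1), (34, 1), (36, 1), (38, 1), (40, 1), (42, 1), (44, 1), (46, 1), (47, 1), (51, 1), (52, 1), (53, 1), (57, 1), (60, 1), (62, 1), (64, 1), (65, 1), (67, 1), (69, 1), (70, 1), (71, 1), (73, 1), (76, 1), (77, 1)],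
     [(0, 1), (1, 1), (3, 1), (5, 1), (7, 1), (9, 1), (11, 1), (12, 1), (15, 1), (16, 1), (17, 1), (18, 1), (19, 1), (21, 1), (22, 1), (23, 1), (24, 1), (26, 1), (27, 1), (28, 1), (33, 1), (34, 1), (36, 1), (37, 1), (38, 1), (39, 1), (41, 1), (42, 1), (44, 1), (45, 1), (46, 1), (49, 1), (50, 1), (52, 1), (53, 1), (56, 1), (57, 1), (58, 1), (59, 1), (62, 1), (66, 1), (69, 1), (73, 1), (78, 1), (79, 1), (80, 1), (84, 1), (85, 1), (89, 1), (99, 1), (100, 1), (109, 1), (110, 1)],
     [(1, 1), (2, 1), (4, 1), (5, 1), (7, 1), (8, 1), (9, 1), (12, 1), (13, 1), (14, 1), (18, 1), (19, 1), (20, 1), (21, 1), (24, 1), (26, 1), (27, 1), (28, 1), (29, 1), (30, 1), (33, 1), (38, 1), (40, 1), (42, 1), (45, 1), (49, 1), (50, 1), (52, 1), (56, 1), (58, 1), (59, 1), (60, 1), (61, 1), (65, 1), (68, 1), (69, 1), (71, 1), (73, 1), (76, 1), (80, 1), (99, 1), (100, 1)],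
     [(0, 1), (1, 1), (7, 1), (8, 1), (9, 1), (12, 1), (14, 1), (15, 1), (18, 1), (19, 1), (21, 1), (24, 1), (25, 1), (27, 1), (28, 1), (31, 1), (32, 1), (33, 1), (34, 1), (36, 1), (37, 1), (42, 1), (44, 1), (46, 1), (47, 1), (50, 1), (53, 1), (56, 1), (57, 1), (58, 1), (59, 1), (60, 1), (61, 1), (62, 1), (64, 1), (65, 1), (69, 1), (72, 1), (76, 1), (77, 1), (79, 1), (81, 1), (82, 1), (86, 1), (88, 1), (91, 1), (93, 1), (94, 1), (99, 1), (100, 1), (101, 1), (102, 1), (117, 1), (118, 1), (121, 1), (122, 1)],
     [(3, 1), (4, 1), (7, 1), (9, 1), (13, 1), (15, 1), (16, 1), (18, 1), (19, 1), (21, 1), (22, 1), (24, 1), (25, 1), (27, 1), (28, 1), (32, 1), (33, 1), (34, 1), (36, 1), (37, 1), (38, 1), (39, 1), (40, 1), (42, 1), (43, 1), (45, 1), (46, 1), (50, 1), (53, 1), (60, 1), (61, 1), (70, 1), (74, 1), (81, 1), (82, 1), (88, 1), (91, 1), (93, 1), (97, 1), (99, 1), (100, 1)],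
     [(5, 1), (6, 1), (7, 1), (12, 1), (13, 1), (14, 1), (16, 1), (18, 1), (20, 1), (21, 1), (23, 1), (24, 1), (26, 1), (27, 1), (28, 1), (29, 1), (31, 1), (32, 1), (34, 1), (36, 1), (37, 1), (38, 1), (40, 1), (42, 1), (43, 1), (44, 1), (45, 1), (46, 1), (49, 1), (52, 1), (53, 1), (54, 1), (56, 1), (57, 1), (58, 1), (59, 1), (60, 1), (61, 1), (62, 1), (64, 1), (68, 1), (71, 1), (72, 1), (73, 1), (76, 1), (77, 1), (79, 1), (80, 1), (81, 1), (82, 1), (85, 1), (86, 1), (91, 1), (93, 1), (94, 1), (97, 1), (101, 1), (102, 1), (117, 1), (118, 1), (121, 1), (122, 1)],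
     [(0, 1), (2, 1), (5, 1), (6, 1), (7, 1), (10, 1), (14, 1), (15, 1), (16, 1), (17, 1), (18, 1), (22, 1), (23, 1), (24, 1), (25, 1), (27, 1), (28, 1), (32, 1), (33, 1), (34, 1), (35, 1), (36, 1), (39, 1), (41, 1), (42, 1), (49, 1), (51, 1), (52, 1), (54, 1), (56, 1), (57, 1), (59, 1), (61, 1), (63, 1), (64, 1), (70, 1), (71, 1), (72, 1), (74, 1), (76, 1), (82, 1), (83, 1), (85, 1), (88, 1), (89, 1), (90, 1), (91, 1), (95, 1), (96, 1), (103, 1), (104, 1), (105, 1), (106, 1), (107, 1), (108, 1), (109, 1), (110, 1), (111, 1), (112, 1), (121, 1), (122, 1), (127, 1), (128, 1), (129, 1), (130, 1)],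
     [],
     [(0, 1), (1, 1), (7, 1), (9, 1), (10, 1), (12, 1), (13, 1), (14, 1), (15, 1), (16, 1), (17, 1), (18, 1), (20, 1), (21, 1), (25, 1), (26, 1), (32, 1), (34, 1), (36, 1), (37, 1), (41, 1), (43, 1), (44, 1), (45, 1), (48, 1), (50, 1), (55, 1), (56, 1), (58, 1), (60, 1), (61, 1), (62, 1), (63, 1), (67, 1), (69, 1), (73, 1), (75, 1), (76, 1), (77, 1), (81, 1), (82, 1), (85, 1), (86, 1), (87, 1), (89, 1), (91, 1), (93, 1), (95, 1), (97, 1), (98, 1), (103, 1), (104, 1), (105, 1), (106, 1), (107, 1), (108, 1), (109, 1), (110, 1), (111, 1), (112, 1), (117, 1), (118, 1), (119, 1), (120, 1), (123, 1), (124, 1), (125, 1), (126, 1)],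
     [],
     [(0, 1), (1, 1), (3, 1), (5, 1), (7, 1), (8, 1), (9, 1), (10, 1), (12, 1), (14, 1), (15, 1), (18, 1), (20, 1), (22, 1), (23, 1), (24, 1), (26, 1), (27, 1), (28, 1), (29, 1), (30, 1), (32, 1), (33, 1), (34, 1), (35, 1), (36, 1), (37, 1), (39, 1), (40, 1), (42, 1), (48, 1), (49, 1), (51, 1), (53, 1), (54, 1), (59, 1), (62, 1), (67, 1), (68, 1), (70, 1), (71, 1), (72, 1), (73, 1), (74, 1), (76, 1), (77, 1), (78, 1), (80, 1), (81, 1), (82, 1), (83, 1), (86, 1), (88, 1), (92, 1), (95, 1), (97, 1), (99, 1), (100, 1), (103, 1), (104, 1), (107, 1), (108, 1), (109, 1), (110, 1), (111, 1), (112, 1), (113, 1), (114, 1), (115, 1), (116, 1), (117, 1), (118, 1), (119, 1), (120, 1), (123, 1), (124, 1), (125, 1), (126, 1)]]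

/-- The certificate. -/
def certTwo : Schur.PrimeCert.Cert where
  p := 2
  n := 15
  rules := rulesTwo
  eqs := eqsTwo
  gauge := gaugeTwo
  picks := picksTwo

/-- The words of the chosen elements. -/
def elWordTwo : List (List ℕ) := [
     [4, 4, 7, 8, 6, 8, 7, 9, 11, 12, 12, 10, 16, 19, 14],
     [0, 0, 0, 0, 2, 0, 2, 0, 5, 8, 6, 6, 8, 8, 7, 10, 10, 12, 10, 18, 18, 20],
     [3, 1, 1, 1, 1, 2, 0, 5, 6, 6, 9, 7, 8, 6, 8, 10, 10, 12, 11, 15, 19],
     [1, 2, 0, 3, 0, 3, 0, 4, 4, 8, 6, 8, 6, 6, 8, 7, 11, 15, 19, 20],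
     [2, 1, 2, 1, 3, 1, 6, 6, 8, 8, 7, 8, 8, 10, 13, 16, 18, 15, 20],
     [2, 2, 1, 3, 0, 0, 2, 4, 4, 7, 8, 8, 8, 6, 8, 6, 6, 11, 13, 18, 14, 20, 20],
     [0, 2, 1, 3, 1, 2, 1, 6, 6, 8, 6, 9, 12, 11, 16, 18, 20, 20],
     [1, 2, 1, 3, 0, 3, 1, 4, 6, 6, 9, 7, 8, 6, 8, 11, 12, 10, 16, 19],
     [3, 1, 1, 1, 1, 3, 1, 2, 5, 7, 9, 9, 7, 9, 9, 10, 12, 12, 10, 19, 20],
     [0, 3, 3, 0, 0, 3, 1, 4, 9, 9, 7, 8, 8, 8, 10, 10, 12, 10, 15, 19],
     [3, 3, 1, 3, 3, 3, 3, 1, 5, 7, 7, 8, 8, 7, 8, 7, 10, 12, 12, 16, 14, 18],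
     [0, 0, 2, 1, 2, 0, 3, 3, 4, 4, 7, 8, 7, 7, 9, 9, 7, 13, 10, 13, 10, 14, 20, 20],
     [3, 3, 3, 0, 0, 0, 0, 4, 8, 7, 8, 8, 6, 13, 11, 18, 15, 21],
     [0, 3, 0, 0, 0, 2, 2, 1, 9, 7, 9, 7, 8, 6, 9, 6, 13, 10, 10, 12, 16, 18, 14, 20],
     [3, 1, 3, 0, 2, 5, 9, 6, 8, 8, 8, 8, 7, 7, 12, 12, 11, 18, 18, 21],
     [3, 1, 1, 1, 3, 1, 4, 4, 9, 9, 6, 8, 7, 10, 12, 11, 15, 20, 20],
     [0, 0, 3, 0, 0, 2, 2, 0, 4, 4, 6, 6, 6, 8, 7, 7, 7, 13, 11, 12, 10, 16, 15, 18],
     [2, 1, 1, 3, 3, 3, 0, 5, 7, 9, 7, 9, 7, 9, 6, 8, 12, 10, 15, 18, 20],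
     [3, 0, 2, 2, 2, 1, 5, 8, 8, 7, 8, 7, 9, 12, 12, 11, 16, 18, 14],
     [1, 3, 0, 0, 2, 0, 0, 4, 4, 7, 7, 9, 9, 7, 8, 6, 8, 6, 12, 12, 11, 13, 10, 14, 19, 21],
     [2, 0, 2, 1, 2, 0, 0, 3, 5, 9, 9, 7, 8, 6, 6, 9, 13, 11, 12, 18, 15],
     [1, 1, 1, 1, 3, 3, 3, 4, 7, 8, 6, 8, 8, 7, 8, 13, 11, 12, 10, 14, 20, 20],
     [1, 1, 2, 2, 1, 1, 3, 4, 4, 9, 9, 9, 9, 7, 9, 6, 10, 10, 13, 18, 20, 20],
     [1, 3, 1, 1, 3, 0, 7, 7, 9, 7, 7, 7, 8, 6, 12, 12, 10, 19, 20],
     [2, 1, 2, 0, 3, 3, 1, 1, 9, 7, 7, 9, 9, 7, 12, 11, 13, 10, 16, 14, 18, 20, 20],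
     [1, 1, 1, 1, 1, 3, 9, 6, 9, 7, 7, 7, 7, 12, 12, 12, 10, 16, 14, 20],
     [3, 0, 0, 2, 0, 2, 0, 0, 7, 9, 7, 9, 6, 6, 13, 13, 11, 15, 18, 20, 20],
     [3, 1, 1, 1, 1, 3, 6, 9, 7, 9, 7, 11, 11, 12, 10, 18, 15, 18, 20],
     [3, 0, 2, 1, 4, 4, 8, 7, 7, 9, 6, 9, 10, 10, 12, 10, 18, 14],
     [3, 1, 1, 1, 1, 2, 0, 4, 6, 8, 7, 7, 8, 6, 8, 12, 12, 11, 13, 10, 14, 14],
     [0, 3, 3, 3, 1, 2, 2, 0, 4, 6, 8, 8, 7, 7, 7, 12, 11, 13, 11, 15, 19, 21],
     [3, 1, 1, 3, 0, 0, 0, 4, 9, 9, 6, 6, 6, 6, 12, 10, 10, 13, 19, 15, 20, 20],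
     [1, 1, 3, 0, 3, 0, 3, 0, 0, 7, 7, 7, 9, 6, 8, 13, 13, 11, 14, 19, 21],
     [0, 2, 2, 2, 1, 3, 1, 1, 4, 7, 8, 6, 8, 6, 8, 10, 13, 10, 18, 18, 20, 20],
     [1, 2, 0, 2, 1, 3, 1, 4, 4, 9, 7, 9, 9, 7, 7, 9, 10, 10, 12, 11, 18, 14],
     [3, 3, 1, 3, 3, 1, 2, 0, 5, 9, 6, 9, 7, 9, 7, 8, 11, 13, 10, 13, 11, 18, 14, 21],
     [2, 1, 3, 0, 2, 0, 0, 4, 9, 9, 7, 9, 9, 7, 9, 6, 12, 11, 11, 13, 19],
     [3, 1, 1, 2, 2, 1, 2, 2, 5, 8, 6, 8, 13, 10, 12, 16, 19, 14, 20, 20],
     [1, 2, 2, 2, 2, 1, 1, 4, 4, 8, 6, 6, 6, 9, 9, 7, 8, 10, 13, 11, 12, 15, 18, 20],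
     [2, 2, 0, 3, 3, 3, 0, 6, 9, 9, 9, 6, 8, 8, 6, 11, 12, 10, 16, 18, 14],
     [2, 1, 2, 2, 0, 3, 4, 8, 7, 9, 6, 8, 7, 10, 13, 11, 12, 16, 14, 21]]

/-- The combinations of tails as bit masks. -/
def eqBits : List ℕ := [
     0x2, 0x14, 0x8, 0x10, 0x80, 0x120, 0x40, 0x108, 0x800, 0x1190, 0x2641, 0x400, 0x11980, 0x23000,
     0x2180, 0x4a8c2, 0x410004, 0x20020020, 0x20000783ff, 0x4000000783ff, 0x1000000000783ff,
     0x80000000000050284, 0x80000000000000010004, 0x100000000000000000084000,
     0x4000000000000000000000f7bb4, 0x8030d8, 0x12039ca, 0x80000000001470100, 0x1000000000000000020fbc92,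
     0x400000000000000000003c4add8, 0x200048, 0x400031d8, 0x90003148, 0x62c0359a, 0x40028020, 0x40f00401d8,
     0x8000f00181d8, 0x2000000f0058118, 0x1000000000a00ab84a, 0x1000000000000200b981a,
     0x2000000000000001000dad18, 0x8000000000000000001e746acd0, 0x800000000e2a031d8,
     0x1000000000000001f3601108, 0x5080000200, 0xa00030000007, 0x2800000b00002c7, 0x140000000150005429,
     0x140000000000170005c3f, 0x2800000000000001b0006ec7, 0xa000000000000000004d9e0036b, 0x9003201548,
     0x1e0f000038000, 0x78000f000038000, 0x3c000000a004ae1c8a, 0x3c0000000002005acbd98,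
     0x7800000000000103f000a942, 0x1e0000000000000001e0062d948a, 0x10000000000001f5d74f9540,
     0x100000000000000004d5b2c0149a, 0x7800000000000babd018e873, 0x1e0000000000000005b00b206ec5,
     0x7800000000020003d7233c1c, 0x600000000000009a001026038da, 0x3800000000174c6787e50c6f,
     0x780000000018c00c588001e9, 0x78000000080000000001b0d8, 0x1e00000000000f06a383700bbe85,
     0x1600000000002699ace532e01bd3, 0x380000005d000030400783f7, 0xe00000000002daa6c1543e028a3,
     0x1800000063006000016002c7, 0x1cbf399991000448d, 0x500000401980000387863fbf, 0x5405c0011688650010bb9,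
     0xa800006c42800007c1c61b7b, 0x2a000000013400000d44b100325c, 0x170002004200b60497e,
     0x1701640020062000028896, 0x2e00002e8f8000f2506e79282, 0xb8000000016c0000097020e029c2,
     0x280000319479e400280e30970, 0x1e01d5b2800030012289b8, 0x3c000000c44800007b188ebf5,
     0xf00000000e5ccabca471ba23d6be, 0xd14000005000b804324, 0xd14d94006d56f00df6b5d8,
     0x1a280013ca4c800c62681af518, 0x68a000000065400001c88138042b2, 0x2c82e8000000009f3c5ac9614,
     0x1b293c827df20fab1a52c37d6e, 0x6ca0000654e88001220631c60b186, 0x5d000000000000cdbd1b2a8d9,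
     0x17402d87f8000dfb70af195257e22, 0x27900003367880000f9f5e6e84, 0x9e40cab719abd793ce79443110b81,
     0x19ab57dbb4003274600037d6cf72a, 0x32a0000000e5400001c7ca160535e, 0x2d5e1cadaf400291a736690a1d45c3,
     0x80000000000000000000000000000000bc07bb4, 0x800000000000000000000000000000000005429,
     0x1000000000000000000000000004d80000c7080db, 0x1000000000000000000000000000000000cf2803b,
     0x10000000000000000000000000000bc5c0070f1900, 0x100000002000000000000000000002a171700bb1ca,
     0x40000000000300000000000000006cd6e00c9202b0, 0x40000000c0000000000000000000777b2b201ee6f0,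
     0x200000000000003f000000061f6c74000146400f595431, 0x20000000000fe00000000000000003af12c94ca53c9112,
     0x40000000000000000000000000003803f000000007d3ed4428,
     0x4000000000000000000000000000000000791f2f75e5caab89,
     0x10000000000000000003c00000000000000006dd58e0ae7dee0,
     0x1000000000000000f00000000000000000000787c738186b9c4,
     0x400000000000000000000706cc00000000019c20c25007a3ceae,
     0x400000000000000001c00000000000eec001d732e6135be7c810,
     0x800000000000000000000048a0c00000000036473ccc9314043d9,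
     0x800000000000000000100000000000565c002d2801d387ef2028f,
     0x4000000300000000000000000000000000000000000000000000000006ad530079451db,
     0x40001800000000000000000000000000000000000000000000000025280000a1dc10142,
     0x800000000000000000000000000000000000000000000000055ec002ab8012a0018eb240,
     0x800000000000000000000000000000000000000000000130a000000369dae00cd8e05144,
     0x20000000000300000000000000000000000000000000000000000d58001aeafa7a0037dccaa,
     0x20000000180000000000000000000000000000000000000002528000000c7800a929dd86fa9,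
     0x40000000000080000000000000000000000000000000000000000d40001aca547800588326f,
     0x400000000400000000000000000000000000000000000000019b0000001abb16d7092fadd55,
     0x1000000000003800000000000000000000000000000000000000058ac003074f000003b3df56,
     0x1000000001c0000000000000000000000000000000000000012910000002c20018bc4cece8bf,
     0x20000000000001000000000000000000000000000000000000000012c0000c3800a90976d31fc,
     0x200000000008000000000000000000000000000000000000000b1698500006016c009230f3758,
     0x200000000000000200000000000000000000000000000000000000001fc8001652aebc0e4a93ddb,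
     0x200000000000100000000000000000000000000000000000000003fc0000000a6a84d36e5fd0457]

/-- Points and elements showing the order. -/
def spreadTwo : List (ℕ × List (List ℕ)) := [
  (912, [
     [], [7], [0], [7, 0], [8], [9], [8, 0], [9, 0], [13, 7], [11, 8], [11, 9], [13], [11, 0], [12, 11],
     [11], [11, 7]]),
  (3112, [
     [], [13, 11, 9], [10], [13, 11, 10, 9, 0]]),
  (1992, [
     [], [12, 10, 2], [2], [12, 10], [12, 10, 5], [5, 2], [9, 8, 7], [5]]),
  (392, [
     [], [12, 10, 9, 8, 7, 5, 1], [1], [12, 10, 9, 8, 7, 5], [14, 12, 9, 8, 7, 4], [3, 1, 0],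
     [14, 12, 9, 8, 7, 3, 2], [3, 0]]),
  (660, [
     [], [14, 10, 4]]),
  (24, [
     [], [4, 3, 2, 1]]),
  (0, [
     [], [6, 2]])]

end CfsgLib.Rudvalis
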