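import Cfsg.Agent.Rudvalis.Letters

/-!
A stabiliser chain of the group generated by the two matrix elements, verified by sifting.
-/

set_option autoImplicit false
set_option maxRecDepth 100000

open Finset

namespace CfsgLib.Rudvalis

open CfsgLib.RuLattice CfsgLib.CosetEnum Cfsg Cfsg.Spor

/-- The base point of a level. -/
def basePt : ℕ → ℕ
  | 0 => 0
  | 1 => 0
  | 2 => 80
  | 3 => 177
  | 4 => 86
  | _ => 3506

/-- The label of a point at a level. -/
def lab (k x : ℕ) : ℕ := if Nat.beq k 0 then x / 4 else x

/-- The orbit length of a level. -/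
def levelSize : ℕ → ℕ
  | 0 => 4060
  | 1 => 4
  | 2 => 2304
  | 3 => 78
  | 4 => 25
  | 5 => 4
  | _ => 1

/-- The generators of a level. -/
def levelGens : ℕ → List ℕ
  | 0 => [0, 2]
  | 1 => [4, 6, 8]
  | 2 => [6, 8]
  | 3 => [10, 12]
  | 4 => [14, 16, 18]
  | 5 => [20]
  | _ => []

/-- The index of a label. -/
def posAt : ℕ → ℕ → ℕ
  | 0 => get16 posTable0
  | 1 => get16 posTable1
  | 2 => get16 posTable2
  | 3 => get16 posTable3
  | 4 => get16 posTable4
  | _ => get16 posTable5

/-- The inverse letter. -/
def linv (l : ℕ) : ℕ := if Nat.beq (l % 2) 0 then l + 1 else l - 1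

/-- The inverse word. -/
def winv (w : List ℕ) : List ℕ := w.reverse.map linv

/-- The images under a word, evaluated at once. -/
def mapAct (w : List ℕ) : List ℕ → (List ℕ → Bool) → Bool
  | [], k => k []
  | x :: l, k => forceN (act w x) fun y => mapAct w l fun t => k (y :: t)

theorem mapAct_eq (w : List ℕ) : ∀ (l : List ℕ) (k : List ℕ → Bool), mapAct w l k = k (l.map (act w))
  | [], _ => rfl
  | x :: l, k => by rw [mapAct, forceN_eq, mapAct_eq w l]; rfl

/-- Sifting of an element given by the images of the remaining base points. -/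
def sift : ℕ → ℕ → List ℕ → Bool
  | 0, _, _ => true
  | f + 1, k, pts =>
    match pts with
    | [] => false
    | x :: rest =>
      forceN (posAt k (lab k x)) fun i =>
        Nat.blt i (levelSize k) && Nat.beq (lab k (act (transWord k i) (basePt k))) (lab k x) &&
          mapAct (winv (transWord k i)) rest fun t => sift f (k + 1) t

/-- The images of the base points from a level on. -/
def imgsW (k : ℕ) (w : List ℕ) : List ℕ := (List.range (6 - k)).map fun j => act w (basePt (k + j))

/-- The checks on one transversal word. -/
def transWordOK (k i : ℕ) : Bool :=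
  forceN (lab k (act (transWord k i) (basePt k))) fun y =>
    Nat.beq (posAt k y) i &&
    (transWord k i).all fun l =>
      Nat.blt l 22 && ((levelGens k).contains l || (levelGens k).contains (linv l))

/-- The generators of a level fix the earlier base points. -/
def fixOK (k : ℕ) : Bool :=
  (levelGens k).all fun l => Nat.blt l 22 && (l % 2 == 0) &&
    (List.range k).all fun j => Nat.beq (lab j (img l (basePt j))) (lab j (basePt j))

/-- The Schreier condition at one transversal word. -/
def schreierOK (k i : ℕ) : Bool :=
  (levelGens k).all fun s => sift (6 - k) k (imgsW k (s :: transWord k i))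

/-- The checks of a part of a level. -/
def levelOK (k lo len : ℕ) : Bool :=
  (List.range len).all fun i => forceN (lo + i) fun j => transWordOK k j && schreierOK k j

/-- A label is fixed. -/
def Fixes (j : ℕ) (g : fourRu) : Prop :=
  ∀ h : basePt j < NV, lab j (moved g ⟨basePt j, h⟩).val = lab j (basePt j)

theorem basePt_lt (j : ℕ) : basePt j < NV := by
  unfold basePt; split <;> norm_num [NV]

/-- The base point as a vector index. -/
def baseV (j : ℕ) : V := ⟨basePt j, basePt_lt j⟩

theorem lab_zero (x : ℕ) : lab 0 x = x / 4 := rfl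

theorem lab_succ (k x : ℕ) : lab (k + 1) x = x := rfl

theorem lab_congr (g : fourRu) {k : ℕ} {n m : V} (h : lab k n.val = lab k m.val) :
    lab k (moved g n).val = lab k (moved g m).val := by
  cases k with
  | succ k =>
    rw [lab_succ, lab_succ] at h
    rw [Fin.ext h]
  | zero =>
    rw [lab_zero, lab_zero] at h
    have it : ∀ (u : ℕ) (x : V), (moved g ((vImul^[u]) x)).val / 4 = (moved g x).val / 4 ∧
        ((vImul^[u]) x).val = 4 * (x.val / 4) + (x.val + u) % 4 := by
      intro u
      induction u with
      | zero => intro x; exact ⟨rfl, by simp only [Function.iterate_zero, id]; omega⟩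
      | succ u ih =>
        intro x
        obtain ⟨a, b⟩ := ih x
        rw [Function.iterate_succ_apply', moved_imul]
        refine ⟨?_, ?_⟩
        · show imulI _ / 4 = _
          rw [← a]; unfold imulI; omega
        · show imulI _ = _
          rw [b]; unfold imulI; omega
    have := n.2; have := m.2
    have e : (vImul^[(m.val % 4 + 4 - n.val % 4) % 4]) n = m := Fin.ext (by
      rw [(it _ n).2]; omega)
    rw [lab_zero, lab_zero, ← e, (it _ n).1]

theorem Fixes.mul {j : ℕ} {g h : fourRu} (hg : Fixes j g) (hh : Fixes j h) : Fixes j (g * h) := by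
  intro hb
  rw [moved_mul, lab_congr g (m := ⟨basePt j, hb⟩) (hh hb)]
  exact hg hb

theorem Fixes.inv {j : ℕ} {g : fourRu} (hg : Fixes j g) : Fixes j g⁻¹ := by
  intro hb
  have e := lab_congr g⁻¹ (n := moved g ⟨basePt j, hb⟩) (m := ⟨basePt j, hb⟩) (hg hb)
  rw [← moved_mul, inv_mul_cancel, moved_one] at e
  exact e.symm

theorem fixes_one (j : ℕ) : Fixes j 1 := fun hb => by rw [moved_one]

set_option maxHeartbeats 0 in
theorem level0_0 : levelOK 0 0 406 = true := by decide +kernel

set_option maxHeartbeats 0 in
theorem level0_1 : levelOK 0 406 406 = true := by decide +kernel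

set_option maxHeartbeats 0 in
theorem level0_2 : levelOK 0 812 406 = true := by decide +kernel

set_option maxHeartbeats 0 in
theorem level0_3 : levelOK 0 1218 406 = true := by decide +kernel

set_option maxHeartbeats 0 in
theorem level0_4 : levelOK 0 1624 406 = true := by decide +kernel

set_option maxHeartbeats 0 in
theorem level0_5 : levelOK 0 2030 406 = true := by decide +kernel

set_option maxHeartbeats 0 in
theorem level0_6 : levelOK 0 2436 406 = true := by decide +kernel

set_option maxHeartbeats 0 in
theorem level0_7 : levelOK 0 2842 406 = true := by decide +kernel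

set_option maxHeartbeats 0 in
theorem level0_8 : levelOK 0 3248 406 = true := by decide +kernel

set_option maxHeartbeats 0 in
theorem level0_9 : levelOK 0 3654 406 = true := by decide +kernel

set_option maxHeartbeats 0 in
theorem level1_0 : levelOK 1 0 4 = true := by decide +kernel

set_option maxHeartbeats 0 in
theorem level2_0 : levelOK 2 0 576 = true := by decide +kernel

set_option maxHeartbeats 0 in
theorem level2_1 : levelOK 2 576 576 = true := by decide +kernel

set_option maxHeartbeats 0 in
theorem level2_2 : levelOK 2 1152 576 = true := by decide +kernel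

set_option maxHeartbeats 0 in
theorem level2_3 : levelOK 2 1728 576 = true := by decide +kernel

set_option maxHeartbeats 0 in
theorem level3_0 : levelOK 3 0 78 = true := by decide +kernel

set_option maxHeartbeats 0 in
theorem level4_0 : levelOK 4 0 25 = true := by decide +kernel

set_option maxHeartbeats 0 in
theorem level5_0 : levelOK 5 0 4 = true := by decide +kernel

theorem fix_all : ∀ k < 6, fixOK k = true := by decide +kernel

theorem levelOK_mem {k lo len i : ℕ} (h : levelOK k lo len = true) (h1 : lo ≤ i) (h2 : i < lo + len) :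
    transWordOK k i = true ∧ schreierOK k i = true := by
  simp only [levelOK, List.all_eq_true, List.mem_range, forceN_eq, Bool.and_eq_true] at h
  have := h (i - lo) (by omega)
  rwa [show lo + (i - lo) = i by omega] at this

theorem level_all : ∀ k < 6, ∀ i < levelSize k, transWordOK k i = true ∧ schreierOK k i = true := by
  intro k hk i hi
  interval_cases k <;> simp only [levelSize] at hi
  · obtain h | h | h | h | h | h | h | h | h | h : (0 ≤ i ∧ i < 0 + 406) ∨ (406 ≤ i ∧ i < 406 + 406) ∨ (812 ≤ i ∧ i < 812 + 406) ∨ (1218 ≤ i ∧ i < 1218 + 406) ∨ (1624 ≤ i ∧ i < 1624 + 406) ∨ (2030 ≤ i ∧ i < 2030 + 406) ∨ (2436 ≤ i ∧ i < 2436 + 406) ∨ (2842 ≤ i ∧ i < 2842 + 406) ∨ (3248 ≤ i ∧ i < 3248 + 406) ∨ (3654 ≤ i ∧ i < 3654 + 406) := by omega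
    · exact levelOK_mem level0_0 h.1 h.2
    · exact levelOK_mem level0_1 h.1 h.2
    · exact levelOK_mem level0_2 h.1 h.2
    · exact levelOK_mem level0_3 h.1 h.2
    · exact levelOK_mem level0_4 h.1 h.2
    · exact levelOK_mem level0_5 h.1 h.2
    · exact levelOK_mem level0_6 h.1 h.2
    · exact levelOK_mem level0_7 h.1 h.2
    · exact levelOK_mem level0_8 h.1 h.2
    · exact levelOK_mem level0_9 h.1 h.2
  · exact levelOK_mem level1_0 (by omega) (by omega)
  · obtain h | h | h | h : (0 ≤ i ∧ i < 0 + 576) ∨ (576 ≤ i ∧ i < 576 + 576) ∨ (1152 ≤ i ∧ i < 1152 + 576) ∨ (1728 ≤ i ∧ i < 1728 + 576) := by omega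
    · exact levelOK_mem level2_0 h.1 h.2
    · exact levelOK_mem level2_1 h.1 h.2
    · exact levelOK_mem level2_2 h.1 h.2
    · exact levelOK_mem level2_3 h.1 h.2
  · exact levelOK_mem level3_0 (by omega) (by omega)
  · exact levelOK_mem level4_0 (by omega) (by omega)
  · exact levelOK_mem level5_0 (by omega) (by omega)

end CfsgLib.Rudvalis
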