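import Cfsg.Agent.Rudvalis.Gens

/-!
Checks of the first generating matrix.
-/

set_option autoImplicit false
set_option maxRecDepth 100000
set_option maxHeartbeats 0

namespace CfsgLib.Rudvalis

theorem codesAOK : codesOK matA codesA = true ∧ codesOK matAInv codesAInv = true := by decide +kernel

theorem spanA : spanOK matA = true := by decide +kernel

theorem spanInvA : spanOK matAInv = true := by decide +kernel

theorem transA : transOK matA matAInv = true := by decide +kernel

theorem unitA : unitOK matA = true := by decide +kernel

theorem encRowsA : encOK matA encA = true := by decide +kernel

theorem tableA0 : tableFor encA 0 0 = true := by decide +kernel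

theorem tableA1 : tableFor encA 0 1 = true := by decide +kernel

theorem tableA2 : tableFor encA 0 2 = true := by decide +kernel

theorem tableA3 : tableFor encA 0 3 = true := by decide +kernel

theorem tableA4 : tableFor encA 0 4 = true := by decide +kernel

theorem tableA5 : tableFor encA 0 5 = true := by decide +kernel

theorem tableA6 : tableFor encA 0 6 = true := by decide +kernel

theorem tableA7 : tableFor encA 0 7 = true := by decide +kernel

theorem tableA8 : tableFor encA 0 8 = true := by decide +kernel

theorem tableA9 : tableFor encA 0 9 = true := by decide +kernel

theorem tableA10 : tableFor encA 0 10 = true := by decide +kernel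

theorem tableA11 : tableFor encA 0 11 = true := by decide +kernel

theorem tableA12 : tableFor encA 0 12 = true := by decide +kernel

theorem tableA13 : tableFor encA 0 13 = true := by decide +kernel

theorem tableA14 : tableFor encA 0 14 = true := by decide +kernel

theorem tableA15 : tableFor encA 0 15 = true := by decide +kernel

theorem tableA16 : tableFor encA 0 16 = true := by decide +kernel

theorem tableA17 : tableFor encA 0 17 = true := by decide +kernel

theorem tableA18 : tableFor encA 0 18 = true := by decide +kernel

theorem tableA19 : tableFor encA 0 19 = true := by decide +kernel

theorem tableA20 : tableFor encA 0 20 = true := by decide +kernel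

theorem tableA21 : tableFor encA 0 21 = true := by decide +kernel

theorem tableA22 : tableFor encA 0 22 = true := by decide +kernel

theorem tableA23 : tableFor encA 0 23 = true := by decide +kernel

theorem tableA24 : tableFor encA 0 24 = true := by decide +kernel

theorem tableA25 : tableFor encA 0 25 = true := by decide +kernel

theorem tableA26 : tableFor encA 0 26 = true := by decide +kernel

theorem tableA27 : tableFor encA 0 27 = true := by decide +kernel

theorem lin_A : ∀ n < NV, img 0 n < NV ∧ lin matA (vec n) = fun q => 4 * vec (img 0 n) q :=
  lin_vec (gram_of_codes codesAOK.1) unitA encRowsA fun k hk => by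
    interval_cases k
    exacts [tableA0, tableA1, tableA2, tableA3, tableA4, tableA5, tableA6, tableA7, tableA8, tableA9, tableA10, tableA11, tableA12, tableA13, tableA14, tableA15, tableA16, tableA17, tableA18, tableA19, tableA20, tableA21, tableA22, tableA23, tableA24, tableA25, tableA26, tableA27]

theorem autoA : autoOK matA matAInv = true := by
  simp [autoOK, gram_of_codes codesAOK.1, gram_of_codes codesAOK.2, spanA, spanInvA, transA, unitA]

end CfsgLib.Rudvalis
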