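import Cfsg.Agent.Rudvalis.Order
import Cfsg.Agent.Rudvalis.ClassData

/-!
The action of `Ru` on the 4060 classes of vectors up to units: faithful and primitive; `Ru` is simple.
-/

set_option autoImplicit false
set_option maxRecDepth 100000

open Finset

namespace CfsgLib.Rudvalis

open CfsgLib.RuLattice CfsgLib.CosetEnum Cfsg Cfsg.Spor

/-- The classes. -/
abbrev Cls : Type := Fin 4060

/-- The representative of a class. -/
def rep (c : Cls) : V := ⟨4 * c.val, by have := c.2; simp only [NV]; omega⟩

/-- The class of a vector. -/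
def clsOf (n : V) : Cls := ⟨n.val / 4, by have := n.2; simp only [NV] at this; omega⟩

theorem clsOf_rep (c : Cls) : clsOf (rep c) = c := Fin.ext (by simp [clsOf, rep])

theorem clsOf_moved (g : fourRu) {n m : V} (h : clsOf n = clsOf m) :
    clsOf (moved g n) = clsOf (moved g m) :=
  Fin.ext (lab_congr g (k := 0) (congrArg Fin.val h))

/-- The image of a class. -/
noncomputable def clsMoved (g : fourRu) (c : Cls) : Cls := clsOf (moved g (rep c))

theorem clsMoved_one (c : Cls) : clsMoved 1 c = c := by rw [clsMoved, moved_one, clsOf_rep]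

theorem clsMoved_mul (g h : fourRu) (c : Cls) : clsMoved (g * h) c = clsMoved g (clsMoved h c) := by
  rw [clsMoved, moved_mul]
  exact clsOf_moved g (clsOf_rep _).symm

/-- The action on classes. -/
noncomputable def clsHom : fourRu →* Equiv.Perm Cls where
  toFun g :=
    { toFun := clsMoved g
      invFun := clsMoved g⁻¹
      left_inv := fun c => by rw [← clsMoved_mul, inv_mul_cancel, clsMoved_one]
      right_inv := fun c => by rw [← clsMoved_mul, mul_inv_cancel, clsMoved_one] }
  map_one' := Equiv.ext clsMoved_one
  map_mul' g h := Equiv.ext (clsMoved_mul g h)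

theorem clsHom_apply (g : fourRu) (c : Cls) : clsHom g c = clsMoved g c := rfl

theorem center_le_ker : Subgroup.center fourRu ≤ clsHom.ker := by
  intro z hz
  obtain ⟨u, -, rfl⟩ := central_iff hz
  refine MonoidHom.mem_ker.2 (Equiv.ext fun c => Fin.ext ?_)
  show (moved (iElt ^ u) (rep c)).val / 4 = c.val
  rw [moved_iPow, show (rep c).val = 4 * c.val from rfl]
  omega

/-- The class joined to a class. -/
def joinOf (c : ℕ) : ℕ := get16 joinTable c

/-- Two classes determine the unit of an element fixing both. -/
def tiedOK (p c : ℕ) : Bool :=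
  forceN (ipI (4 * p) (4 * c)) fun v => (List.range 3).all fun j => !(Nat.beq (ipI (4 * p) (4 * c + (j + 1))) v)

/-- Every class is tied to one tied to the first. -/
def joinOK (lo : ℕ) : Bool :=
  (List.range 203).all fun i => forceN (203 * lo + i) fun c =>
    Nat.beq c 0 || (forceN (joinOf c) fun p =>
      Nat.blt p 4060 && tiedOK p c && (Nat.beq p 0 || (Nat.beq (joinOf p) 0 && tiedOK 0 p)))

theorem joinOK_all : ∀ lo < 20, joinOK lo = true := by decide +kernel

theorem ker_eq : clsHom.ker = Subgroup.center fourRu := by
  refine le_antisymm (fun g hg => ?_) center_le_ker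
  have hfix : ∀ n : V, (moved g n).val / 4 = n.val / 4 := fun n => by
    have := Equiv.ext_iff.1 (MonoidHom.mem_ker.1 hg) (clsOf n)
    rw [Equiv.Perm.one_apply, clsHom_apply, clsMoved,
      clsOf_moved g (clsOf_rep (clsOf n))] at this
    exact congrArg Fin.val this
  set u := (moved g (baseV 0)).val with hu
  have hu4 : u < 4 := by
    have := hfix (baseV 0)
    rw [← hu, show (baseV 0).val = 0 from rfl] at this
    omega
  set s := (iElt ^ u)⁻¹ * g with hs
  have hsfix : ∀ n : V, (moved s n).val / 4 = n.val / 4 := by
    intro n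
    have e : g = iElt ^ u * s := by rw [hs, mul_inv_cancel_left]
    have := hfix n
    rw [e, moved_mul, moved_iPow] at this
    omega
  have hs0 : moved s (baseV 0) = baseV 0 := by
    rw [hs, moved_mul, show moved g (baseV 0) = moved (iElt ^ u) (baseV 0) from Fin.ext (by
      rw [moved_iPow, ← hu, show (baseV 0).val = 0 from rfl]; omega), ← moved_mul, inv_mul_cancel,
      moved_one]
  have tie : ∀ p c : Cls, tiedOK p.val c.val = true → moved s (rep p) = rep p → moved s (rep c) = rep c := by
    intro p c ht hp
    simp only [tiedOK, forceN_eq, List.all_eq_true, List.mem_range, Bool.not_eq_true'] at ht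
    have h4 := hsfix (rep c)
    have e := ipI_moved s (rep p) (rep c)
    rw [hp] at e
    rw [show (rep c).val = 4 * c.val from rfl] at h4 e
    refine Fin.ext ?_
    by_contra hne
    rw [show (rep c).val = 4 * c.val from rfl] at hne
    have := ht ((moved s (rep c)).val % 4 - 1) (by omega)
    rw [show 4 * c.val + ((moved s (rep c)).val % 4 - 1 + 1) = (moved s (rep c)).val by omega] at this
    rw [show (rep p).val = 4 * p.val from rfl] at e
    simp [e] at this
  have hall : ∀ c : Cls, moved s (rep c) = rep c := by
    intro c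
    have hc := c.2
    have := joinOK_all (c.val / 203) (by omega)
    simp only [joinOK, forceN_eq, List.all_eq_true, List.mem_range, Bool.or_eq_true, Nat.beq_eq,
      Bool.and_eq_true, Nat.blt, Nat.ble_eq] at this
    have h := this (c.val % 203) (Nat.mod_lt _ (by norm_num))
    rw [Nat.div_add_mod] at h
    have h0 : rep ⟨0, by norm_num⟩ = baseV 0 := rfl
    rcases h with h | ⟨⟨hp, ht⟩, hr⟩
    · rw [show c = ⟨0, by norm_num⟩ from Fin.ext h, h0]; exact hs0
    · refine tie ⟨joinOf c.val, hp⟩ c ht ?_
      rcases hr with hr | ⟨-, hr⟩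
      · rw [show (⟨joinOf c.val, hp⟩ : Cls) = ⟨0, by norm_num⟩ from Fin.ext hr, h0]; exact hs0
      · exact tie ⟨0, by norm_num⟩ ⟨joinOf c.val, hp⟩ hr (by rw [h0]; exact hs0)
  have : s = 1 := eq_one_of_fixed fun b _ hb => by
    have e : (vImul^[b % 4]) (rep (clsOf ⟨b, hb⟩)) = ⟨b, hb⟩ := by
      have it : ∀ u (c : Cls), u < 4 → ((vImul^[u]) (rep c)).val = 4 * c.val + u := by
        intro u c
        induction u with
        | zero => intro _; rfl
        | succ u ih =>
          intro hu
          rw [Function.iterate_succ_apply']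
          show imulI _ = _
          rw [ih (by omega)]; unfold imulI; omega
      refine Fin.ext ?_
      rw [it _ _ (by omega), show (clsOf ⟨b, hb⟩).val = b / 4 from rfl]
      show _ = b
      omega
    rw [← e]
    have it : ∀ u, moved s ((vImul^[u]) (rep (clsOf ⟨b, hb⟩))) = (vImul^[u]) (rep (clsOf ⟨b, hb⟩)) := by
      intro u
      induction u with
      | zero => exact hall _
      | succ u ih => rw [Function.iterate_succ_apply', moved_imul, ih]
    exact it _
  have e : g = iElt ^ u := (inv_mul_eq_one.1 this).symm
  rw [e]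
  exact Subgroup.mem_center_iff.2 fun h => (Commute.pow_right (iElt_comm h) u).eq

/-- The action of `Ru` on classes. -/
noncomputable def ruHom : Spor.Ru →* Equiv.Perm Cls :=
  QuotientGroup.lift _ clsHom center_le_ker

theorem ruHom_mk (g : fourRu) : ruHom (QuotientGroup.mk g) = clsHom g := rfl

theorem ruHom_injective : Function.Injective ruHom := by
  rw [injective_iff_map_eq_one]
  intro x
  induction x using QuotientGroup.induction_on with
  | H g =>
    intro h
    rw [QuotientGroup.eq_one_iff, ← ker_eq]
    exact MonoidHom.mem_ker.2 h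

/-- The orthogonal classes are joined by the stabiliser of the first. -/
def orbitOK : Bool :=
  (List.range 4060).all fun c => Nat.beq c 0 ||
    forceN (get16 orthPos c) fun i =>
    if Nat.blt i 1755 then
      Nat.beq (act ((orthParts.getD (i / 500) []).getD (i % 500) []) (4 * orthBase) / 4) c &&
        ((orthParts.getD (i / 500) []).getD (i % 500) []).all fun l => Nat.ble 6 l && Nat.blt l 10
    else
      (List.range 4).any fun u => forceN (posAt 2 (4 * c + u)) fun i =>
        Nat.blt i 2304 && Nat.beq (act (transWord 2 i) 80 / 4) c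

theorem orbitOK_true : orbitOK = true := by decide +kernel

/-- The two nontrivial suborbits. -/
def inOrth (c : Cls) : Bool := Nat.blt (get16 orthPos c.val) 1755

theorem suborbit_sizes : ((List.range 4060).filter fun c => Nat.blt (get16 orthPos c) 1755).length = 1755 ∧
    Nat.beq (get16 orthPos 0) 65535 = true := by decide +kernel

noncomputable instance : MulAction Spor.Ru Cls := MulAction.compHom Cls ruHom

theorem smul_mk (g : fourRu) (c : Cls) : (QuotientGroup.mk g : Spor.Ru) • c = clsMoved g c := rfl

theorem pretransitive : MulAction.IsPretransitive Spor.Ru Cls := by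
  refine (MulAction.isPretransitive_iff_base (⟨0, by norm_num⟩ : Cls)).2 fun c => ?_
  obtain ⟨g, hg⟩ := transitive (rep c)
  refine ⟨QuotientGroup.mk g, ?_⟩
  rw [smul_mk, clsMoved, show rep ⟨0, by norm_num⟩ = baseV 0 from rfl, hg, clsOf_rep]

theorem fixes_gword {j : ℕ} : ∀ w : List ℕ, (∀ l ∈ w, Fixes j (E l)) → Fixes j (gword E w) := by
  intro w
  induction w with
  | nil => intro _; exact fixes_one j
  | cons l w ih =>
    intro h
    rw [gword_cons]
    exact (h l List.mem_cons_self).mul (ih fun x hx => h x (List.mem_cons_of_mem _ hx))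

/-- A representative of the suborbit of a class. -/
def subBase (c : Cls) : Cls :=
  if inOrth c then ⟨orthBase % 4060, Nat.mod_lt _ (by norm_num)⟩ else ⟨20, by norm_num⟩

theorem stab_reaches {c : Cls} (hc : c.val ≠ 0) : ∃ g : fourRu,
    clsMoved g ⟨0, by norm_num⟩ = ⟨0, by norm_num⟩ ∧ clsMoved g (subBase c) = c := by
  have h := List.all_eq_true.1 orbitOK_true c.val (List.mem_range.2 c.2)
  simp only [Bool.or_eq_true, Nat.beq_eq, hc, false_or, forceN_eq] at h
  have hfix : ∀ l, 6 ≤ l → l < 10 → Fixes 0 (E l) := by
    intro l h6 h10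
    have h2 : ∀ m ∈ levelGens 2, Fixes 0 (E m) := fun m hm => gens_fix (by norm_num) (by norm_num) (E_mem_G hm)
    have hinv : ∀ m ∈ levelGens 2, Fixes 0 (E (linv m)) := fun m hm => by
      rw [E_linv (gens_lt hm).1]; exact (h2 m hm).inv
    interval_cases l
    exacts [h2 6 (by simp [levelGens]), hinv 6 (by simp [levelGens]), h2 8 (by simp [levelGens]),
      hinv 8 (by simp [levelGens])]
  by_cases ho : inOrth c = true
  · rw [if_pos (show Nat.blt (get16 orthPos c.val) 1755 = true from ho)] at h
    simp only [Bool.and_eq_true, Nat.beq_eq, List.all_eq_true, Nat.blt, Nat.ble_eq] at h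
    obtain ⟨he, hw⟩ := h
    set w := (orthParts.getD (get16 orthPos c.val / 500) []).getD (get16 orthPos c.val % 500) []
    have hw22 : ∀ l ∈ w, l < 22 := fun l hl => by have := hw l hl; omega
    refine ⟨gword E w, ?_, ?_⟩
    · have hF : Fixes 0 (gword E w) :=
        fixes_gword w fun l hl => hfix l (hw l hl).1 (by have := (hw l hl).2; omega)
      exact Fin.ext (hF (basePt_lt 0))
    · refine Fin.ext ?_
      rw [subBase, if_pos ho]
      show (moved (gword E w) (rep ⟨orthBase % 4060, _⟩)).val / 4 = _
      rw [moved_word _ hw22]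
      exact he
  · rw [if_neg (show ¬ Nat.blt (get16 orthPos c.val) 1755 = true from ho)] at h
    simp only [List.any_eq_true, Bool.and_eq_true, Nat.beq_eq, Nat.blt, Nat.ble_eq] at h
    obtain ⟨u, -, hi, he⟩ := h
    have hw22 := transWord_lt (k := 2) (by norm_num) (show posAt 2 (4 * c.val + u) < levelSize 2 from hi)
    refine ⟨gword E (transWord 2 (posAt 2 (4 * c.val + u))), ?_, ?_⟩
    · exact Fin.ext (gens_fix (by norm_num) (by norm_num)
        (gword_transWord_mem (by norm_num) hi) (j := 0) (basePt_lt 0))
    · refine Fin.ext ?_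
      rw [subBase, if_neg ho]
      show (moved _ (rep ⟨20, _⟩)).val / 4 = _
      rw [moved_word _ hw22]
      exact he

open scoped Pointwise in
theorem preprimitive : MulAction.IsPreprimitive Spor.Ru Cls := by
  classical
  haveI := pretransitive
  let a : Cls := ⟨0, by norm_num⟩
  refine MulAction.IsPreprimitive.of_isTrivialBlock_base a fun {B} ha hB => ?_
  have hsub : ∀ c : Cls, c ∈ B → c ≠ a → ∀ d : Cls, d ≠ a → inOrth d = inOrth c → d ∈ B := by
    intro c hcB hca d hda hio
    have hsb : subBase d = subBase c := by simp only [subBase, hio]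
    obtain ⟨g, hg0, hg⟩ := stab_reaches (c := c) (fun h => hca (Fin.ext h))
    obtain ⟨k, hk0, hk⟩ := stab_reaches (c := d) (fun h => hda (Fin.ext h))
    have key : ∀ x : fourRu, clsMoved x a = a → ∀ e ∈ B, clsMoved x e ∈ B := by
      intro x hx e he
      have hx' : (QuotientGroup.mk x : Spor.Ru) • a = a := hx
      have := hB.smul_eq_of_mem ha (hx'.symm ▸ ha : (QuotientGroup.mk x : Spor.Ru) • a ∈ B)
      rw [← smul_mk, ← this]
      exact Set.smul_mem_smul_set he
    have hginv : clsMoved g⁻¹ a = a := by
      have e0 : clsMoved g a = a := hg0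
      conv_lhs => rw [← e0, ← clsMoved_mul, inv_mul_cancel, clsMoved_one]
    have e : clsMoved (k * g⁻¹) c = d := by
      rw [clsMoved_mul]
      conv_lhs => rw [← hg, ← clsMoved_mul g⁻¹, inv_mul_cancel, clsMoved_one, ← hsb]
      exact hk
    rw [← e]
    refine key _ ?_ c hcB
    rw [clsMoved_mul, hginv, hk0]
  have hdvd := hB.ncard_dvd_card ⟨a, ha⟩
  rw [Nat.card_fin] at hdvd
  have hcount : ∀ b : Bool, (univ.filter fun d : Cls => d ≠ a ∧ inOrth d = b).card =
      if b then 1755 else 2304 := by
    have htot : (univ.filter fun d : Cls => inOrth d = true).card = 1755 := by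
      rw [← suborbit_sizes.1, ← List.toFinset_card_of_nodup (List.nodup_range.filter _)]
      refine card_bij (fun d _ => d.val) (fun d hd => ?_) (fun x _ y _ e => Fin.ext e) fun n hn => ?_
      · simp only [List.mem_toFinset, List.mem_filter, List.mem_range]
        exact ⟨d.2, (mem_filter.1 hd).2⟩
      · simp only [List.mem_toFinset, List.mem_filter, List.mem_range] at hn
        exact ⟨⟨n, hn.1⟩, mem_filter.2 ⟨mem_univ _, hn.2⟩, rfl⟩
    have ha0 : inOrth a = false := by
      have h0 := Nat.eq_of_beq_eq_true suborbit_sizes.2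
      have h0' : get16 orthPos a.val = 65535 := h0
      simp only [inOrth, h0']
      rfl
    have h1 : (univ.filter fun d : Cls => d ≠ a ∧ inOrth d = true).card = 1755 := by
      rw [← htot]
      refine congrArg Finset.card ?_
      refine filter_congr fun d _ => ⟨fun h => h.2, fun h => ⟨?_, h⟩⟩
      rintro rfl
      rw [ha0] at h
      exact Bool.false_ne_true h
    intro b
    cases b
    · simp only [Bool.false_eq_true, if_false]
      have h2 := card_filter_add_card_filter_not (s := (univ : Finset Cls).erase a)
        (fun d => inOrth d = true)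
      rw [card_erase_of_mem (mem_univ a), card_univ, Fintype.card_fin] at h2
      have e1 : ((univ : Finset Cls).erase a).filter (fun d => inOrth d = true) =
          univ.filter fun d => d ≠ a ∧ inOrth d = true := by ext; simp
      have e2 : ((univ : Finset Cls).erase a).filter (fun d => ¬ inOrth d = true) =
          univ.filter fun d => d ≠ a ∧ inOrth d = false := by ext; simp
      rw [e1, e2, h1] at h2
      omega
    · simpa using h1
  by_cases hone : ∀ c ∈ B, c = a
  · left
    intro x hx y hy
    rw [hone x hx, hone y hy]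
  push Not at hone
  obtain ⟨c, hcB, hca⟩ := hone
  set S : Finset Cls := univ.filter fun d => d ≠ a ∧ inOrth d = inOrth c
  set T : Finset Cls := univ.filter fun d => d ≠ a ∧ inOrth d = !inOrth c
  by_cases hT : ∃ d ∈ T, d ∈ B
  · right
    obtain ⟨d, hdT, hdB⟩ := hT
    simp only [T, mem_filter, mem_univ, true_and] at hdT
    refine Set.eq_univ_of_forall fun x => ?_
    by_cases hxa : x = a
    · exact hxa ▸ ha
    · rcases Bool.eq_or_eq_not (inOrth x) (inOrth c) with h | h
      · exact hsub c hcB hca x hxa h
      · exact hsub d hdB hdT.1 x hxa (h.trans hdT.2.symm)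
  · exfalso
    push Not at hT
    have hBeq : B = ↑(insert a S) := by
      ext x
      simp only [coe_insert, Set.mem_insert_iff, S, coe_filter, mem_univ, true_and, Set.mem_setOf_eq]
      constructor
      · intro hx
        by_cases hxa : x = a
        · exact Or.inl hxa
        · refine Or.inr ⟨hxa, ?_⟩
          rcases Bool.eq_or_eq_not (inOrth x) (inOrth c) with h | h
          · exact h
          · exact absurd hx (hT x (by simp only [T, mem_filter, mem_univ, true_and]; exact ⟨hxa, h⟩))
      · rintro (rfl | ⟨hxa, h⟩)
        exacts [ha, hsub c hcB hca x hxa h]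
    rw [hBeq, Set.ncard_coe_finset, card_insert_of_notMem (by simp [S]), hcount] at hdvd
    split_ifs at hdvd <;> norm_num at hdvd

theorem pow29 : ∀ l ∈ levelGens 0, (QuotientGroup.mk (E l) : Spor.Ru) ^ 29 = 1 := by
  intro l hl
  rw [← QuotientGroup.mk_pow]
  have key : ∀ l ∈ levelGens 0, (basePts.all fun b => Nat.beq (act (List.replicate 29 l) b) b) = true := by
    decide +kernel
  have : E l ^ 29 = 1 := eq_one_of_fixed fun b hb hlt => Fin.ext (by
    have e : E l ^ 29 = gword E (List.replicate 29 l) := by
      rw [gword, List.map_replicate, List.prod_replicate]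
    rw [e, moved_word _ fun x hx => by rw [List.eq_of_mem_replicate hx]; exact (gens_lt hl).1]
    exact Nat.eq_of_beq_eq_true (List.all_eq_true.1 (key l hl) b hb))
  rw [this, QuotientGroup.mk_one]

theorem G_zero_map_top : (G 0).map (QuotientGroup.mk' (Subgroup.center fourRu)) = ⊤ := by
  rw [eq_top_iff]
  intro x _
  induction x using QuotientGroup.induction_on with
  | H g =>
    rcases mem_or_mul g with h | h
    · exact ⟨g, h, rfl⟩
    · refine ⟨iElt * g, h, ?_⟩
      show (QuotientGroup.mk (iElt * g) : Spor.Ru) = QuotientGroup.mk g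
      rw [QuotientGroup.mk_mul, (QuotientGroup.eq_one_iff iElt).2
        (Subgroup.mem_center_iff.2 fun h => iElt_comm h), one_mul]

theorem isSimple : IsSimpleGroup Spor.Ru := by
  have : Finite fourRu := Finite.of_injective _ permHom_injective
  have : Finite Spor.Ru := Quotient.finite _
  haveI : Nontrivial Spor.Ru :=
    Finite.one_lt_card_iff_nontrivial.1 (by rw [card_Ru]; norm_num)
  haveI := preprimitive
  haveI : FaithfulSMul Spor.Ru Cls := ⟨fun h => ruHom_injective (Equiv.ext h)⟩
  refine ⟨fun N hN => ?_⟩
  by_cases hfix : MulAction.fixedPoints N Cls = Set.univ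
  · left
    rw [Subgroup.eq_bot_iff_forall]
    intro x hx
    refine eq_of_smul_eq_smul fun c : Cls => ?_
    have hc : c ∈ MulAction.fixedPoints N Cls := hfix ▸ Set.mem_univ c
    rw [one_smul]
    exact hc ⟨x, hx⟩
  · right
    haveI := MulAction.IsQuasiPreprimitive.isPretransitive_of_normal (N := N) hfix
    have h29 : 29 ∣ Nat.card N := by
      refine dvd_trans (by norm_num : 29 ∣ 4060) ?_
      rw [← Nat.card_fin 4060]
      have eo : MulAction.orbit N (⟨0, by norm_num⟩ : Cls) = Set.univ := MulAction.orbit_eq_univ N (⟨0, by norm_num⟩ : Cls)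
      rw [← Nat.card_congr ((Equiv.setCongr eo).trans (Equiv.Set.univ Cls))]
      rw [Nat.card_congr (MulAction.orbitEquivQuotientStabilizer N (⟨0, by norm_num⟩ : Cls))]
      exact Subgroup.card_quotient_dvd_card _
    have hindex : ¬ 29 ∣ N.index := by
      intro h
      have : 29 * 29 ∣ Nat.card Spor.Ru := N.card_mul_index ▸ Nat.mul_dvd_mul h29 h
      rw [card_Ru] at this
      norm_num at this
    have hgen : ∀ l ∈ levelGens 0, (QuotientGroup.mk (E l) : Spor.Ru) ∈ N := by
      intro l hl
      rw [← QuotientGroup.eq_one_iff]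
      set y : Spor.Ru ⧸ N := QuotientGroup.mk (QuotientGroup.mk (E l))
      have h1 : orderOf y ∣ 29 := orderOf_dvd_of_pow_eq_one (by
        rw [← QuotientGroup.mk_pow, pow29 l hl, QuotientGroup.mk_one])
      have h2 : orderOf y ∣ N.index := orderOf_dvd_natCard y
      rcases (Nat.dvd_prime (by norm_num : Nat.Prime 29)).1 h1 with e | e
      · exact orderOf_eq_one_iff.1 e
      · exact absurd (e ▸ h2) hindex
    rw [eq_top_iff, ← G_zero_map_top, Subgroup.map_le_iff_le_comap, G, Subgroup.closure_le]
    rintro _ ⟨l, hl, rfl⟩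
    exact hgen l hl

end CfsgLib.Rudvalis
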