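import Cfsg.Agent.Rudvalis.Bits
import Cfsg.Agent.Rudvalis.MinData

/-!
The table of the vectors of norm sixteen.
-/

set_option autoImplicit false
set_option maxRecDepth 100000

open Finset

namespace CfsgLib.Rudvalis

open CfsgLib.RuLattice

/-- The number of vectors. -/
abbrev NV : ℕ := 16240

/-- The representative of a class. -/
def repMS (c : ℕ) : ℕ × ℕ :=
  ((maskTable >>> (56 * c)) &&& 0xffffffffffffff, (signTable >>> (56 * c)) &&& 0xffffffffffffff)

/-- Units applied to a code. -/
def unitMS : ℕ → ℕ × ℕ → ℕ × ℕ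
  | 0, a => a
  | u + 1, a => imulMS (unitMS u a)

/-- The code of an index. -/
def msOf (n : ℕ) : ℕ × ℕ := unitMS (n % 4) (repMS (n / 4))

/-- The vector of an index. -/
def vec (n : ℕ) : Z56 := val (msOf n).1 (msOf n).2

/-- An entry of a sixteen-bit table. -/
def get16 (T i : ℕ) : ℕ := (T >>> (16 * i)) &&& 65535

/-- One number for a code. -/
def key (a : ℕ × ℕ) : ℕ := (a.1 <<< 56) ||| a.2

/-- The checks on the table. -/
def tableOK : Bool :=
  (List.range NV).all fun n =>
    let a := msOf n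
    Nat.blt a.1 (2 ^ 56) && (a.2 &&& a.1 == a.2) && (dotMS a a == 16) &&
      Nat.blt (get16 rankTable n) NV && Nat.beq (get16 sortTable (get16 rankTable n)) n &&
      (n + 1 == NV || Nat.blt (key (msOf (get16 sortTable n))) (key (msOf (get16 sortTable (n + 1)))))

theorem tableOK_true : tableOK = true := by decide +kernel

theorem table_spec {n : ℕ} (hn : n < NV) : (msOf n).1 < 2 ^ 56 ∧ (msOf n).2 &&& (msOf n).1 = (msOf n).2 ∧
    dot (vec n) (vec n) = 16 ∧ get16 rankTable n < NV ∧ get16 sortTable (get16 rankTable n) = n ∧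
    (n + 1 < NV → key (msOf (get16 sortTable n)) < key (msOf (get16 sortTable (n + 1)))) := by
  have h := List.all_eq_true.1 tableOK_true n (List.mem_range.2 hn)
  simp only [Bool.and_eq_true, Bool.or_eq_true, beq_iff_eq, Nat.blt, Nat.ble_eq, Nat.beq_eq] at h
  obtain ⟨⟨⟨⟨⟨h1, h2⟩, h3⟩, h4⟩, h5⟩, h6⟩ := h
  refine ⟨h1, h2, (dot_val _ _).trans h3, h4, h5, fun hlt => ?_⟩
  rcases h6 with h6 | h6
  · omega
  · exact h6

theorem val_injective {a b : ℕ × ℕ} (ha : a.1 < 2 ^ 56 ∧ a.2 &&& a.1 = a.2)
    (hb : b.1 < 2 ^ 56 ∧ b.2 &&& b.1 = b.2) (h : val a.1 a.2 = val b.1 b.2) : a = b := by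
  have hm : ∀ m, mulOf m = 4 ∨ mulOf m = 1 := fun m => by
    unfold mulOf; split_ifs <;> simp
  have key : ∀ p, a.1.testBit p = b.1.testBit p ∧ a.2.testBit p = b.2.testBit p := by
    intro p
    rcases Nat.lt_or_ge p 56 with hp | hp
    · have e := congrFun h ⟨p, hp⟩
      simp only [val] at e
      have sa := congrArg (fun x => x.testBit p) ha.2
      have sb := congrArg (fun x => x.testBit p) hb.2
      simp only [Nat.testBit_and] at sa sb
      rcases hm a.1 with x | x <;> rcases hm b.1 with y | y <;> rw [x, y] at e <;>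
        cases h1 : a.1.testBit p <;> cases h2 : b.1.testBit p <;> cases h3 : a.2.testBit p <;>
        cases h4 : b.2.testBit p <;> simp_all
    · have big : ∀ x : ℕ, x < 2 ^ 56 → x.testBit p = false := fun x hx =>
        Nat.testBit_lt_two_pow (hx.trans_le (Nat.pow_le_pow_right (by norm_num) hp))
      have s2 : ∀ x : ℕ × ℕ, x.1 < 2 ^ 56 → x.2 &&& x.1 = x.2 → x.2.testBit p = false :=
        fun x hx hs => by rw [← hs, Nat.testBit_and, big _ hx, Bool.and_false]
      exact ⟨by rw [big _ ha.1, big _ hb.1], by rw [s2 a ha.1 ha.2, s2 b hb.1 hb.2]⟩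
  exact Prod.ext (Nat.eq_of_testBit_eq fun p => (key p).1) (Nat.eq_of_testBit_eq fun p => (key p).2)

theorem vec_injective {n m : ℕ} (hn : n < NV) (hm : m < NV) (h : vec n = vec m) : n = m := by
  obtain ⟨n1, n2, -, n4, n5, -⟩ := table_spec hn
  obtain ⟨m1, m2, -, m4, m5, -⟩ := table_spec hm
  have e : msOf n = msOf m := val_injective ⟨n1, n2⟩ ⟨m1, m2⟩ h
  let f : ℕ → ℕ := fun i => key (msOf (get16 sortTable i))
  have mono : ∀ i j, i < j → j < NV → f i < f j := by
    intro i j hij hj
    induction j with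
    | zero => omega
    | succ j ih =>
      have hs := (table_spec (show j < NV by omega)).2.2.2.2.2 hj
      rcases Nat.lt_or_ge i j with h' | h'
      · exact (ih h' (by omega)).trans hs
      · rw [show i = j by omega]; exact hs
  have he : f (get16 rankTable n) = f (get16 rankTable m) := by
    simp only [f, n5, m5, e]
  rcases lt_trichotomy (get16 rankTable n) (get16 rankTable m) with h' | h' | h'
  · exact absurd he (mono _ _ h' m4).ne
  · rw [← n5, h', m5]
  · exact absurd he.symm (mono _ _ h' n4).ne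

theorem vec_imul (a : ℕ × ℕ) (ha : mulOf (imulMS a).1 = mulOf a.1) :
    val (imulMS a).1 (imulMS a).2 = opT tab_gI (val a.1 a.2) := by
  funext p
  have hp : p.val < 56 := p.2
  obtain ⟨h1, h2⟩ := testBit_imul a hp
  simp only [val, ha, h1, h2]
  fin_cases p <;> simp [opT, tab_gI, val] <;>
    (split_ifs <;> simp_all)

end CfsgLib.Rudvalis
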