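import Cfsg.Agent.Rudvalis.Bits
import Cfsg.Agent.Rudvalis.MinData

/-!
Linear equations for sign patterns, their solution, and an enumeration of code words of small weight.
-/

set_option autoImplicit false
set_option maxRecDepth 100000

open Finset

namespace CfsgLib.Rudvalis

open CfsgLib.RuLattice

/-- A selection of basis words. -/
def selX : List ℕ → ℕ → ℕ
  | [], _ => 0
  | w :: ws, c => (if c % 2 == 1 then w else 0) ^^^ selX ws (c / 2)

theorem selX_xor : ∀ (ws : List ℕ) (a b : ℕ), selX ws (a ^^^ b) = selX ws a ^^^ selX ws b := by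
  intro ws
  induction ws with
  | nil => intro a b; simp [selX]
  | cons w ws ih =>
    intro a b
    rw [selX, selX, selX, Nat.xor_div_two, ih]
    rcases Nat.mod_two_eq_zero_or_one a with x | x <;> rcases Nat.mod_two_eq_zero_or_one b with y | y <;>
      simp [Nat.xor_mod_two_eq, Nat.add_mod, x, y, Nat.xor_assoc, Nat.xor_comm, Nat.xor_left_comm]

theorem selX_zero : ∀ ws : List ℕ, selX ws 0 = 0
  | [] => rfl
  | w :: ws => by simp [selX, selX_zero ws]

theorem fromInfo_selX (ps : List ℕ) (ws : List ℕ) : ∀ (cs : List ℕ) (m : ℕ),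
    fromInfo ps (cs.map (selX ws)) m = selX ws (fromInfo ps cs m) := by
  induction ps with
  | nil => intro cs m; simp [fromInfo, selX_zero]
  | cons p ps ih =>
    intro cs m
    cases cs with
    | nil => simp [fromInfo, selX_zero]
    | cons c cs =>
      simp only [List.map_cons, fromInfo, ih, selX_xor]
      split_ifs <;> simp [selX_zero]

/-- The fixed bits are untouched by the later words. -/
def fixedOK : List (ℕ × ℕ) → Bool
  | [] => true
  | e :: l => (e :: l).all (fun f => f.1 &&& e.2 == 0) && fixedOK l

/-- The words of weight at most sixteen. -/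
def enumLow : List (ℕ × ℕ) → ℕ → List ℕ
  | [], acc => if Nat.ble (pop acc) 16 then [acc] else []
  | e :: l, acc =>
    if Nat.blt 16 (pop (acc &&& e.2)) then [] else enumLow l acc ++ enumLow l (acc ^^^ e.1)

theorem enumLow_sound : ∀ (l : List (ℕ × ℕ)) (acc c : ℕ), fixedOK l = true →
    pop (acc ^^^ selX (l.map Prod.fst) c) ≤ 16 → acc ^^^ selX (l.map Prod.fst) c ∈ enumLow l acc := by
  intro l
  induction l with
  | nil =>
    intro acc c _ h
    simp only [List.map_nil, selX, Nat.xor_zero] at h ⊢
    simp [enumLow, h]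
  | cons e l ih =>
    intro acc c hf h
    simp only [fixedOK, Bool.and_eq_true] at hf
    have hzero : ∀ (l' : List (ℕ × ℕ)) (c : ℕ), (∀ f ∈ l', f.1 &&& e.2 = 0) →
        selX (l'.map Prod.fst) c &&& e.2 = 0 := by
      intro l'
      induction l' with
      | nil => intro c _; simp [selX]
      | cons f l' ih' =>
        intro c hl
        rw [List.map_cons, selX, Nat.and_xor_distrib_right, ih' _ fun g hg => hl g (List.mem_cons_of_mem _ hg)]
        split_ifs <;> simp [hl f List.mem_cons_self]
    have hz : selX ((e :: l).map Prod.fst) c &&& e.2 = 0 :=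
      hzero _ c fun f hfm => beq_iff_eq.1 (List.all_eq_true.1 hf.1 f hfm)
    have hle : pop (acc &&& e.2) ≤ 16 := by
      refine le_trans (pop_mono fun i _ hi => ?_) h
      have hb := congrArg (fun x => x.testBit i) hz
      simp only [Nat.testBit_and, Nat.zero_testBit] at hb hi
      rw [Nat.testBit_xor]
      cases h1 : e.2.testBit i <;> simp_all
    rw [enumLow, if_neg (by simp only [Nat.blt, Nat.ble_eq]; omega), List.mem_append]
    rw [List.map_cons, selX] at h ⊢
    by_cases hc : c % 2 = 1
    · right
      rw [hc] at h ⊢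
      simp only [beq_self_eq_true, if_true, ← Nat.xor_assoc] at h ⊢
      exact ih _ _ hf.2 h
    · left
      rw [show (c % 2 == 1) = false by simpa using hc] at h ⊢
      simp only [Bool.false_eq_true, if_false, Nat.zero_xor] at h ⊢
      exact ih _ _ hf.2 h

/-- Evaluation before substitution. -/
def forceN {α : Type} (n : ℕ) (k : ℕ → α) : α :=
  match n with
  | 0 => k 0
  | m + 1 => k (m + 1)

theorem forceN_eq {α : Type} (n : ℕ) (k : ℕ → α) : forceN n k = k n := by cases n <;> rfl

/-- An equation in a packed system, the right-hand side in the lowest bit. -/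
def slot : ℕ → ℕ → ℕ
  | 0, P => P % 2 ^ 64
  | k + 1, P => slot k (P / 2 ^ 64)

/-- The units of all slots. -/
def repSlots : ℕ → ℕ
  | 0 => 0
  | n + 1 => 1 + 2 ^ 64 * repSlots n

/-- The units of twenty slots. -/
def rep20 : ℕ := 0x10000000000000001000000000000000100000000000000010000000000000001000000000000000100000000000000010000000000000001000000000000000100000000000000010000000000000001000000000000000100000000000000010000000000000001000000000000000100000000000000010000000000000001000000000000000100000000000000010000000000000001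

theorem rep20_eq : rep20 = repSlots 20 := by decide +kernel

theorem slot_eq : ∀ k P, slot k P = (P >>> (64 * k)) % 2 ^ 64 := by
  intro k
  induction k with
  | zero => intro P; simp [slot]
  | succ k ih =>
    intro P
    rw [slot, ih, Nat.shiftRight_eq_div_pow, Nat.shiftRight_eq_div_pow, Nat.div_div_eq_div_mul,
      ← pow_add, Nat.mul_succ, Nat.add_comm]

theorem slot_xor : ∀ k P Q, slot k (P ^^^ Q) = slot k P ^^^ slot k Q := by
  intro k P Q
  simp only [slot_eq, Nat.shiftRight_xor_distrib, Nat.xor_mod_two_pow]

theorem slot_zero_right : ∀ k, slot k 0 = 0 := fun k => by simp [slot_eq]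

theorem slot_select : ∀ (n k x e : ℕ), e < 2 ^ 64 →
    slot k ((x &&& repSlots n) * e) = 0 ∨ slot k ((x &&& repSlots n) * e) = e := by
  intro n
  induction n with
  | zero => intro k x e _; left; simp [repSlots, slot_zero_right]
  | succ n ih =>
    intro k x e he
    have h1 : (x &&& repSlots (n + 1)) % 2 ^ 64 = x % 2 := by
      rw [Nat.and_mod_two_pow, repSlots, Nat.add_mul_mod_self_left,
        show (1 : ℕ) % 2 ^ 64 = 1 by norm_num, Nat.and_one_is_mod,
        Nat.mod_mod_of_dvd _ (by norm_num)]
    have h2 : (x &&& repSlots (n + 1)) / 2 ^ 64 = (x / 2 ^ 64) &&& repSlots n := by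
      rw [Nat.and_div_two_pow, repSlots, Nat.add_mul_div_left _ _ (by norm_num),
        show (1 : ℕ) / 2 ^ 64 = 0 by norm_num, Nat.zero_add]
    set y := x &&& repSlots (n + 1)
    have hy : y * e = x % 2 * e + 2 ^ 64 * (((x / 2 ^ 64) &&& repSlots n) * e) := by
      rw [← h1, ← h2]
      conv_lhs => rw [← Nat.mod_add_div y (2 ^ 64)]
      ring
    have hlt : x % 2 * e < 2 ^ 64 := by
      rcases Nat.mod_two_eq_zero_or_one x with h | h <;> rw [h] <;> omega
    cases k with
    | zero =>
      rw [slot, hy, Nat.add_mul_mod_self_left, Nat.mod_eq_of_lt hlt]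
      rcases Nat.mod_two_eq_zero_or_one x with h | h <;> simp [h]
    | succ k =>
      rw [slot, hy, Nat.add_mul_div_left _ _ (by norm_num), Nat.div_eq_of_lt hlt, Nat.zero_add]
      exact ih k _ e he

/-- The equations, split into those having a variable of a word and the residual ones. -/
def fwd (m : ℕ) : ℕ → ℕ → List ℕ × List ℕ
  | 0, _ => ([], [])
  | n + 1, P =>
    forceN (Nat.mod P 18446744073709551616) fun e =>
    forceN (Nat.shiftRight P 64) fun P' =>
    forceN (Nat.land (Nat.shiftRight e 1) m) fun a =>
      if Nat.beq a 0 then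
        match fwd m n P' with
        | (pv, rs) => (pv, e :: rs)
      else
        forceN (pop (Nat.xor a (a - 1)) - 1) fun p =>
        forceN (Nat.xor P' (Nat.mul (Nat.land (Nat.shiftRight P' (p + 1)) rep20) e)) fun Q =>
          match fwd m n Q with
          | (pv, rs) => (e :: pv, rs)

/-- Sets of given positions. -/
def subsetsOf : List ℕ → List ℕ
  | [] => [0]
  | p :: ps => let r := subsetsOf ps; r ++ r.map fun z => z ||| 2 ^ p

/-- The positions of the bits of a word. -/
def posOf (m : ℕ) : List ℕ := (List.range 56).filter fun p => m.testBit p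

/-- The pivots of the equations. -/
def pivBits (m : ℕ) : List ℕ → ℕ
  | [] => 0
  | e :: l => Nat.lor (pivBits m l)
      (Nat.xor (Nat.land (Nat.shiftRight e 1) m)
        (Nat.land (Nat.land (Nat.shiftRight e 1) m) (Nat.land (Nat.shiftRight e 1) m - 1)))

/-- Back substitution, giving the known positions and the patterns on them. -/
def back (m : ℕ) (F : ℕ) : List ℕ → Option (ℕ × List ℕ)
  | [] => some (F, subsetsOf (posOf F))
  | e :: l =>
    match back m F l with
    | none => none
    | some (K, Y) =>
      forceN (Nat.land (Nat.shiftRight e 1) m) fun a =>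
      forceN (pop (Nat.xor a (a - 1)) - 1) fun p =>
        if Nat.blt p 56 && a.testBit p && !K.testBit p &&
            Nat.beq (Nat.land (Nat.xor a (2 ^ p)) K) (Nat.xor a (2 ^ p)) then
          some (Nat.lor K (2 ^ p),
            Y.map fun y => if par (Nat.land a y) == (e % 2 == 1) then y else Nat.lor y (2 ^ p))
        else none

/-- The solutions with support in a word. -/
def solve (m P : ℕ) : Option (List ℕ) :=
  match fwd m 20 P with
  | (pv, rs) =>
    if rs.any (fun e => e % 2 == 1) then some []
    else
      forceN (Nat.xor m (pivBits m pv)) fun F =>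
        match back m F pv with
        | none => none
        | some (K, Y) => if Nat.beq K m then some Y else none

/-- A pattern satisfies one equation. -/
def Ok (z s : ℕ) : Prop := par ((s >>> 1) &&& z) = (s % 2 == 1)

/-- A pattern satisfies the equations. -/
def Sat (z P : ℕ) : Prop := ∀ k, Ok z (slot k P)

theorem ok_zero (z : ℕ) : Ok z 0 := by simp [Ok, par, pop, pop8, popTable]

theorem Ok.xor {z s t : ℕ} (hs : Ok z s) (ht : Ok z t) : Ok z (s ^^^ t) := by
  unfold Ok at *
  rw [Nat.shiftRight_xor_distrib, Nat.and_xor_distrib_right, par_xor, hs, ht, Nat.xor_mod_two_eq,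
    Nat.add_mod]
  rcases Nat.mod_two_eq_zero_or_one s with a | a <;> rcases Nat.mod_two_eq_zero_or_one t with b | b <;>
    simp [a, b]

theorem ok_select {z : ℕ} {e : ℕ} (he : Ok z e) (hlt : e < 2 ^ 64) (k x : ℕ) :
    Ok z (slot k ((x &&& rep20) * e)) := by
  rw [rep20_eq]
  rcases slot_select 20 k x e hlt with h | h <;> rw [h]
  exacts [ok_zero z, he]

theorem fwd_sound (m : ℕ) : ∀ (n P z : ℕ), Sat z P →
    ∀ e ∈ (fwd m n P).1 ++ (fwd m n P).2, Ok z e := by
  intro n
  induction n with
  | zero => intro P z _ e he; simp [fwd] at he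
  | succ n ih =>
    intro P z h e he
    rw [fwd, forceN_eq, forceN_eq, forceN_eq] at he
    have h0 : Ok z (Nat.mod P 18446744073709551616) := h 0
    have hlt : Nat.mod P 18446744073709551616 < 2 ^ 64 := Nat.mod_lt _ (by norm_num)
    have hs : Sat z (Nat.shiftRight P 64) := fun k => by
      show Ok z (slot k (P >>> 64))
      rw [Nat.shiftRight_eq_div_pow]
      exact h (k + 1)
    split_ifs at he with hb
    · rcases hx : fwd m n (Nat.shiftRight P 64) with ⟨pv, rs⟩
      rw [hx] at he
      have := ih _ z hs
      rw [hx] at this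
      simp only [List.mem_append, List.mem_cons] at he this
      rcases he with he | rfl | he
      exacts [this e (Or.inl he), h0, this e (Or.inr he)]
    · rw [forceN_eq, forceN_eq] at he
      set Q := Nat.xor (Nat.shiftRight P 64) _ with hQ
      have hsQ : Sat z Q := fun k => by
        rw [hQ]
        show Ok z (slot k (_ ^^^ (_ &&& rep20) * _))
        rw [slot_xor]
        exact (hs k).xor (ok_select h0 hlt k _)
      rcases hx : fwd m n Q with ⟨pv, rs⟩
      rw [hx] at he
      have := ih _ z hsQ
      rw [hx] at this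
      simp only [List.mem_append, List.mem_cons] at he this
      rcases he with (rfl | he) | he
      exacts [h0, this e (Or.inl he), this e (Or.inr he)]

theorem par_two_pow : ∀ p < 56, par (2 ^ p) = true := by decide +kernel

theorem and_two_pow (a p : ℕ) : a &&& 2 ^ p = if a.testBit p then 2 ^ p else 0 :=
  Nat.eq_of_testBit_eq fun i => by
    rw [Nat.testBit_and, Nat.testBit_two_pow]
    by_cases hi : p = i
    · subst hi; cases a.testBit p <;> simp
    · cases a.testBit p <;> simp [hi]

theorem subsetsOf_sound : ∀ (ps : List ℕ) (z : ℕ), ps.Nodup → (∀ i, z.testBit i = true → i ∈ ps) →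
    z ∈ subsetsOf ps := by
  intro ps
  induction ps with
  | nil =>
    intro z _ hz
    obtain rfl : z = 0 := Nat.eq_of_testBit_eq fun i => by
      cases hb : z.testBit i
      · rw [Nat.zero_testBit]
      · exact absurd (hz i hb) List.not_mem_nil
    exact List.mem_singleton_self 0
  | cons p ps ih =>
    intro z hnd hz
    rw [List.nodup_cons] at hnd
    rw [subsetsOf, List.mem_append]
    cases hb : z.testBit p
    · refine Or.inl (ih z hnd.2 fun i hi => (List.mem_cons.1 (hz i hi)).resolve_left ?_)
      rintro rfl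
      rw [hb] at hi
      exact Bool.false_ne_true hi
    · refine Or.inr (List.mem_map.2 ⟨z ^^^ 2 ^ p, ih _ hnd.2 fun i hi => ?_, ?_⟩)
      · rw [Nat.testBit_xor, Nat.testBit_two_pow] at hi
        rcases eq_or_ne p i with rfl | hne
        · simp [hb] at hi
        · simp [hne] at hi
          exact (List.mem_cons.1 (hz i hi)).resolve_left (Ne.symm hne)
      · refine Nat.eq_of_testBit_eq fun i => ?_
        rw [Nat.testBit_or, Nat.testBit_xor, Nat.testBit_two_pow]
        rcases eq_or_ne p i with rfl | hne
        · simp [hb]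
        · simp [hne]

theorem back_sound (m F z : ℕ) (hz : z &&& m = z) (hz56 : z < 2 ^ 56) : ∀ (l : List ℕ),
    (∀ e ∈ l, Ok z e) → ∀ K Y, back m F l = some (K, Y) → z &&& K ∈ Y := by
  intro l
  induction l with
  | nil =>
    intro _ K Y h
    simp only [back, Option.some.injEq, Prod.mk.injEq] at h
    obtain ⟨rfl, rfl⟩ := h
    refine subsetsOf_sound _ _ (List.Nodup.filter _ List.nodup_range) fun i hi => ?_
    rw [Nat.testBit_and, Bool.and_eq_true] at hi
    refine List.mem_filter.2 ⟨List.mem_range.2 ?_, hi.2⟩
    by_contra hc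
    rw [Nat.testBit_lt_two_pow (hz56.trans_le (Nat.pow_le_pow_right (by norm_num) (not_lt.1 hc)))] at hi
    exact Bool.false_ne_true hi.1
  | cons e l ih =>
    intro hl K Y h
    rw [back] at h
    rcases hb : back m F l with _ | ⟨K', Y'⟩
    · rw [hb] at h; simp at h
    · rw [hb] at h
      simp only [forceN_eq] at h
      split_ifs at h with hc
      simp only [Option.some.injEq, Prod.mk.injEq] at h
      obtain ⟨rfl, rfl⟩ := h
      set a := Nat.land (Nat.shiftRight e 1) m
      set p := pop (Nat.xor a (a - 1)) - 1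
      simp only [Bool.and_eq_true, Nat.blt, Nat.ble_eq, Bool.not_eq_true'] at hc
      obtain ⟨⟨⟨hp, hap⟩, hKp⟩, hsub⟩ := hc
      have hsub' : (a ^^^ 2 ^ p) &&& K' = a ^^^ 2 ^ p := Nat.eq_of_beq_eq_true hsub
      have hy := ih (fun f hf => hl f (List.mem_cons_of_mem _ hf)) K' Y' hb
      have hok : par ((e >>> 1) &&& z) = (e % 2 == 1) := hl e List.mem_cons_self
      have hza : (e >>> 1) &&& z = a &&& z := by
        show _ = ((e >>> 1) &&& m) &&& z
        rw [Nat.and_assoc, Nat.and_comm m z, hz]
      have hpar : par (a &&& z) = (par (a &&& (z &&& K')) ^^ z.testBit p) := by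
        rw [show z.testBit p = par (z &&& 2 ^ p) by
          rw [and_two_pow]
          cases z.testBit p
          · rw [if_neg Bool.false_ne_true, show par 0 = false by decide +kernel]
          · simp [par_two_pow p hp], ← par_xor]
        congr 1
        refine Nat.eq_of_testBit_eq fun i => ?_
        have h1 := congrArg (fun x => x.testBit i) hsub'
        simp only [Nat.testBit_and, Nat.testBit_xor, Nat.testBit_two_pow] at h1 ⊢
        rcases eq_or_ne p i with rfl | hne
        · simp [hap, hKp]
        · simp only [hne, decide_false, Bool.xor_false, Bool.and_false] at h1 ⊢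
          revert h1
          cases a.testBit i <;> cases z.testBit i <;> cases K'.testBit i <;> simp
      rw [hza] at hok
      rw [hok] at hpar
      refine List.mem_map.2 ⟨z &&& K', hy, ?_⟩
      show (if (par (a &&& (z &&& K')) == (e % 2 == 1)) = true then z &&& K'
        else (z &&& K') ||| 2 ^ p) = z &&& (K' ||| 2 ^ p)
      rw [Nat.and_or_distrib_left, and_two_pow]
      cases hb : z.testBit p <;> rw [hb] at hpar <;> simp [hpar]

theorem solve_sound {m P z : ℕ} (hz : z &&& m = z) (hz56 : z < 2 ^ 56) (h : Sat z P) {L : List ℕ}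
    (hL : solve m P = some L) : z ∈ L := by
  rw [solve] at hL
  rcases hx : fwd m 20 P with ⟨pv, rs⟩
  rw [hx] at hL
  have hfw := fwd_sound m 20 P z h
  rw [hx] at hfw
  simp only at hL
  have hres : ∀ (n P : ℕ), ∀ e ∈ (fwd m n P).2, (e >>> 1) &&& m = 0 := by
    intro n
    induction n with
    | zero => intro P e he; simp [fwd] at he
    | succ n ih =>
      intro P e he
      rw [fwd, forceN_eq, forceN_eq, forceN_eq] at he
      split_ifs at he with hb
      · rcases hy : fwd m n (Nat.shiftRight P 64) with ⟨pv', rs'⟩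
        rw [hy] at he
        rcases List.mem_cons.1 he with rfl | he
        · exact Nat.eq_of_beq_eq_true hb
        · exact ih _ e (by rw [hy]; exact he)
      · rw [forceN_eq, forceN_eq] at he
        rcases hy : fwd m n (Nat.xor (Nat.shiftRight P 64) _) with ⟨pv', rs'⟩
        rw [hy] at he
        exact ih _ e (by rw [hy]; exact he)
  split_ifs at hL with hodd
  · exfalso
    obtain ⟨e, he, he1⟩ := List.any_eq_true.1 hodd
    have hok : par ((e >>> 1) &&& z) = (e % 2 == 1) := hfw e (List.mem_append_right _ he)
    rw [← hz, Nat.and_comm z m, ← Nat.and_assoc, hres 20 P e (by rw [hx]; exact he), Nat.zero_and,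
      he1] at hok
    exact absurd hok (by decide +kernel)
  · rw [forceN_eq] at hL
    rcases hb : back m (Nat.xor m (pivBits m pv)) pv with _ | ⟨K, Y⟩
    · rw [hb] at hL; simp at hL
    · rw [hb] at hL
      simp only at hL
      split_ifs at hL with hK
      obtain rfl := Option.some.inj hL
      obtain rfl := Nat.eq_of_beq_eq_true hK
      have := back_sound _ _ z hz hz56 pv (fun e he => hfw e (List.mem_append_left _ he)) _ _ hb
      rwa [hz] at this

/-- The sum modulo four of a row over a support, halved. -/
def rhs (m : ℕ) (r : ℕ × ℕ) : Bool := (pop (m &&& r.1) + 2 * pop (m &&& r.2)) % 4 / 2 == 1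

/-- The rows whose equations are used. -/
def usedRows : List ℕ := [0, 1, 2, 3, 4, 5, 6, 7, 8, 9, 10, 11, 12, 13, 14, 15, 18, 23, 25]

/-- The packed equations of some rows. -/
def packEqs (m : ℕ) : List ℕ → ℕ
  | [] => 0
  | k :: l =>
    forceN (packEqs m l) fun a =>
      a <<< 64 ||| ((eqRows.getD k (0, 0)).1 <<< 1 ||| if rhs m (eqRows.getD k (0, 0)) then 1 else 0)

/-- The equations of a support. -/
def eqsOf (m : ℕ) : ℕ := packEqs m usedRows

/-- The residue bits are those of the rows. -/
def rowBitsOK : Bool :=
  eqRows.length == 40 && (List.range 40).all fun k => (List.range 56).all fun p =>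
    ((rows.getD k []).getD p 0 % 4 ==
      ((if (eqRows.getD k (0, 0)).1.testBit p then 1 else 0) +
        2 * (if (eqRows.getD k (0, 0)).2.testBit p then 1 else 0) : ℤ))

theorem rowBitsOK_true : rowBitsOK = true := by decide +kernel

/-- The sign pattern of a vector. -/
def patt (v : Z56) : ℕ := Nat.ofBits fun i : Fin 56 => decide (2 ≤ v i % 4)

theorem testBit_patt (v : Z56) (i : Fin 56) : (patt v).testBit i.val = decide (2 ≤ v i % 4) :=
  Nat.testBit_ofBits_lt _ _ i.2

theorem bits_lt {k : ℕ} (hk : k < 40) : (eqRows.getD k (0, 0)).1 < 2 ^ 56 := by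
  have : ∀ k < 40, (eqRows.getD k (0, 0)).1 < 2 ^ 56 := by decide +kernel
  exact this k hk

theorem usedRows_lt : ∀ k ∈ usedRows, k < 40 := by decide +kernel

theorem sat_pack {m z : ℕ} (h : ∀ k, k < 40 →
    par ((eqRows.getD k (0, 0)).1 &&& z) = rhs m (eqRows.getD k (0, 0))) : Sat z (eqsOf m) := by
  suffices H : ∀ l : List ℕ, (∀ k ∈ l, k < 40) → Sat z (packEqs m l) from H usedRows usedRows_lt
  intro l
  induction l with
  | nil => intro _ k; rw [packEqs, slot_zero_right]; exact ok_zero z
  | cons k l ih =>
    intro hl j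
    have hk := hl k List.mem_cons_self
    rw [packEqs, forceN_eq]
    set b := eqRows.getD k (0, 0)
    set x := b.1 <<< 1 ||| (if rhs m b then 1 else 0) with hx
    have hlt : x < 2 ^ 64 := by
      refine Nat.or_lt_two_pow ?_ (by split_ifs <;> norm_num)
      have : b.1 < 2 ^ 56 := bits_lt hk
      rw [Nat.shiftLeft_eq]
      omega
    have e0 : packEqs m l <<< 64 ||| x = packEqs m l * 2 ^ 64 + x := by
      rw [← Nat.shiftLeft_add_eq_or_of_lt hlt, Nat.shiftLeft_eq]
    rw [e0]
    cases j with
    | zero =>
      rw [slot, Nat.mul_add_mod_self_right, Nat.mod_eq_of_lt hlt]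
      have h1 : x >>> 1 = b.1 := by
        rw [hx, Nat.shiftRight_or_distrib, ← Nat.shiftLeft_shiftRight b.1 1]
        split_ifs <;> simp
      have h2 : (x % 2 == 1) = rhs m b := by
        rw [hx]
        cases rhs m b <;> simp [Nat.shiftLeft_eq, Nat.or_mod_two_eq_one]
      show par ((x >>> 1) &&& z) = (x % 2 == 1)
      rw [h1, h2]; exact h k hk
    | succ j =>
      rw [slot, Nat.mul_comm, Nat.mul_add_div (by norm_num), Nat.div_eq_of_lt hlt, Nat.add_zero]
      exact ih (fun q hq => hl q (List.mem_cons_of_mem _ hq)) j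

/-- The equation of one row. -/
theorem row_eq {v : Z56} (hv : v ∈ span4) : ∀ k, k < 40 →
    par ((eqRows.getD k (0, 0)).1 &&& patt v) = rhs (mask v) (eqRows.getD k (0, 0)) := by
  intro k hk
  have hok := rowBitsOK_true
  simp only [rowBitsOK, Bool.and_eq_true, List.all_eq_true, List.mem_range, beq_iff_eq] at hok
  have hk40 : k < 40 := hk
  set b := eqRows.getD k (0, 0) with hbdef
  have hd := (span_norm hv).2 ⟨k, hk40⟩
  have key : ∀ p : Fin 56, (4 : ℤ) ∣ v p * row ⟨k, hk40⟩ p -
      (((if (mask v &&& b.1).testBit p.val then (1 : ℤ) else 0) +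
        2 * (if (mask v &&& b.2).testBit p.val then (1 : ℤ) else 0)) +
        2 * (if (b.1 &&& patt v).testBit p.val then (1 : ℤ) else 0)) := by
    intro p
    have hb := hok.2 k hk40 p.val p.2
    rw [← hbdef] at hb
    have hrow : row ⟨k, hk40⟩ p = (rows.getD k []).getD p.val 0 := rfl
    rw [hrow]
    generalize (rows.getD k []).getD p.val 0 = x at hb ⊢
    rw [Nat.testBit_and, Nat.testBit_and, Nat.testBit_and, testBit_patt, testBit_mask, dif_pos p.2,
      Fin.eta, Int.dvd_iff_emod_eq_zero, Int.sub_emod, Int.mul_emod, hb]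
    have hv4 : v p % 4 = 0 ∨ v p % 4 = 1 ∨ v p % 4 = 2 ∨ v p % 4 = 3 := by omega
    have hv2 : v p % 2 = v p % 4 % 2 := by omega
    rw [hv2]
    rcases hv4 with a | a | a | a <;> cases b.1.testBit p.val <;> cases b.2.testBit p.val <;>
      simp [a] <;> rfl
  have hsum : (4 : ℤ) ∣ dot v (row ⟨k, hk40⟩) - (((pop (mask v &&& b.1) : ℤ) +
      2 * (pop (mask v &&& b.2) : ℤ)) + 2 * (pop (b.1 &&& patt v) : ℤ)) := by
    simp only [pop_sum, mul_sum, ← sum_add_distrib, dot, ← sum_sub_distrib]
    exact dvd_sum fun p _ => key p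
  have h4 := (Int.dvd_sub hd hsum)
  rw [sub_sub_cancel] at h4
  show par (b.1 &&& patt v) = rhs (mask v) b
  simp only [rhs, par]
  rw [Bool.eq_iff_iff, beq_iff_eq, beq_iff_eq]
  omega

theorem sat_patt {v : Z56} (hv : v ∈ span4) : Sat (patt v) (eqsOf (mask v)) := sat_pack (row_eq hv)

end CfsgLib.Rudvalis
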