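import Cfsg.Agent.Rudvalis.Codes
import Cfsg.Agent.Rudvalis.MinCases

/-!
The table holds all vectors of norm sixteen of the span.
-/

set_option autoImplicit false
set_option maxRecDepth 100000

open Finset

namespace CfsgLib.Rudvalis

open CfsgLib.RuLattice

/-- A set of at most two positions. -/
def twoSets : List ℕ :=
  0 :: (List.range 56).flatMap fun p => (List.range (p + 1)).map fun q => 2 ^ p ||| 2 ^ q

/-- Some residual equation fails on a pattern outside a word. -/
def eightTest (m : ℕ) (rs : List ℕ) (t : ℕ) : Bool :=
  t &&& m != 0 || rs.any fun s => (s >>> 1) &&& m == 0 && par ((s >>> 1) &&& t) != (s % 2 == 1)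

/-- The test of one word. -/
def wordTest (e : ℕ × List ℕ) : Bool :=
  if Nat.beq (pop e.1) 16 then
    Nat.blt e.1 (2 ^ 56) && (e.1 &&& (e.1 - 1) != 0) &&
      e.2.all (fun n => Nat.blt n NV) &&
      (some (e.2.map msOf) == (solve e.1 (eqsOf e.1)).map fun r => r.map fun z => (e.1, z))
  else if Nat.beq (pop e.1) 8 then
    match fwd e.1 20 (eqsOf e.1) with
    | (_, rs) => twoSets.all fun t => eightTest e.1 rs t
  else Nat.beq e.1 0

set_option maxHeartbeats 0 in
theorem enum_eq : enumLow lowBasis 0 = wordData.map Prod.fst ∧ fixedOK lowBasis = true ∧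
    lowCoef.map (selX (lowBasis.map Prod.fst)) = words1 := by decide +kernel

set_option maxHeartbeats 0 in
theorem words_ok0 : wordData0.all wordTest = true := by decide +kernel

set_option maxHeartbeats 0 in
theorem words_ok1 : wordData1.all wordTest = true := by decide +kernel

set_option maxHeartbeats 0 in
theorem words_ok2 : wordData2.all wordTest = true := by decide +kernel

set_option maxHeartbeats 0 in
theorem words_ok3 : wordData3.all wordTest = true := by decide +kernel

set_option maxHeartbeats 0 in
theorem words_ok4 : wordData4.all wordTest = true := by decide +kernel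

set_option maxHeartbeats 0 in
theorem words_ok5 : wordData5.all wordTest = true := by decide +kernel

set_option maxHeartbeats 0 in
theorem words_ok6 : wordData6.all wordTest = true := by decide +kernel

set_option maxHeartbeats 0 in
theorem words_ok7 : wordData7.all wordTest = true := by decide +kernel

set_option maxHeartbeats 0 in
theorem words_ok8 : wordData8.all wordTest = true := by decide +kernel

set_option maxHeartbeats 0 in
theorem words_ok9 : wordData9.all wordTest = true := by decide +kernel

set_option maxHeartbeats 0 in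
theorem words_ok10 : wordData10.all wordTest = true := by decide +kernel

set_option maxHeartbeats 0 in
theorem words_ok11 : wordData11.all wordTest = true := by decide +kernel

set_option maxHeartbeats 0 in
theorem words_ok12 : wordData12.all wordTest = true := by decide +kernel

set_option maxHeartbeats 0 in
theorem words_ok13 : wordData13.all wordTest = true := by decide +kernel

set_option maxHeartbeats 0 in
theorem words_ok14 : wordData14.all wordTest = true := by decide +kernel

set_option maxHeartbeats 0 in
theorem words_ok15 : wordData15.all wordTest = true := by decide +kernel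

set_option maxHeartbeats 0 in
theorem words_ok16 : wordData16.all wordTest = true := by decide +kernel

set_option maxHeartbeats 0 in
theorem words_ok17 : wordData17.all wordTest = true := by decide +kernel

set_option maxHeartbeats 0 in
theorem words_ok18 : wordData18.all wordTest = true := by decide +kernel

set_option maxHeartbeats 0 in
theorem words_ok19 : wordData19.all wordTest = true := by decide +kernel

set_option maxHeartbeats 0 in
theorem words_ok20 : wordData20.all wordTest = true := by decide +kernel

set_option maxHeartbeats 0 in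
theorem words_ok21 : wordData21.all wordTest = true := by decide +kernel

set_option maxHeartbeats 0 in
theorem words_ok22 : wordData22.all wordTest = true := by decide +kernel

set_option maxHeartbeats 0 in
theorem words_ok23 : wordData23.all wordTest = true := by decide +kernel

set_option maxHeartbeats 0 in
theorem words_ok24 : wordData24.all wordTest = true := by decide +kernel

set_option maxHeartbeats 0 in
theorem words_ok25 : wordData25.all wordTest = true := by decide +kernel

set_option maxHeartbeats 0 in
theorem words_ok26 : wordData26.all wordTest = true := by decide +kernel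

set_option maxHeartbeats 0 in
theorem words_ok27 : wordData27.all wordTest = true := by decide +kernel

set_option maxHeartbeats 0 in
theorem words_ok28 : wordData28.all wordTest = true := by decide +kernel

set_option maxHeartbeats 0 in
theorem words_ok29 : wordData29.all wordTest = true := by decide +kernel

set_option maxHeartbeats 0 in
theorem words_ok30 : wordData30.all wordTest = true := by decide +kernel

set_option maxHeartbeats 0 in
theorem words_ok31 : wordData31.all wordTest = true := by decide +kernel

set_option maxHeartbeats 0 in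
theorem words_ok32 : wordData32.all wordTest = true := by decide +kernel

set_option maxHeartbeats 0 in
theorem words_ok33 : wordData33.all wordTest = true := by decide +kernel

set_option maxHeartbeats 0 in
theorem words_ok34 : wordData34.all wordTest = true := by decide +kernel

set_option maxHeartbeats 0 in
theorem words_ok35 : wordData35.all wordTest = true := by decide +kernel

set_option maxHeartbeats 0 in
theorem words_ok36 : wordData36.all wordTest = true := by decide +kernel

set_option maxHeartbeats 0 in
theorem words_ok37 : wordData37.all wordTest = true := by decide +kernel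

theorem all_app {α : Type} {P : α → Bool} {l l' : List α} (h : l.all P = true) (h' : l'.all P = true) :
    (l ++ l').all P = true := by rw [List.all_append, h, h']; rfl

theorem words_ok : wordData.all wordTest = true :=
  (all_app (all_app (all_app (all_app (all_app (all_app (all_app (all_app (all_app (all_app (all_app (all_app (all_app (all_app (all_app (all_app (all_app (all_app (all_app (all_app (all_app (all_app (all_app (all_app (all_app (all_app (all_app (all_app (all_app (all_app (all_app (all_app (all_app (all_app (all_app (all_app (all_app words_ok0 words_ok1) words_ok2) words_ok3) words_ok4) words_ok5) words_ok6) words_ok7) words_ok8) words_ok9) words_ok10) words_ok11) words_ok12) words_ok13) words_ok14) words_ok15) words_ok16) words_ok17) words_ok18) words_ok19) words_ok20) words_ok21) words_ok22) words_ok23) words_ok24) words_ok25) words_ok26) words_ok27) words_ok28) words_ok29) words_ok30) words_ok31) words_ok32) words_ok33) words_ok34) words_ok35) words_ok36) words_ok37)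

/-- The coordinate vectors in the table. -/
def unitsOK : Bool :=
  (List.range 56).all fun p =>
    Nat.blt (unitData.getD p (0, 0)).1 NV && Nat.blt (unitData.getD p (0, 0)).2 NV &&
      (msOf (unitData.getD p (0, 0)).1 == (2 ^ p, 0)) && (msOf (unitData.getD p (0, 0)).2 == (2 ^ p, 2 ^ p))

theorem unitsOK_true : unitsOK = true := by decide +kernel

/-- The parities of two positions in the rows. -/
def pairCode (e : ℕ × ℕ) : ℕ :=
  eqRows.foldr (fun r a => 2 * a + (if r.1.testBit e.1 ^^ r.1.testBit e.2 then 1 else 0)) (0 : ℕ)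

/-- The pairs as one number. -/
def pairSet : ℕ := pairData.foldr (fun e a => a ||| 2 ^ (56 * e.1 + e.2)) 0

/-- The pairs have different parities. -/
def pairsOK : Bool :=
  pairData.all (fun e => Nat.blt e.1 56 && Nat.blt e.2 56) &&
  ((List.range (pairData.length - 1)).all fun i =>
    Nat.blt (pairCode (pairData.getD i (0, 0))) (pairCode (pairData.getD (i + 1) (0, 0)))) &&
  (List.range 56).all fun q => (List.range q).all fun p => pairSet.testBit (56 * p + q)

theorem pairsOK_true : pairsOK = true := by decide +kernel

theorem pairCode_injective {p q p' q' : ℕ} (h : p < q) (hq : q < 56) (h' : p' < q') (hq' : q' < 56)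
    (e : pairCode (p, q) = pairCode (p', q')) : p = p' ∧ q = q' := by
  have hok := pairsOK_true
  simp only [pairsOK, Bool.and_eq_true, List.all_eq_true, List.mem_range, Nat.blt, Nat.ble_eq] at hok
  obtain ⟨⟨hlt, hmono⟩, hset⟩ := hok
  have mem : ∀ {p q : ℕ}, p < q → q < 56 → (p, q) ∈ pairData := by
    intro p q h hq
    have hb := hset q hq p h
    have key : ∀ (l : List (ℕ × ℕ)), (∀ f ∈ l, f.1 < 56 ∧ f.2 < 56) →
        (l.foldr (fun (e : ℕ × ℕ) (a : ℕ) => a ||| 2 ^ (56 * e.1 + e.2)) 0).testBit (56 * p + q) = true → (p, q) ∈ l := by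
      intro l
      induction l with
      | nil => intro _ h; simp at h
      | cons f l ih =>
        intro hl h'
        simp only [List.foldr_cons, Nat.testBit_or, Bool.or_eq_true, Nat.testBit_two_pow,
          decide_eq_true_eq] at h'
        rcases h' with h' | h'
        · exact List.mem_cons_of_mem _ (ih (fun g hg => hl g (List.mem_cons_of_mem _ hg)) h')
        · have := hl f List.mem_cons_self
          rw [show f = (p, q) from Prod.ext (by omega) (by omega)]
          exact List.mem_cons_self
    exact key pairData hlt hb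
  obtain ⟨i, hi, ei⟩ := List.mem_iff_getElem.1 (mem h hq)
  obtain ⟨j, hj, ej⟩ := List.mem_iff_getElem.1 (mem h' hq')
  let f : ℕ → ℕ := fun i => pairCode (pairData.getD i (0, 0))
  have mono : ∀ i j, i < j → j < pairData.length → f i < f j := by
    intro i j hij hj
    induction j with
    | zero => omega
    | succ j ih =>
      have hs : f j < f (j + 1) := hmono j (by omega)
      rcases Nat.lt_or_ge i j with h' | h'
      · exact (ih h' (by omega)).trans hs
      · rw [show i = j by omega]; exact hs
  have ef : f i = f j := by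
    simp only [f, List.getD_eq_getElem _ _ hi, List.getD_eq_getElem _ _ hj, ei, ej, e]
  have hij : i = j := by
    rcases lt_trichotomy i j with h1 | h1 | h1
    · exact absurd ef (mono _ _ h1 hj).ne
    · exact h1
    · exact absurd ef.symm (mono _ _ h1 hi).ne
  subst hij
  rw [ei] at ej
  simpa using ej

theorem word_mem {v : Z56} (hv : v ∈ span4) (hp : pop (mask v) ≤ 16) :
    ∃ e ∈ wordData, e.1 = mask v := by
  obtain ⟨h1, h2, h3⟩ := enum_eq
  have hm : fromInfo info1 words1 (mask v) = mask v :=
    mask_fromInfo (fun k => (rows_info k).1) hv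
  rw [← h3, fromInfo_selX] at hm
  have := enumLow_sound lowBasis 0 (fromInfo info1 lowCoef (mask v)) h2 (by rwa [Nat.zero_xor, hm])
  rw [Nat.zero_xor, hm, h1] at this
  exact List.mem_map.1 this

theorem two_or_zero {t : ℕ} (ht : t < 2 ^ 56) (h : pop t ≤ 2) : t ∈ twoSets := by
  rw [twoSets, List.mem_cons, List.mem_flatMap]
  by_cases h0 : t = 0
  · exact Or.inl h0
  right
  set T := (range 56).filter fun i => t.testBit i
  have hT : T.card ≤ 2 := by rwa [pop_eq, popTo_eq] at h
  have hne : T.Nonempty := by
    obtain ⟨i, hi⟩ := Nat.exists_testBit_of_ne_zero h0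
    have : i < 56 := by
      by_contra hc
      rw [Nat.testBit_lt_two_pow (ht.trans_le (Nat.pow_le_pow_right (by norm_num) (by omega)))] at hi
      exact Bool.false_ne_true hi
    exact ⟨i, mem_filter.2 ⟨mem_range.2 this, hi⟩⟩
  have hmem : ∀ i, t.testBit i = true ↔ i ∈ T := fun i => by
    refine ⟨fun hi => mem_filter.2 ⟨mem_range.2 ?_, hi⟩, fun hi => (mem_filter.1 hi).2⟩
    by_contra hc
    rw [Nat.testBit_lt_two_pow (ht.trans_le (Nat.pow_le_pow_right (by norm_num) (by omega)))] at hi
    exact Bool.false_ne_true hi
  refine ⟨T.max' hne, List.mem_range.2 (mem_range.1 (mem_filter.1 (T.max'_mem hne)).1), ?_⟩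
  refine List.mem_map.2 ⟨T.min' hne, List.mem_range.2 (Nat.lt_succ_of_le (T.min'_le _ (T.max'_mem hne))),
    Nat.eq_of_testBit_eq fun i => ?_⟩
  rw [Nat.testBit_or, Nat.testBit_two_pow, Nat.testBit_two_pow, Bool.eq_iff_iff, Bool.or_eq_true,
    decide_eq_true_eq, decide_eq_true_eq, hmem]
  refine ⟨?_, fun hi => ?_⟩
  · rintro (rfl | rfl)
    exacts [T.max'_mem hne, T.min'_mem hne]
  · by_contra hc
    push Not at hc
    have h3 : ({T.max' hne, T.min' hne, i} : Finset ℕ) ⊆ T := by
      intro x hx
      simp only [mem_insert, mem_singleton] at hx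
      rcases hx with rfl | rfl | rfl
      exacts [T.max'_mem hne, T.min'_mem hne, hi]
    by_cases heq : T.max' hne = T.min' hne
    · exact hc.1 (le_antisymm (heq ▸ T.min'_le _ hi) (T.le_max' _ hi))
    · have := card_le_card h3
      rw [card_eq_three.2 ⟨_, _, _, heq, hc.1, hc.2, rfl⟩] at this
      omega

theorem sq_ge {x : ℤ} (h : x ≠ 0) : 1 ≤ x * x := by nlinarith [Int.one_le_abs h, sq_abs x]

theorem pop_mask_le (v : Z56) : (pop (mask v) : ℤ) ≤ dot v v := by
  rw [pop_sum, dot]
  refine sum_le_sum fun i _ => ?_
  rw [testBit_mask, dif_pos i.2]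
  by_cases e : v i % 2 = 1
  · simp only [e, decide_true, if_true]
    exact sq_ge (by omega)
  · simp only [e, decide_false, Bool.false_eq_true, if_false]
    exact mul_self_nonneg _

theorem sixteen_cases {v : Z56} (h : pop (mask v) = 16) (h16 : dot v v = 16)
    (hm : (mask v) &&& (mask v - 1) ≠ 0) : v = val (mask v) (patt v) ∧
      ∀ i, (patt v).testBit i = true → i ∈ posOf (mask v) := by
  have hz : ∑ i, (v i * v i - if (mask v).testBit i.val then 1 else 0) = 0 := by
    rw [sum_sub_distrib, ← pop_sum, h]
    rw [dot] at h16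
    omega
  have hnn : ∀ i ∈ (univ : Finset (Fin 56)),
      0 ≤ v i * v i - if (mask v).testBit i.val then 1 else 0 := fun i _ => by
    split_ifs with hb
    · rw [testBit_mask, dif_pos i.2] at hb
      have := of_decide_eq_true hb
      have := sq_ge (x := v i) (by simp only [Fin.eta] at this; omega)
      omega
    · simp [mul_self_nonneg]
  have key := (sum_eq_zero_iff_of_nonneg hnn).1 hz
  refine ⟨funext fun i => ?_, fun i hi => ?_⟩
  · have := key i (mem_univ i)
    rw [val, mulOf, if_neg (show ¬ ((mask v &&& (mask v - 1) == 0) = true) by simpa using hm), testBit_patt]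
    by_cases hb : (mask v).testBit i.val
    · rw [if_pos hb] at this ⊢
      have : v i = 1 ∨ v i = -1 := sq_eq_one_iff.1 (by rw [sq]; omega)
      rcases this with e | e <;> simp [e]
    · rw [if_neg hb] at this ⊢
      exact mul_self_eq_zero.1 (by omega)
  · have hi56 : i < 56 := by
      by_contra hc
      rw [patt, Nat.testBit_ofBits_ge _ _ (not_lt.1 hc)] at hi
      exact Bool.false_ne_true hi
    refine List.mem_filter.2 ⟨List.mem_range.2 hi56, ?_⟩
    have hi' : decide (2 ≤ v ⟨i, hi56⟩ % 4) = true := by rw [← testBit_patt]; exact hi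
    have := of_decide_eq_true hi'
    have k := key ⟨i, hi56⟩ (mem_univ _)
    by_contra hb
    rw [if_neg (by simpa using hb)] at k
    have : v ⟨i, hi56⟩ = 0 := mul_self_eq_zero.1 (by omega)
    omega

theorem four_case {v : Z56} (hv : v ∈ span4) (hm : mask v = 0) {u : Fin 56 → ℤ}
    (hu : ∀ i, v i = 2 * u i) (hvals : ∀ i, u i = 0 ∨ u i = 1 ∨ u i = -1) {a b c d : Fin 56}
    (hmemS : ∀ i, u i ≠ 0 ↔ i = a ∨ i = b ∨ i = c ∨ i = d) (h1 : a ≠ b ∧ a ≠ c ∧ a ≠ d)
    (h2 : b ≠ c ∧ b ≠ d) (hcd : c ≠ d) (hle1 : a ≤ b) (hle2 : c ≤ d) : False := by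
  obtain ⟨hab, hac, had⟩ := h1
  obtain ⟨hbc, hbd⟩ := h2
  have hpz : patt v = ((2 ^ a.val ^^^ 2 ^ b.val) ^^^ 2 ^ c.val) ^^^ 2 ^ d.val := by
    refine Nat.eq_of_testBit_eq fun i => ?_
    simp only [Nat.testBit_xor, Nat.testBit_two_pow]
    rcases Nat.lt_or_ge i 56 with hi | hi
    · rw [show i = (⟨i, hi⟩ : Fin 56).val from rfl, testBit_patt]
      have hiff : (2 ≤ v ⟨i, hi⟩ % 4) ↔ u ⟨i, hi⟩ ≠ 0 := by
        rw [hu]
        rcases hvals ⟨i, hi⟩ with e | e | e <;> simp [e]
      rw [show decide (2 ≤ v ⟨i, hi⟩ % 4) = decide ((⟨i, hi⟩ : Fin 56) = a ∨ (⟨i, hi⟩ : Fin 56) = b ∨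
          (⟨i, hi⟩ : Fin 56) = c ∨ (⟨i, hi⟩ : Fin 56) = d) from decide_eq_decide.2 (hiff.trans (hmemS _))]
      have e : ∀ x : Fin 56, decide (x.val = i) = decide ((⟨i, hi⟩ : Fin 56) = x) := fun x => by
        simp [Fin.ext_iff, eq_comm]
      rw [e a, e b, e c, e d]
      by_cases q1 : (⟨i, hi⟩ : Fin 56) = a
      · subst q1; simp [hab, hac, had]
      by_cases q2 : (⟨i, hi⟩ : Fin 56) = b
      · subst q2; simp [q1, hbc, hbd]
      by_cases q3 : (⟨i, hi⟩ : Fin 56) = c
      · subst q3; simp [q1, q2, hcd]
      simp [q1, q2, q3]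
    · rw [patt, Nat.testBit_ofBits_ge _ _ hi]
      have := a.2; have := b.2; have := c.2; have := d.2
      simp [show a.val ≠ i by omega, show b.val ≠ i by omega, show c.val ≠ i by omega,
        show d.val ≠ i by omega]
  have hsat := row_eq hv
  rw [hm] at hsat
  have hcode : pairCode (a.val, b.val) = pairCode (c.val, d.val) := by
    refine List.foldr_ext _ _ _ fun r hr acc => ?_
    obtain ⟨k, hk, rfl⟩ := List.mem_iff_getElem.1 hr
    have hk40 : k < 40 := by
      have : eqRows.length = 40 := by decide +kernel
      omega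
    have hq := hsat k hk40
    rw [List.getD_eq_getElem _ _ hk] at hq
    generalize eqRows[k] = r at hq ⊢
    have hrhs : rhs 0 r = false := by simp [rhs, show pop 0 = 0 by decide +kernel]
    have hbit : ∀ x : Fin 56, par (r.1 &&& 2 ^ x.val) = r.1.testBit x.val := fun x => by
      cases hb : r.1.testBit x.val
      · have : r.1 &&& 2 ^ x.val = 0 := Nat.eq_of_testBit_eq fun i => by
          rw [Nat.testBit_and, Nat.testBit_two_pow, Nat.zero_testBit]
          by_cases hi : x.val = i
          · subst hi; simp [hb]
          · simp [hi]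
        rw [this]; decide +kernel
      · have : r.1 &&& 2 ^ x.val = 2 ^ x.val := Nat.eq_of_testBit_eq fun i => by
          rw [Nat.testBit_and, Nat.testBit_two_pow]
          by_cases hi : x.val = i
          · subst hi; simp [hb]
          · simp [hi]
        rw [this, par_two_pow _ x.2]
    simp only [hrhs, hpz, Nat.and_xor_distrib_left, par_xor, hbit] at hq
    revert hq
    cases r.1.testBit a.val <;> cases r.1.testBit b.val <;> cases r.1.testBit c.val <;>
      cases r.1.testBit d.val <;> simp
  obtain ⟨e1, -⟩ := pairCode_injective (lt_of_le_of_ne (Fin.le_def.1 hle1) (Fin.val_ne_of_ne hab))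
    b.2 (lt_of_le_of_ne (Fin.le_def.1 hle2) (Fin.val_ne_of_ne hcd)) d.2 hcode
  exact hac (Fin.ext e1)

theorem zero_case {v : Z56} (hv : v ∈ span4) (hm : mask v = 0) (h16 : dot v v = 16) :
    ∃ n < NV, vec n = v := by
  have heven : ∀ i, (2 : ℤ) ∣ v i := fun i => by
    have := testBit_mask v i.val
    rw [hm, Nat.zero_testBit, dif_pos i.2] at this
    simp at this
    omega
  choose u hu using heven
  have hu4 : ∑ i, u i * u i = 4 := by
    have : dot v v = 4 * ∑ i, u i * u i := by
      rw [dot, mul_sum]; exact sum_congr rfl fun i _ => by rw [hu i]; ring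
    omega
  have hle : ∀ i, u i * u i ≤ 4 := fun i =>
    hu4 ▸ single_le_sum (fun j _ => mul_self_nonneg (u j)) (mem_univ i)
  have hb : ∀ i, -2 ≤ u i ∧ u i ≤ 2 := fun i => ⟨by nlinarith [hle i], by nlinarith [hle i]⟩
  by_cases hbig : ∃ p, u p = 2 ∨ u p = -2
  · obtain ⟨p, hp⟩ := hbig
    have hrest : ∀ i, i ≠ p → u i = 0 := by
      intro i hi
      have h2 : u p * u p + u i * u i ≤ 4 := by
        rw [← hu4, ← sum_pair (f := fun j => u j * u j) (Ne.symm hi)]
        exact sum_le_sum_of_subset_of_nonneg (subset_univ _) fun j _ _ => mul_self_nonneg _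
      rcases hp with e | e <;> rw [e] at h2 <;> exact mul_self_eq_zero.1 (by nlinarith [mul_self_nonneg (u i)])
    have hok := List.all_eq_true.1 unitsOK_true p.val (List.mem_range.2 p.2)
    simp only [Bool.and_eq_true, Nat.blt, Nat.ble_eq, beq_iff_eq] at hok
    obtain ⟨⟨⟨h1, h2⟩, h3⟩, h4⟩ := hok
    have hmul : mulOf (2 ^ p.val) = 4 := by
      have : ∀ p < 56, mulOf (2 ^ p) = 4 := by decide +kernel
      exact this _ p.2
    rcases hp with e | e
    · refine ⟨_, h1, funext fun i => ?_⟩
      rw [vec, h3, val, hmul, hu i, Nat.testBit_two_pow]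
      by_cases hi : i = p
      · subst hi; simp [e]
      · simp [hrest i hi, Fin.val_ne_of_ne (Ne.symm hi)]
    · refine ⟨_, h2, funext fun i => ?_⟩
      rw [vec, h4, val, hmul, hu i, Nat.testBit_two_pow]
      by_cases hi : i = p
      · subst hi; simp [e]
      · simp [hrest i hi, Fin.val_ne_of_ne (Ne.symm hi)]
  · exfalso
    push Not at hbig
    have hvals : ∀ i, u i = 0 ∨ u i = 1 ∨ u i = -1 := fun i => by
      have := hb i; have := hbig i; omega
    have hc : (univ.filter fun i => u i ≠ 0).card = 4 := by
      have : ∀ i, u i * u i = if u i ≠ 0 then 1 else 0 := fun i => by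
        rcases hvals i with e | e | e <;> simp [e]
      rw [sum_congr rfl fun i _ => this i, sum_boole] at hu4
      exact_mod_cast hu4
    set Sf : Finset (Fin 56) := univ.filter fun i => u i ≠ 0
    obtain ⟨hl, hsorted⟩ : ((Sf.sort (· ≤ ·)).length = 4) ∧ (Sf.sort (· ≤ ·)).Nodup :=
      ⟨by rw [Finset.length_sort, hc], Finset.sort_nodup _ _⟩
    match hL : Sf.sort (· ≤ ·), hl with
    | [a, b, c, d], _ =>
      have hord : [a, b, c, d].Pairwise (· ≤ ·) := hL ▸ Finset.pairwise_sort _ _
      rw [hL] at hsorted
      simp only [List.nodup_cons, List.mem_cons, List.not_mem_nil, or_false, not_or,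
        List.nodup_nil, and_true, not_false_eq_true] at hsorted
      simp only [List.pairwise_cons, List.mem_cons, List.not_mem_nil, or_false, forall_eq_or_imp,
        forall_eq] at hord
      obtain ⟨⟨hab, hac, had⟩, ⟨hbc, hbd⟩, hcd⟩ := hsorted
      have hmemS : ∀ i, i ∈ Sf ↔ i = a ∨ i = b ∨ i = c ∨ i = d := fun i => by
        rw [← Finset.mem_sort (· ≤ ·), hL]; simp
      exact four_case hv hm hu hvals (fun i => by rw [← hmemS]; simp [Sf])
        ⟨hab, hac, had⟩ ⟨hbc, hbd⟩ hcd hord.1.1 hord.2.2.1

theorem eight_case {v : Z56} (hv : v ∈ span4) (hp : pop (mask v) = 8) (h16 : dot v v = 16)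
    (hok : twoSets.all (fun t => eightTest (mask v) (fwd (mask v) 20 (eqsOf (mask v))).2 t) = true) :
    False := by
  let t : ℕ := Nat.ofBits fun i : Fin 56 => (patt v).testBit i.val && !(mask v).testBit i.val
  have htlt : t < 2 ^ 56 := Nat.ofBits_lt_two_pow _
  have htb : ∀ i : Fin 56, t.testBit i.val = ((patt v).testBit i.val && !(mask v).testBit i.val) :=
    fun i => Nat.testBit_ofBits_lt _ _ i.2
  have hge : (pop (mask v) : ℤ) + 4 * (pop t : ℤ) ≤ dot v v := by
    rw [pop_sum, pop_sum, mul_sum, ← sum_add_distrib, dot]
    refine sum_le_sum fun i _ => ?_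
    rw [htb, testBit_patt, testBit_mask, dif_pos i.2, Fin.eta]
    by_cases h1 : v i % 2 = 1
    · simp only [h1, decide_true, Bool.not_true, Bool.and_false, Bool.false_eq_true, if_true, if_false]
      have := sq_ge (x := v i) (by omega)
      omega
    · by_cases h2 : 2 ≤ v i % 4
      · simp only [h1, h2, decide_true, decide_false, Bool.not_false, Bool.and_self, Bool.false_eq_true,
          if_true, if_false]
        have : 2 ≤ v i ∨ v i ≤ -2 := by omega
        rcases this with h | h <;> nlinarith
      · simp only [h1, h2, decide_false, Bool.not_false, Bool.and_true, Bool.false_eq_true, if_false]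
        nlinarith [mul_self_nonneg (v i)]
  have hpt : pop t ≤ 2 := by omega
  have htm : t &&& mask v = 0 := Nat.eq_of_testBit_eq fun i => by
    rw [Nat.testBit_and, Nat.zero_testBit]
    rcases Nat.lt_or_ge i 56 with hi | hi
    · rw [htb ⟨i, hi⟩]; cases (mask v).testBit i <;> simp
    · rw [testBit_mask, dif_neg (by omega), Bool.and_false]
  have := List.all_eq_true.1 hok t (two_or_zero htlt hpt)
  simp only [eightTest, htm, bne_self_eq_false, Bool.false_or, List.any_eq_true,
    Bool.and_eq_true, beq_iff_eq] at this
  obtain ⟨s, hs, hf0, hne⟩ := this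
  have hs' : par ((s >>> 1) &&& patt v) = (s % 2 == 1) :=
    fwd_sound (mask v) 20 _ _ (sat_patt hv) s (List.mem_append_right _ hs)
  have heq : (s >>> 1) &&& patt v = (s >>> 1) &&& t := Nat.eq_of_testBit_eq fun i => by
    have h0 := congrArg (fun x => x.testBit i) (show (s >>> 1) &&& mask v = 0 from hf0)
    simp only [Nat.testBit_and, Nat.zero_testBit] at h0 ⊢
    rcases Nat.lt_or_ge i 56 with hi | hi
    · rw [htb ⟨i, hi⟩]
      revert h0
      cases (s >>> 1).testBit i <;> cases (mask v).testBit i <;> simp
    · rw [patt, Nat.testBit_ofBits_ge _ _ hi,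
        Nat.testBit_lt_two_pow (htlt.trans_le (Nat.pow_le_pow_right (by norm_num) hi))]
  rw [heq] at hs'
  have : (par ((s >>> 1) &&& t) != (s % 2 == 1)) = true := hne
  rw [hs'] at this
  simp at this

/-- Every vector of norm sixteen in the span is in the table. -/
theorem complete {v : Z56} (hv : v ∈ span4) (h16 : dot v v = 16) : ∃ n < NV, vec n = v := by
  have hp : pop (mask v) ≤ 16 := by have := pop_mask_le v; omega
  obtain ⟨e, he, hm⟩ := word_mem hv hp
  have ht := List.all_eq_true.1 words_ok e he
  rw [wordTest, hm] at ht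
  split_ifs at ht with h1 h2
  · simp only [Bool.and_eq_true, List.all_eq_true, Nat.blt, Nat.ble_eq, bne_iff_ne, beq_iff_eq] at ht
    obtain ⟨⟨⟨-, hmul⟩, hlt⟩, heq⟩ := ht
    obtain ⟨hval, hsub⟩ := sixteen_cases (Nat.eq_of_beq_eq_true h1) h16 hmul
    obtain ⟨r, hr, hre⟩ := Option.map_eq_some_iff.1 heq.symm
    have hzm : patt v &&& mask v = patt v := Nat.eq_of_testBit_eq fun i => by
      rw [Nat.testBit_and]
      cases hb : (patt v).testBit i
      · rfl
      · simpa using (List.mem_filter.1 (hsub i hb)).2
    have := solve_sound hzm (Nat.ofBits_lt_two_pow _) (sat_patt hv) hr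
    have h2 : (mask v, patt v) ∈ e.2.map msOf := hre ▸ List.mem_map.2 ⟨_, this, rfl⟩
    obtain ⟨n, hn, hns⟩ := List.mem_map.1 h2
    exact ⟨n, hlt n hn, by rw [vec, hns]; exact hval.symm⟩
  · rcases hx : fwd (mask v) 20 (eqsOf (mask v)) with ⟨pv, rs⟩
    rw [hx] at ht
    exact absurd (eight_case hv (Nat.eq_of_beq_eq_true h2) h16 (by rw [hx]; exact ht)) id
  · exact zero_case hv (Nat.eq_of_beq_eq_true ht) h16

end CfsgLib.Rudvalis
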