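import Cfsg.Agent.Rudvalis.Chain

/-!
The orders of the groups of the chain.
-/

set_option autoImplicit false
set_option maxRecDepth 100000

open Finset

namespace CfsgLib.Rudvalis

open CfsgLib.RuLattice CfsgLib.CosetEnum Cfsg Cfsg.Spor

/-- The group of a level. -/
def G (k : ℕ) : Subgroup fourRu := Subgroup.closure (E '' {l | l ∈ levelGens k})

theorem E_mem_G {k l : ℕ} (h : l ∈ levelGens k) : E l ∈ G k := Subgroup.subset_closure ⟨l, h, rfl⟩

theorem E_linv {l : ℕ} (h : l < 22) : E (linv l) = (E l)⁻¹ := by
  have hh : ∀ l, l % 2 = 0 → l < 22 → E (l + 1) = (E l)⁻¹ := by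
    intro l he hl
    interval_cases l <;> first | omega | (simp [E, E4, E3, E2, E1, byParity, wordOf])
  rcases Nat.mod_two_eq_zero_or_one l with he | he
  · rw [linv, if_pos (by simp [he]), hh l he h]
  · obtain ⟨k, rfl⟩ : ∃ k, l = k + 1 := ⟨l - 1, by omega⟩
    rw [linv, if_neg (by simp [he]), Nat.add_sub_cancel, hh k (by omega) (by omega), inv_inv]

theorem gword_append (u w : List ℕ) : gword E (u ++ w) = gword E u * gword E w := by
  simp [gword]

theorem gword_winv : ∀ w : List ℕ, (∀ l ∈ w, l < 22) → gword E (winv w) = (gword E w)⁻¹ := by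
  intro w
  induction w with
  | nil => intro _; simp [winv, gword]
  | cons l w ih =>
    intro h
    rw [show winv (l :: w) = winv w ++ [linv l] by simp [winv], gword_append,
      ih fun x hx => h x (List.mem_cons_of_mem _ hx)]
    simp only [gword_cons, gword_nil, mul_one, mul_inv_rev, E_linv (h l List.mem_cons_self)]

theorem winv_lt {w : List ℕ} (h : ∀ l ∈ w, l < 22) : ∀ l ∈ winv w, l < 22 := by
  intro l hl
  simp only [winv, List.mem_map, List.mem_reverse] at hl
  obtain ⟨x, hx, rfl⟩ := hl
  have := h x hx
  unfold linv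
  rcases Nat.mod_two_eq_zero_or_one x with he | he <;> simp [he] <;> omega

theorem gens_lt {k l : ℕ} (hl : l ∈ levelGens k) : l < 22 ∧ l % 2 = 0 := by
  rcases Nat.lt_or_ge k 6 with hk | hk
  · have := fix_all k hk
    simp only [fixOK, Bool.and_eq_true, List.all_eq_true, Nat.blt, Nat.ble_eq, beq_iff_eq] at this
    exact (this l hl).1
  · obtain ⟨j, rfl⟩ := Nat.exists_eq_add_of_le hk
    rw [show 6 + j = j + 6 by omega] at hl
    simp [levelGens] at hl

theorem gword_transWord_mem {k i : ℕ} (hk : k < 6) (hi : i < levelSize k) : gword E (transWord k i) ∈ G k := by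
  have := (level_all k hk i hi).1
  simp only [transWordOK, forceN_eq, Bool.and_eq_true, List.all_eq_true, Bool.or_eq_true,
    List.contains_iff_mem, Nat.blt, Nat.ble_eq] at this
  refine gword_mem _ _ fun l hl => ?_
  obtain ⟨h22, h | h⟩ := this.2 l hl
  · exact E_mem_G h
  · rw [show E l = (E (linv l))⁻¹ by rw [E_linv h22, inv_inv]]
    exact inv_mem (E_mem_G h)

theorem transWord_lt {k i : ℕ} (hk : k < 6) (hi : i < levelSize k) : ∀ l ∈ transWord k i, l < 22 := by
  have := (level_all k hk i hi).1
  simp only [transWordOK, forceN_eq, Bool.and_eq_true, List.all_eq_true, Nat.blt, Nat.ble_eq] at this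
  exact fun l hl => (this.2 l hl).1

theorem gens_fix {k : ℕ} (hk : k < 6) {j : ℕ} (hj : j < k) {g : fourRu} (hg : g ∈ G k) : Fixes j g := by
  refine Subgroup.closure_induction ?_ (fixes_one j) (fun _ _ _ _ => Fixes.mul) (fun _ _ => Fixes.inv) hg
  rintro _ ⟨l, hl, rfl⟩ hb
  have := fix_all k hk
  simp only [fixOK, Bool.and_eq_true, List.all_eq_true, List.mem_range, Nat.beq_eq] at this
  rw [real_E l (gens_lt hl).1]
  exact (this l hl).2 j hj

/-- The image of a base point of a transversal element. -/
theorem lab_trans {k i : ℕ} (hk : k < 6) (hi : i < levelSize k) :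
    posAt k (lab k (moved (gword E (transWord k i)) (baseV k)).val) = i := by
  have := (level_all k hk i hi).1
  simp only [transWordOK, forceN_eq, Bool.and_eq_true, Nat.beq_eq] at this
  rw [moved_word _ (transWord_lt hk hi)]
  exact this.1

/-- The product sets. -/
def Prod' : ℕ → ℕ → Set fourRu
  | 0, _ => {1}
  | f + 1, k => {g | ∃ i < levelSize k, ∃ h ∈ Prod' f (k + 1), g = gword E (transWord k i) * h}

/-- The images of the base points. -/
noncomputable def imgsG (k : ℕ) (g : fourRu) : List ℕ := (List.range (6 - k)).map fun j => (moved g (baseV (k + j))).val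

theorem eq_one_of_fixes {g : fourRu} (h : ∀ j < 6, Fixes j g) : g = 1 := by
  refine eq_one_of_fixed fun b hb hlt => ?_
  obtain ⟨j, hj, h1, rfl⟩ : ∃ j, j < 6 ∧ 1 ≤ j ∧ b = basePt j := by
    simp only [basePts, List.mem_cons, List.not_mem_nil, or_false] at hb
    rcases hb with rfl | rfl | rfl | rfl | rfl
    exacts [⟨1, by omega, le_rfl, rfl⟩, ⟨2, by omega, by omega, rfl⟩, ⟨3, by omega, by omega, rfl⟩,
      ⟨4, by omega, by omega, rfl⟩, ⟨5, by omega, by omega, rfl⟩]
  obtain ⟨m, rfl⟩ : ∃ m, j = m + 1 := ⟨j - 1, by omega⟩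
  have := h (m + 1) hj hlt
  rw [lab_succ, lab_succ] at this
  exact Fin.ext this

theorem sift_sound : ∀ (f k : ℕ), k + f = 6 → ∀ g : fourRu, (∀ j < k, Fixes j g) →
    sift f k (imgsG k g) = true → g ∈ Prod' f k := by
  intro f
  induction f with
  | zero =>
    intro k hk g hfix _
    exact eq_one_of_fixes fun j hj => hfix j (by omega)
  | succ f ih =>
    intro k hk g hfix h
    have e : imgsG k g = (moved g (baseV k)).val ::
        (List.range f).map fun j => (moved g (baseV (k + 1 + j))).val := by
      rw [imgsG, show 6 - k = f + 1 by omega, List.range_succ_eq_map, List.map_cons, List.map_map]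
      congr 1
      exact List.map_congr_left fun j _ => by simp [Function.comp, Nat.add_assoc, Nat.add_comm 1 j]
    rw [e, sift, forceN_eq] at h
    simp only [Bool.and_eq_true, mapAct_eq, Nat.blt, Nat.ble_eq, Nat.beq_eq] at h
    obtain ⟨⟨hi, hlab⟩, hs⟩ := h
    set i := posAt k (lab k (moved g (baseV k)).val)
    have hk6 : k < 6 := by omega
    set w := gword E (transWord k i)
    have hw := transWord_lt hk6 hi
    refine ⟨i, hi, w⁻¹ * g, ih (k + 1) (by omega) _ (fun j hj => ?_) ?_, by rw [mul_inv_cancel_left]⟩
    · rcases Nat.lt_succ_iff_lt_or_eq.1 hj with hjk | hjk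
      · exact (gens_fix hk6 hjk (gword_transWord_mem hk6 hi)).inv.mul (hfix j hjk)
      · subst hjk
        intro hb
        rw [show basePt j = (baseV j).val from rfl, ← moved_word _ hw] at hlab
        have e2 := lab_congr w⁻¹ (n := moved g (baseV j)) (m := moved w (baseV j)) hlab.symm
        rw [← moved_mul w⁻¹ w, inv_mul_cancel, moved_one, ← moved_mul] at e2
        exact e2
    · rw [imgsG, show 6 - (k + 1) = f by omega]
      rw [List.map_map] at hs
      convert hs using 2
      refine List.map_congr_left fun j _ => ?_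
      simp only [Function.comp]
      rw [moved_mul, ← gword_winv _ hw, moved_word _ (winv_lt hw)]

theorem prod_fix : ∀ (f k : ℕ), k + f = 6 → ∀ g ∈ Prod' f k, ∀ j < k, Fixes j g := by
  intro f
  induction f with
  | zero => intro k _ g hg j _; rw [Prod', Set.mem_singleton_iff] at hg; rw [hg]; exact fixes_one j
  | succ f ih =>
    rintro k hk _ ⟨i, hi, h, hh, rfl⟩ j hj
    exact (gens_fix (by omega) hj (gword_transWord_mem (by omega) hi)).mul
      (ih (k + 1) (by omega) h hh j (by omega))

theorem sift_complete : ∀ (f k : ℕ), k + f = 6 → ∀ g ∈ Prod' f k, sift f k (imgsG k g) = true := by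
  intro f
  induction f with
  | zero => intro k _ g _; rfl
  | succ f ih =>
    rintro k hk _ ⟨i, hi, h, hh, rfl⟩
    have hk6 : k < 6 := by omega
    set w := gword E (transWord k i)
    have hw := transWord_lt hk6 hi
    have hfx : lab k (moved h (baseV k)).val = lab k (basePt k) :=
      prod_fix f (k + 1) (by omega) h hh k (by omega) _
    have hl : lab k (moved (w * h) (baseV k)).val = lab k (moved w (baseV k)).val := by
      rw [moved_mul]; exact lab_congr w hfx
    have hpos : posAt k (lab k (moved (w * h) (baseV k)).val) = i := by rw [hl]; exact lab_trans hk6 hi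
    rw [imgsG, show 6 - k = f + 1 by omega, List.range_succ_eq_map, List.map_cons, sift, forceN_eq]
    simp only [Nat.add_zero]
    rw [hpos]
    simp only [Bool.and_eq_true, mapAct_eq, Nat.blt, Nat.ble_eq, Nat.beq_eq]
    refine ⟨⟨hi, by rw [hl, moved_word _ hw]; rfl⟩, ?_⟩
    have := ih (k + 1) (by omega) h hh
    rw [imgsG, show 6 - (k + 1) = f by omega] at this
    convert this using 2
    rw [List.map_map, List.map_map]
    refine List.map_congr_left fun j _ => ?_
    simp only [Function.comp]
    rw [← moved_word _ (winv_lt hw), gword_winv _ hw, ← moved_mul, inv_mul_cancel_left,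
      show k + Nat.succ j = k + 1 + j by omega]

theorem deeper_mem : ∀ k < 5, ∀ l ∈ levelGens (k + 1), E l ∈ G k := by
  have hmem : ∀ (k : ℕ) (F : ℕ → fourRu) (w : List ℕ),
      (∀ x ∈ w, (x ∈ levelGens k ∨ linv x ∈ levelGens k) ∧ x < 22 ∧ F x = E x) → gword F w ∈ G k := by
    intro k F w h
    refine gword_mem _ _ fun x hx => ?_
    obtain ⟨hm, h22, he⟩ := h x hx
    rw [he]
    rcases hm with hm | hm
    · exact E_mem_G hm
    · rw [show E x = (E (linv x))⁻¹ by rw [E_linv h22, inv_inv]]
      exact inv_mem (E_mem_G hm)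
  have chk : ∀ p ∈ [(4, 0), (6, 0), (8, 0), (10, 2), (12, 2), (14, 3), (16, 3), (18, 3), (20, 4)],
      ((wordOf p.1).all fun x => ((levelGens p.2).contains x || (levelGens p.2).contains (linv x)) &&
        Nat.blt x (if p.1 < 10 then 4 else if p.1 < 14 then 10 else if p.1 < 20 then 14 else 20)) = true := by
    decide +kernel
  simp only [List.mem_cons, List.not_mem_nil, or_false, forall_eq_or_imp, forall_eq, List.all_eq_true,
    Bool.and_eq_true, Bool.or_eq_true, List.contains_iff_mem, Nat.blt, Nat.ble_eq] at chk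
  obtain ⟨c4, c6, c8, c10, c12, c14, c16, c18, c20⟩ := chk
  norm_num at c4 c6 c8 c10 c12 c14 c16 c18 c20
  intro k hk l hl
  interval_cases k <;> simp only [levelGens, List.mem_cons, List.not_mem_nil, or_false] at hl
  · rcases hl with rfl | rfl | rfl
    · exact (show E 4 = gword E1 (wordOf 4) from rfl) ▸ hmem 0 E1 _ fun x hx =>
        ⟨(c4 x hx).1, by have := (c4 x hx).2; omega, by
          have := (c4 x hx).2; simp [E, E4, E3, E2, show x < 4 by omega, show x < 10 by omega,
            show x < 14 by omega, show x < 20 by omega]⟩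
    · exact (show E 6 = gword E1 (wordOf 6) from rfl) ▸ hmem 0 E1 _ fun x hx =>
        ⟨(c6 x hx).1, by have := (c6 x hx).2; omega, by
          have := (c6 x hx).2; simp [E, E4, E3, E2, show x < 4 by omega, show x < 10 by omega,
            show x < 14 by omega, show x < 20 by omega]⟩
    · exact (show E 8 = gword E1 (wordOf 8) from rfl) ▸ hmem 0 E1 _ fun x hx =>
        ⟨(c8 x hx).1, by have := (c8 x hx).2; omega, by
          have := (c8 x hx).2; simp [E, E4, E3, E2, show x < 4 by omega, show x < 10 by omega,
            show x < 14 by omega, show x < 20 by omega]⟩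
  · rcases hl with rfl | rfl <;> exact E_mem_G (by simp [levelGens])
  · rcases hl with rfl | rfl
    · exact (show E 10 = gword E2 (wordOf 10) from rfl) ▸ hmem 2 E2 _ fun x hx =>
        ⟨(c10 x hx).1, by have := (c10 x hx).2; omega, by
          have := (c10 x hx).2; simp [E, E4, E3, show x < 10 by omega, show x < 14 by omega,
            show x < 20 by omega]⟩
    · exact (show E 12 = gword E2 (wordOf 12) from rfl) ▸ hmem 2 E2 _ fun x hx =>
        ⟨(c12 x hx).1, by have := (c12 x hx).2; omega, by
          have := (c12 x hx).2; simp [E, E4, E3, show x < 10 by omega, show x < 14 by omega,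
            show x < 20 by omega]⟩
  · rcases hl with rfl | rfl | rfl
    · exact (show E 14 = gword E3 (wordOf 14) from rfl) ▸ hmem 3 E3 _ fun x hx =>
        ⟨(c14 x hx).1, by have := (c14 x hx).2; omega, by
          have := (c14 x hx).2; simp [E, E4, show x < 14 by omega, show x < 20 by omega]⟩
    · exact (show E 16 = gword E3 (wordOf 16) from rfl) ▸ hmem 3 E3 _ fun x hx =>
        ⟨(c16 x hx).1, by have := (c16 x hx).2; omega, by
          have := (c16 x hx).2; simp [E, E4, show x < 14 by omega, show x < 20 by omega]⟩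
    · exact (show E 18 = gword E3 (wordOf 18) from rfl) ▸ hmem 3 E3 _ fun x hx =>
        ⟨(c18 x hx).1, by have := (c18 x hx).2; omega, by
          have := (c18 x hx).2; simp [E, E4, show x < 14 by omega, show x < 20 by omega]⟩
  · subst hl
    exact (show E 20 = gword E4 (wordOf 20) from rfl) ▸ hmem 4 E4 _ fun x hx =>
      ⟨(c20 x hx).1, by have := (c20 x hx).2; omega, by
        have := (c20 x hx).2; simp [E, show x < 20 by omega]⟩

theorem G_succ_le {k : ℕ} (hk : k < 6) : G (k + 1) ≤ G k := by
  rw [G, Subgroup.closure_le]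
  rintro _ ⟨l, hl, rfl⟩
  rcases Nat.lt_or_ge k 5 with h5 | h5
  · exact deeper_mem k h5 l hl
  · rw [show k + 1 = 6 by omega] at hl
    simp [levelGens] at hl

theorem prod_eq : ∀ (f k : ℕ), k + f = 6 → Prod' f k = (G k : Set fourRu) := by
  intro f
  induction f with
  | zero =>
    intro k hk
    obtain rfl : k = 6 := by omega
    have : G 6 = ⊥ := by simp [G, levelGens]
    rw [this]
    rfl
  | succ f ih =>
    intro k hk
    have hk6 : k < 6 := by omega
    have hnext := ih (k + 1) (by omega)
    refine Set.Subset.antisymm ?_ fun g hg => ?_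
    · rintro _ ⟨i, hi, h, hh, rfl⟩
      rw [hnext] at hh
      exact mul_mem (gword_transWord_mem hk6 hi) (G_succ_le hk6 hh)
    have hstep : ∀ l ∈ levelGens k, ∀ x ∈ Prod' (f + 1) k, E l * x ∈ Prod' (f + 1) k := by
      rintro l hl _ ⟨i, hi, h, hh, rfl⟩
      have hs := (level_all k hk6 i hi).2
      simp only [schreierOK, List.all_eq_true] at hs
      have hs := hs l hl
      have hw : ∀ x ∈ l :: transWord k i, x < 22 := fun x hx => by
        rcases List.mem_cons.1 hx with rfl | hx
        exacts [(gens_lt hl).1, transWord_lt hk6 hi x hx]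
      have e : imgsW k (l :: transWord k i) = imgsG k (gword E (l :: transWord k i)) :=
        List.map_congr_left fun j _ => (moved_word _ hw (baseV (k + j))).symm
      rw [e, show 6 - k = f + 1 by omega] at hs
      have hfix : ∀ j < k, Fixes j (gword E (l :: transWord k i)) := fun j hj => by
        rw [gword_cons]
        exact gens_fix hk6 hj (mul_mem (E_mem_G hl) (gword_transWord_mem hk6 hi))
      obtain ⟨i', hi', h', hh', e'⟩ := sift_sound (f + 1) k hk _ hfix hs
      refine ⟨i', hi', h' * h, ?_, ?_⟩
      · rw [hnext] at hh hh' ⊢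
        exact mul_mem hh' hh
      · rw [← mul_assoc, ← gword_cons, e', mul_assoc]
    have hfin : (Prod' (f + 1) k).Finite := by
      have : Finite fourRu := Finite.of_injective _ permHom_injective
      exact Set.toFinite _
    have hone : (1 : fourRu) ∈ Prod' (f + 1) k := by
      obtain ⟨i', hi', h', hh', e'⟩ := sift_sound (f + 1) k hk 1 (fun j _ => fixes_one j) (by
        have : ∀ k < 6, sift (6 - k) k (imgsW k []) = true := by decide +kernel
        have h0 := this k hk6
        rw [show 6 - k = f + 1 by omega] at h0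
        convert h0 using 2
        exact List.map_congr_left fun j _ => (moved_word [] (by simp) (baseV (k + j))))
      exact ⟨i', hi', h', hh', e'⟩
    have hleft : ∀ g ∈ G k, ∀ x ∈ Prod' (f + 1) k, g * x ∈ Prod' (f + 1) k := by
      intro g hg
      refine Subgroup.closure_induction (p := fun g _ => ∀ x ∈ Prod' (f + 1) k, g * x ∈ Prod' (f + 1) k)
        ?_ (fun x hx => by rwa [one_mul]) ?_ ?_ hg
      · rintro _ ⟨l, hl, rfl⟩; exact hstep l hl
      · intro u v _ _ hu hv x hx
        rw [mul_assoc]; exact hu _ (hv x hx)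
      · intro u _ hu x hx
        have : (fun y => u * y) '' Prod' (f + 1) k = Prod' (f + 1) k :=
          Set.eq_of_subset_of_ncard_le (Set.image_subset_iff.2 hu)
            (Set.ncard_image_of_injective _ (mul_right_injective u)).ge hfin
        obtain ⟨y, hy, hyx⟩ := this.symm ▸ hx
        rw [← hyx, inv_mul_cancel_left]; exact hy
    simpa using hleft g hg 1 hone

theorem mem_G_iff {k : ℕ} (hk : k < 6) (g : fourRu) :
    g ∈ G k ↔ (∀ j < k, Fixes j g) ∧ sift (6 - k) k (imgsG k g) = true := by
  have e := prod_eq (6 - k) k (by omega)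
  constructor
  · intro h
    exact ⟨fun j hj => gens_fix hk hj h, sift_complete _ k (by omega) g (e ▸ h)⟩
  · intro h
    have := sift_sound _ k (by omega) g h.1 h.2
    rwa [e] at this

theorem card_G_step {k : ℕ} (hk : k < 6) :
    Nat.card (G k) = levelSize k * Nat.card (G (k + 1)) := by
  have e := prod_eq (6 - k - 1 + 1) k (by omega)
  have e1 := prod_eq (6 - k - 1) (k + 1) (by omega)
  rw [← Nat.card_fin (levelSize k), ← Nat.card_prod]
  refine (Nat.card_congr (Equiv.ofBijective (fun p : Fin (levelSize k) × G (k + 1) =>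
    (⟨gword E (transWord k p.1.val) * p.2.1,
      mul_mem (gword_transWord_mem hk p.1.2) (G_succ_le hk p.2.2)⟩ : G k)) ⟨?_, ?_⟩)).symm
  · rintro ⟨i, h⟩ ⟨i', h'⟩ he
    have he' : gword E (transWord k i.val) * h.1 = gword E (transWord k i'.val) * h'.1 :=
      congrArg Subtype.val he
    have hf : ∀ (i : Fin (levelSize k)) (h : G (k + 1)),
        posAt k (lab k (moved (gword E (transWord k i.val) * h.1) (baseV k)).val) = i.val := by
      intro i h
      have hfx : lab k (moved h.1 (baseV k)).val = lab k (basePt k) :=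
        prod_fix (6 - k - 1) (k + 1) (by omega) h.1 ((Set.ext_iff.1 e1 h.1).2 h.2) k (by omega) _
      rw [moved_mul, lab_congr _ (m := baseV k) hfx]
      exact lab_trans hk i.2
    have hi : i = i' := Fin.ext (by rw [← hf i h, he', hf i' h'])
    subst hi
    exact Prod.ext rfl (Subtype.ext (mul_left_cancel he'))
  · rintro ⟨g, hg⟩
    have hg' : g ∈ Prod' (6 - k - 1 + 1) k := e.symm ▸ hg
    obtain ⟨i, hi, h, hh, rfl⟩ := hg'
    exact ⟨⟨⟨i, hi⟩, ⟨h, (Set.ext_iff.1 e1 h).1 hh⟩⟩, rfl⟩

theorem card_G_two : Nat.card (G 2) = 17971200 := by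
  have h6 : Nat.card (G 6) = 1 := by simp [G, levelGens]
  rw [card_G_step (by norm_num), card_G_step (by norm_num), card_G_step (by norm_num),
    card_G_step (by norm_num), h6]
  rfl

theorem card_G_zero : Nat.card (G 0) = 291852288000 := by
  rw [card_G_step (by norm_num), card_G_step (by norm_num), card_G_two]
  rfl

end CfsgLib.Rudvalis
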