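import Cfsg.Agent.Rudvalis.Auto
import Cfsg.Agent.Rudvalis.Codes
import Cfsg.Agent.Rudvalis.MinCases
import Cfsg.Agent.Rudvalis.GenData

/-!
The action of the generating matrices on the table of vectors.
-/

set_option autoImplicit false
set_option maxRecDepth 100000
set_option maxHeartbeats 1000000

open Finset

namespace CfsgLib.Rudvalis

open CfsgLib.RuLattice

/-- An index times the unit. -/
def imulI (n : ℕ) : ℕ := 4 * (n / 4) + (n + 1) % 4

/-- The image of an index under a table. -/
def imgT (T n : ℕ) : ℕ := 4 * (get16 T (n / 4) / 4) + (get16 T (n / 4) + n) % 4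

/-- The image of an index under a letter. -/
def img (l n : ℕ) : ℕ := imgT (tables.getD l 0) n

/-- The image of an index under a word. -/
def act : List ℕ → ℕ → ℕ
  | [], n => n
  | l :: w, n => img l (act w n)

/-- A signed sum over a code. -/
def sumSel : List ℤ → ℕ → ℕ → ℤ
  | [], _, _ => 0
  | e :: E, m, s =>
    forceN (Nat.div m 2) fun m' => forceN (Nat.div s 2) fun s' =>
      forceZ (sumSel E m' s') fun r =>
        if Nat.beq (Nat.land m 1) 1 then Int.add (if Nat.beq (Nat.land s 1) 1 then Int.neg e else e) r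
        else r

theorem imgT_imul (T n : ℕ) : imgT T (imulI n) = imulI (imgT T n) := by
  have h1 : imulI n / 4 = n / 4 := by unfold imulI; omega
  unfold imgT
  rw [h1]
  generalize get16 T (n / 4) = e
  unfold imulI
  omega

theorem act_imul : ∀ (w : List ℕ) (n : ℕ), act w (imulI n) = imulI (act w n)
  | [], _ => rfl
  | l :: w, n => by rw [act, act, act_imul w, img, img, imgT_imul]

theorem imulI_lt {n : ℕ} (h : n < NV) : imulI n < NV := by unfold imulI; simp only [NV] at *; omega

theorem sumSel_eq : ∀ (E : List ℤ) (m s : ℕ), sumSel E m s =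
    ∑ p : Fin E.length, (if m.testBit p.val then (if s.testBit p.val then -E[p] else E[p]) else 0) := by
  intro E
  induction E with
  | nil => intro m s; simp [sumSel]
  | cons e E ih =>
    intro m s
    have hb : ∀ n : ℕ, Nat.beq (Nat.land n 1) 1 = decide (n % 2 = 1) := fun n => by
      rw [show Nat.land n 1 = n % 2 from Nat.and_one_is_mod n, Bool.eq_iff_iff, Nat.beq_eq,
        decide_eq_true_eq]
    rw [sumSel, forceN_eq, forceN_eq, forceZ_eq, ih, show Nat.div m 2 = m / 2 from rfl, show Nat.div s 2 = s / 2 from rfl,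
      hb, hb]
    simp only [List.length_cons, Fin.sum_univ_succ, Fin.getElem_fin, Fin.val_zero, List.getElem_cons_zero,
      Fin.val_succ, List.getElem_cons_succ]
    simp only [Nat.testBit_succ, Nat.testBit_zero]
    rcases Nat.mod_two_eq_zero_or_one m with a | a <;> rcases Nat.mod_two_eq_zero_or_one s with b | b <;>
      simp [a, b] <;> rfl

theorem sum_val {E : List ℤ} (h : E.length = 56) (a : ℕ × ℕ) :
    mulOf a.1 * sumSel E a.1 a.2 = ∑ p : Fin 56, val a.1 a.2 p * E.getD p.val 0 := by
  rw [sumSel_eq, mul_sum]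
  refine sum_bij (fun p _ => ⟨p.val, by omega⟩) (fun _ _ => mem_univ _)
    (fun p _ q _ e => Fin.ext (by simpa [Fin.ext_iff] using e)) (fun q _ => ⟨⟨q.val, by omega⟩, mem_univ _, rfl⟩)
    fun p _ => ?_
  rw [List.getD_eq_getElem _ _ p.2]
  simp only [val, Fin.getElem_fin]
  split_ifs <;> ring

/-- Coding by powers of 64. -/
def enc (x : Z56) : ℤ := ∑ q : Fin 56, x q * 64 ^ q.val

theorem pow64_ok : pow64.length = 56 ∧ ∀ q < 56, pow64.getD q 0 = 64 ^ q := by decide +kernel

theorem enc_eq : ∀ (n : ℕ) (x : Fin n → ℤ), (∀ q, -32 ≤ x q ∧ x q ≤ 32) →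
    ∑ q, x q * 64 ^ q.val = 0 → ∀ q, x q = 0 := by
  intro n
  induction n with
  | zero => intro x _ _ q; exact q.elim0
  | succ n ih =>
    intro x hb h
    have e : ∑ q : Fin n, x q.succ * 64 ^ q.succ.val = 64 * ∑ q : Fin n, x q.succ * 64 ^ q.val := by
      rw [mul_sum]
      exact sum_congr rfl fun q _ => by rw [Fin.val_succ, pow_succ]; ring
    rw [Fin.sum_univ_succ, e, Fin.val_zero, pow_zero, mul_one] at h
    have := hb 0
    have h0 : x 0 = 0 := by omega
    intro q
    refine Fin.cases h0 (fun i => ih (fun j => x j.succ) (fun j => hb _) (by omega) i) q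

theorem enc_injective {x y : Z56} (hx : ∀ q, -16 ≤ x q ∧ x q ≤ 16) (hy : ∀ q, -16 ≤ y q ∧ y q ≤ 16)
    (h : enc x = enc y) : x = y := by
  have := enc_eq 56 (fun q => x q - y q) (fun q => by have := hx q; have := hy q; constructor <;> omega)
    (by simp only [sub_mul, sum_sub_distrib]; exact sub_eq_zero.2 h)
  exact funext fun q => sub_eq_zero.1 (this q)

theorem le_of_dot {x : Z56} (h : dot x x ≤ 256) (q : Fin 56) : -16 ≤ x q ∧ x q ≤ 16 := by
  have h1 : x q * x q ≤ 256 := le_trans
    (single_le_sum (f := fun j => x j * x j) (fun j _ => mul_self_nonneg (x j)) (mem_univ q)) h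
  constructor <;> nlinarith

/-- The units keep the scale. -/
def scaleOK : Bool :=
  (List.range NV).all fun n => mulOf (msOf n).1 == mulOf (repMS (n / 4)).1

theorem scaleOK_true : scaleOK = true := by decide +kernel

/-- Four applications of the unit give the identity. -/
def cycleOK : Bool := (List.range 4060).all fun c => unitMS 4 (repMS c) == repMS c

theorem cycleOK_true : cycleOK = true := by decide +kernel

theorem vec_imulI {n : ℕ} (hn : n < NV) : vec (imulI n) = opT tab_gI (vec n) := by
  simp only [NV] at hn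
  have hs := fun m (hm : m < NV) => beq_iff_eq.1 (List.all_eq_true.1 scaleOK_true m (List.mem_range.2 hm))
  have h1 : imulI n / 4 = n / 4 := by unfold imulI; omega
  have key : msOf (imulI n) = imulMS (msOf n) := by
    rw [msOf, msOf, h1]
    by_cases h3 : n % 4 = 3
    · rw [show imulI n % 4 = 0 by unfold imulI; omega, h3]
      exact (beq_iff_eq.1 (List.all_eq_true.1 cycleOK_true (n / 4) (List.mem_range.2 (by omega)))).symm
    · rw [show imulI n % 4 = n % 4 + 1 by unfold imulI; omega]
      rfl
  rw [vec, key]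
  refine vec_imul _ ?_
  rw [← key, hs _ (imulI_lt hn), hs n hn, h1]

/-- The coded rows of a matrix. -/
def encOK (M : List (List ℤ)) (E : List ℤ) : Bool :=
  E.length == 56 && (List.range 56).all (fun p => E.getD p 0 == dotL (M.getD p []) pow64)

/-- A part of the table of a matrix. -/
def tableFor (E : List ℤ) (l k : ℕ) : Bool :=
  (List.range 145).all fun i =>
    forceN (145 * k + i) fun c =>
    forceN (img l (4 * c)) fun n =>
    forceN (msOf (4 * c)).1 fun a => forceN (msOf (4 * c)).2 fun a' =>
    forceN (msOf n).1 fun b => forceN (msOf n).2 fun b' =>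
      Nat.blt n NV && mulOf a * sumSel E a a' == 4 * (mulOf b * sumSel pow64 b b')

theorem lin_vec {M : List (List ℤ)} {E : List ℤ} {l : ℕ} (hg : gramOK M = true) (hu : unitOK M = true)
    (he : encOK M E = true) (h : ∀ k < 28, tableFor E l k = true) : ∀ n < NV, img l n < NV ∧ lin M (vec n) = fun q => 4 * vec (img l n) q := by
  simp only [encOK, Bool.and_eq_true, List.all_eq_true, List.mem_range, beq_iff_eq] at he
  obtain ⟨hl, hE⟩ := he
  simp only [tableFor, Bool.and_eq_true, List.all_eq_true, List.mem_range, beq_iff_eq, Nat.blt,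
    Nat.ble_eq, forceN_eq] at h
  have hc : ∀ c < 4060, (img l (4 * c)).succ ≤ NV ∧ mulOf (msOf (4 * c)).1 *
      sumSel E (msOf (4 * c)).1 (msOf (4 * c)).2 = 4 * (mulOf (msOf (img l (4 * c))).1 *
        sumSel pow64 (msOf (img l (4 * c))).1 (msOf (img l (4 * c))).2) := fun c hc => by
    have := h (c / 145) (by omega) (c % 145) (by omega)
    rwa [Nat.div_add_mod] at this
  have base : ∀ c < 4060, img l (4 * c) < NV ∧ lin M (vec (4 * c)) = fun q => 4 * vec (img l (4 * c)) q := by
    intro c hlt
    obtain ⟨h1, h2⟩ := hc c hlt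
    refine ⟨h1, ?_⟩
    have h4 : 4 * c < NV := by simp only [NV]; omega
    have d1 : dot (lin M (vec (4 * c))) (lin M (vec (4 * c))) = 256 := by
      rw [dot_lin hg, (table_spec h4).2.2.1]; rfl
    have d2 : dot (fun q => 4 * vec (img l (4 * c)) q) (fun q => 4 * vec (img l (4 * c)) q) = 256 := by
      have := (table_spec h1).2.2.1
      simp only [dot] at this ⊢
      have e : ∀ x : Z56, ∑ q, 4 * x q * (4 * x q) = 16 * ∑ q, x q * x q := fun x => by
        rw [mul_sum]; exact sum_congr rfl fun q _ => by ring
      rw [e, this]; rfl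
    refine enc_injective (le_of_dot d1.le) (le_of_dot d2.le) ?_
    rw [sum_val hl, sum_val pow64_ok.1] at h2
    calc enc (lin M (vec (4 * c))) = ∑ p : Fin 56, vec (4 * c) p * E.getD p.val 0 := by
          simp only [enc, lin, sum_mul]
          rw [sum_comm]
          refine sum_congr rfl fun p _ => ?_
          rw [hE p.val p.2, ← dot_vecL (row_length hg p) pow64_ok.1, dot, mul_sum]
          refine sum_congr rfl fun q _ => ?_
          rw [vecL, vecL, pow64_ok.2 q.val q.2, entry]
          ring
      _ = _ := by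
          refine h2.trans ?_
          rw [enc, mul_sum]
          refine sum_congr rfl fun q _ => ?_
          rw [pow64_ok.2 q.val q.2, vec]
          ring
  intro n hn
  obtain ⟨c, u, hu4, rfl⟩ : ∃ c u, u < 4 ∧ n = 4 * c + u := ⟨n / 4, n % 4, by omega, by omega⟩
  have hc' : c < 4060 := by simp only [NV] at hn; omega
  induction u with
  | zero => exact base c hc'
  | succ u ih =>
    obtain ⟨i1, i2⟩ := ih (by omega) (by omega)
    have e : imulI (4 * c + u) = 4 * c + (u + 1) := by unfold imulI; omega
    rw [← e, vec_imulI (by omega), lin_unit hg hu, i2, img, imgT_imul]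
    refine ⟨imulI_lt i1, ?_⟩
    show opT tab_gI (fun q => 4 * vec (img l (4 * c + u)) q) = _
    rw [← img, vec_imulI i1]
    funext q
    simp only [opT]
    ring

end CfsgLib.Rudvalis
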