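import Cfsg.Agent.Rudvalis.Action
import Cfsg.Agent.CosetEnum.Present

/-!
The chosen elements of the lattice group and their tables.
-/

set_option autoImplicit false
set_option maxRecDepth 100000

open Finset

namespace CfsgLib.Rudvalis

open CfsgLib.RuLattice CfsgLib.CosetEnum Cfsg Cfsg.Spor

/-- The first matrix element. -/
def genA : fourRu := ⟨autoPerm autoA, autoPerm_mem autoA⟩

/-- The second matrix element. -/
def genB : fourRu := ⟨autoPerm autoB, autoPerm_mem autoB⟩

/-- The four first letters. -/
def E1 : ℕ → fourRu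
  | 0 => genA
  | 1 => genA⁻¹
  | 2 => genB
  | 3 => genB⁻¹
  | _ => 1

/-- The word of a derived letter. -/
def wordOf (l : ℕ) : List ℕ := letterWords.getD ((l - 4) / 2) []

/-- A value or its inverse by the parity of a letter. -/
def byParity {G : Type} [Group G] (l : ℕ) (g : G) : G := if l % 2 = 0 then g else g⁻¹

/-- The letters below ten. -/
def E2 (l : ℕ) : fourRu := if l < 4 then E1 l else if l < 10 then byParity l (gword E1 (wordOf l)) else 1

/-- The letters below fourteen. -/
def E3 (l : ℕ) : fourRu := if l < 10 then E2 l else if l < 14 then byParity l (gword E2 (wordOf l)) else 1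

/-- The letters below twenty. -/
def E4 (l : ℕ) : fourRu := if l < 14 then E3 l else if l < 20 then byParity l (gword E3 (wordOf l)) else 1

/-- All letters. -/
def E (l : ℕ) : fourRu := if l < 20 then E4 l else if l < 22 then byParity l (gword E4 (wordOf l)) else 1

/-- The elements realise their tables. -/
def Real (F : ℕ → fourRu) (b : ℕ) : Prop :=
  ∀ l < b, ∀ n : V, (moved (F l) n).val = img l n.val

theorem moved_gword {F : ℕ → fourRu} {b : ℕ} (hF : Real F b) : ∀ (w : List ℕ), (∀ l ∈ w, l < b) → ∀ n : V,
    (moved (gword F w) n).val = act w n.val := by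
  intro w
  induction w with
  | nil => intro _ n; rw [gword_nil, moved_one]; rfl
  | cons l w ih =>
    intro h n
    rw [gword_cons, moved_mul, hF l (h l List.mem_cons_self),
      ih (fun x hx => h x (List.mem_cons_of_mem _ hx))]
    rfl

theorem moved_inv_of {g : fourRu} {f f' : ℕ → ℕ} (h : ∀ n : V, (moved g n).val = f n.val)
    (hf : ∀ n < NV, f' n < NV ∧ f (f' n) = n) (n : V) : (moved g⁻¹ n).val = f' n.val := by
  obtain ⟨h1, h2⟩ := hf n.val n.2
  have e : moved g ⟨f' n.val, h1⟩ = n := Fin.ext ((h _).trans h2)
  conv_lhs => rw [← e, ← moved_mul, inv_mul_cancel, moved_one]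

theorem real_E1 : Real E1 4 := by
  have hAuto : ∀ {M N : List (List ℤ)} (h : autoOK M N = true) (l : ℕ),
      (∀ n < NV, img l n < NV ∧ lin M (vec n) = fun q => 4 * vec (img l n) q) → ∀ n : V,
      (moved ⟨autoPerm h, autoPerm_mem h⟩ n).val = img l n.val := by
    intro M N h l hl n
    obtain ⟨h1, h2⟩ := hl n.val n.2
    have e : moved ⟨autoPerm h, autoPerm_mem h⟩ n = ⟨img l n.val, h1⟩ := by
      refine lv_injective (lat_ext ?_)
      rw [lv_moved, flat_autoPerm, flat_lv, flat_lv]
      funext q
      simp only [quarter, h2]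
      omega
    rw [e]
  intro l hl n
  interval_cases l
  · exact hAuto autoA 0 lin_A n
  · exact moved_inv_of (hAuto autoA 0 lin_A)
      (fun m hm => ⟨(inverse_tables m hm).1, (inverse_tables m hm).2.2.1⟩) n
  · exact hAuto autoB 2 lin_B n
  · exact moved_inv_of (hAuto autoB 2 lin_B)
      (fun m hm => ⟨(inverse_tables m hm).2.1, (inverse_tables m hm).2.2.2⟩) n

/-- The checks of a derived letter and its inverse. -/
def letterOK (b l : ℕ) : Bool :=
  (wordOf l).all (fun x => Nat.blt x b) && Nat.beq (wordOf (l + 1)).length (wordOf l).length &&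
  (List.range 4060).all fun c =>
    forceN (4 * c) fun n =>
      Nat.blt (img (l + 1) n) NV && Nat.beq (act (wordOf l) n) (img l n) &&
        Nat.beq (img l (img (l + 1) n)) n

theorem wordOf_succ {l : ℕ} (hl : l % 2 = 0) (h4 : 4 ≤ l) : wordOf (l + 1) = wordOf l := by
  simp only [wordOf, show (l + 1 - 4) / 2 = (l - 4) / 2 by omega]

theorem real_derived {F : ℕ → fourRu} {b l : ℕ} (hF : Real F b) (h : letterOK b l = true) :
    (∀ n : V, (moved (gword F (wordOf l)) n).val = img l n.val) ∧
    ∀ n : V, (moved (gword F (wordOf l))⁻¹ n).val = img (l + 1) n.val := by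
  simp only [letterOK, Bool.and_eq_true, List.all_eq_true, List.mem_range, forceN_eq, Nat.blt,
    Nat.ble_eq, Nat.beq_eq] at h
  obtain ⟨⟨hw, -⟩, hc⟩ := h
  have key : ∀ n < NV, img (l + 1) n < NV ∧ act (wordOf l) n = img l n ∧ img l (img (l + 1) n) = n := by
    intro n hn
    obtain ⟨c, u, hu4, rfl⟩ : ∃ c u, u < 4 ∧ n = 4 * c + u := ⟨n / 4, n % 4, by omega, by omega⟩
    have hc' : c < 4060 := by simp only [NV] at hn; omega
    induction u with
    | zero =>
      obtain ⟨⟨a, b⟩, d⟩ := hc c hc'
      exact ⟨a, b, d⟩
    | succ u ih =>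
      obtain ⟨a, b, d⟩ := ih (by omega) (by omega)
      have h1 : imulI (4 * c + u) = 4 * c + (u + 1) := by unfold imulI; omega
      have key : ∀ l x, img l (imulI x) = imulI (img l x) := fun l x => imgT_imul _ _
      rw [← h1, key, key, key, act_imul, b, d]
      exact ⟨imulI_lt a, rfl, rfl⟩
  have h0 : ∀ n : V, (moved (gword F (wordOf l)) n).val = img l n.val := fun n => by
    rw [moved_gword hF _ hw n]; exact (key n.val n.2).2.1
  exact ⟨h0, fun n => moved_inv_of h0 (fun m hm => ⟨(key m hm).1, (key m hm).2.2⟩) n⟩

theorem real_stage {F F' : ℕ → fourRu} {b b' : ℕ} (hF : Real F b) (hb : b % 2 = 0) (h4 : 4 ≤ b)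
    (hF' : ∀ l, F' l = if l < b then F l else if l < b' then byParity l (gword F (wordOf l)) else 1)
    (h : ∀ l < b', b ≤ l → l % 2 = 0 → letterOK b l = true) : Real F' b' := by
  intro l hl n
  rw [hF']
  by_cases h1 : l < b
  · rw [if_pos h1]; exact hF l h1 n
  rw [if_neg h1, if_pos hl]
  by_cases h2 : l % 2 = 0
  · rw [byParity, if_pos h2]
    exact (real_derived hF (h l hl (by omega) h2)).1 n
  · rw [byParity, if_neg h2]
    obtain ⟨k, rfl⟩ : ∃ k, l = k + 1 := ⟨l - 1, by omega⟩
    rw [wordOf_succ (by omega) (by omega)]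
    exact (real_derived hF (h k (by omega) (by omega) (by omega))).2 n

theorem letter4 : letterOK 4 4 = true := by decide +kernel
theorem letter6 : letterOK 4 6 = true := by decide +kernel
theorem letter8 : letterOK 4 8 = true := by decide +kernel
theorem letter10 : letterOK 10 10 = true := by decide +kernel
theorem letter12 : letterOK 10 12 = true := by decide +kernel
theorem letter14 : letterOK 14 14 = true := by decide +kernel
theorem letter16 : letterOK 14 16 = true := by decide +kernel
theorem letter18 : letterOK 14 18 = true := by decide +kernel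
theorem letter20 : letterOK 20 20 = true := by decide +kernel

theorem real_E : Real E 22 := by
  have h2 : Real E2 10 := real_stage real_E1 (by norm_num) le_rfl (fun _ => rfl) fun l hl hb he => by
    obtain rfl | rfl | rfl : l = 4 ∨ l = 6 ∨ l = 8 := by omega
    exacts [letter4, letter6, letter8]
  have h3 : Real E3 14 := real_stage h2 (by norm_num) (by norm_num) (fun _ => rfl) fun l hl hb he => by
    obtain rfl | rfl : l = 10 ∨ l = 12 := by omega
    exacts [letter10, letter12]
  have h4 : Real E4 20 := real_stage h3 (by norm_num) (by norm_num) (fun _ => rfl) fun l hl hb he => by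
    obtain rfl | rfl | rfl : l = 14 ∨ l = 16 ∨ l = 18 := by omega
    exacts [letter14, letter16, letter18]
  exact real_stage h4 (by norm_num) (by norm_num) (fun _ => rfl) fun l hl hb he => by
    obtain rfl : l = 20 := by omega
    exact letter20

theorem moved_word (w : List ℕ) (h : ∀ l ∈ w, l < 22) (n : V) : (moved (gword E w) n).val = act w n.val :=
  moved_gword real_E w h n

end CfsgLib.Rudvalis
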