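import Cfsg.Agent.Rudvalis.Derived

/-!
The order of the lattice group and its centre.
-/

set_option autoImplicit false
set_option maxRecDepth 100000

open Finset

namespace CfsgLib.Rudvalis

open CfsgLib.RuLattice CfsgLib.CosetEnum Cfsg Cfsg.Spor

theorem gI_four : gI * (gI * (gI * gI)) = 1 := by decide

/-- Multiplication by the unit. -/
def iPerm : Equiv.Perm ruLattice where
  toFun := ruI
  invFun v := ruI (ruI (ruI v))
  left_inv v := Subtype.ext (by
    show gI • gI • gI • gI • (v : RuVec) = v
    simp only [smul_smul]
    rw [gI_four, one_smul])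
  right_inv v := Subtype.ext (by
    show gI • gI • gI • gI • (v : RuVec) = v
    simp only [smul_smul]
    rw [gI_four, one_smul])

/-- The scalar element. -/
def iElt : fourRu :=
  ⟨iPerm, fun v w => Subtype.ext (smul_add gI (v : RuVec) (w : RuVec)), fun _ => rfl, fun v => by
    show ruNorm (gI • (v : RuVec)) = _
    simp only [ruNorm, Pi.smul_apply, smul_eq_mul, Zsqrtd.norm_mul]
    refine sum_congr rfl fun p _ => ?_
    rw [show gI.norm = 1 by decide, one_mul]⟩

theorem moved_iElt (n : V) : moved iElt n = vImul n := lv_injective (by rw [lv_moved, lv_vImul]; rfl)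

theorem moved_iPow (u : ℕ) (n : V) : (moved (iElt ^ u) n).val = 4 * (n.val / 4) + (n.val + u) % 4 := by
  induction u with
  | zero => rw [pow_zero, moved_one]; omega
  | succ u ih =>
    rw [pow_succ', moved_mul, moved_iElt]
    show imulI _ = _
    rw [ih]; unfold imulI; omega

theorem iElt_comm (g : fourRu) : g * iElt = iElt * g :=
  Subtype.ext (Equiv.ext fun v => g.2.2.1 v)

theorem iElt_not_mem : iElt ∉ G 0 := by
  intro h
  have h2 := ((mem_G_iff (k := 0) (by norm_num) iElt).1 h).2
  have e : imgsG 0 iElt = (List.range 6).map fun j => imulI (basePt j) := by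
    refine List.map_congr_left fun j _ => ?_
    rw [moved_iElt, Nat.zero_add]
    rfl
  have chk : sift 6 0 ((List.range 6).map fun j => imulI (basePt j)) = false := by decide +kernel
  rw [e] at h2
  exact Bool.false_ne_true (chk.symm.trans h2)

/-- The candidates for the image of a base point. -/
def cand (k : ℕ) : List ℕ :=
  (List.range NV).filter fun x =>
    (List.range k).all fun j =>
      Nat.beq (ipI (basePts.getD j 0) x) (ipI (basePts.getD j 0) (basePts.getD k 0))

theorem cand_one : (cand 1).length = 2304 := by decide +kernel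
theorem cand_two : (cand 2).length = 78 := by decide +kernel
theorem cand_three : (cand 3).length = 25 := by decide +kernel
theorem cand_four : (cand 4).length = 8 := by decide +kernel

/-- The fixer of the first base points. -/
def fixer (k : ℕ) : Subgroup fourRu where
  carrier := {g | ∀ j < k, ∀ h : basePts.getD j 0 < NV, moved g ⟨_, h⟩ = ⟨_, h⟩}
  one_mem' := fun _ _ _ => moved_one _
  mul_mem' {g h} hg hh := fun j hj hb => by rw [moved_mul, hh j hj hb, hg j hj hb]
  inv_mem' {g} hg := fun j hj hb => by
    conv_lhs => rw [← hg j hj hb, ← moved_mul, inv_mul_cancel, moved_one]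

theorem fixer_five : Nat.card (fixer 5) = 1 := by
  rw [Subgroup.card_eq_one, eq_bot_iff]
  intro g hg
  refine Subgroup.mem_bot.2 (eq_one_of_fixed fun b hb hlt => ?_)
  obtain ⟨j, hj, rfl⟩ := List.mem_iff_getElem.1 hb
  have := hg j hj (by rw [List.getD_eq_getElem _ _ hj]; exact hlt)
  simp only [List.getD_eq_getElem _ _ hj] at this
  exact this

theorem fixer_step {k : ℕ} (hk : k < 5) :
    Nat.card (fixer k) ≤ (cand k).length * Nat.card (fixer (k + 1)) := by
  classical
  haveI : Finite fourRu := Finite.of_injective _ permHom_injective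
  have hb : basePts.getD k 0 < NV := by
    have : ∀ k < 5, basePts.getD k 0 < NV := by decide +kernel
    exact this k hk
  let b : V := ⟨_, hb⟩
  have hmem : ∀ g : fixer k, (moved g.1 b).val ∈ cand k := by
    intro g
    refine List.mem_filter.2 ⟨List.mem_range.2 (moved g.1 b).2, List.all_eq_true.2 fun j hj => ?_⟩
    rw [List.mem_range] at hj
    have hj' : basePts.getD j 0 < NV := by
      have : ∀ k < 5, basePts.getD k 0 < NV := by decide +kernel
      exact this j (by omega)
    have := ipI_moved g.1 ⟨_, hj'⟩ b
    rw [g.2 j hj hj'] at this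
    exact Nat.beq_eq.mpr this
  let idx : fixer k → Fin (cand k).length := fun g =>
    ⟨(cand k).idxOf (moved g.1 b).val, List.idxOf_lt_length_iff.2 (hmem g)⟩
  have hidx : ∀ g g' : fixer k, idx g = idx g' → moved g.1 b = moved g'.1 b := by
    intro g g' h
    have h' := congrArg Fin.val h
    exact Fin.ext ((List.idxOf_inj (hmem g)).1 h')
  let c : Fin (cand k).length → fixer k := fun i => if h : ∃ g, idx g = i then h.choose else 1
  have hc : ∀ g : fixer k, ((c (idx g))⁻¹ * g : fixer k).1 ∈ fixer (k + 1) := by
    intro g j hj hb'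
    rcases Nat.lt_succ_iff_lt_or_eq.1 hj with h | h
    · exact ((c (idx g))⁻¹ * g : fixer k).2 j h hb'
    · subst h
      have he : ∃ g', idx g' = idx g := ⟨g, rfl⟩
      have : idx (c (idx g)) = idx g := by simp only [c, dif_pos he]; exact he.choose_spec
      have e := hidx _ _ this
      show moved ((c (idx g)).1⁻¹ * g.1) b = b
      rw [moved_mul, ← e, ← moved_mul, inv_mul_cancel, moved_one]
  rw [← Nat.card_fin (cand k).length, ← Nat.card_prod]
  refine Nat.card_le_card_of_injective (fun g => (idx g, (⟨_, hc g⟩ : fixer (k + 1)))) fun g g' h => ?_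
  simp only [Prod.mk.injEq] at h
  obtain ⟨h1, h2⟩ := h
  have h3 := congrArg Subtype.val h2
  simp only [Subgroup.coe_mul, InvMemClass.coe_inv, h1] at h3
  exact Subtype.ext (mul_left_cancel h3)

theorem card_fourRu : Nat.card fourRu = 583704576000 := by
  classical
  haveI : Finite fourRu := Finite.of_injective _ permHom_injective
  refine le_antisymm ?_ ?_
  · have h0 : (cand 0).length = 16240 := by simp [cand, NV]
    have e : Nat.card fourRu = Nat.card (fixer 0) := by
      rw [show fixer 0 = ⊤ from eq_top_iff.2 fun g _ j hj => absurd hj (by omega), Subgroup.card_top]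
    have s0 := fixer_step (k := 0) (by norm_num)
    have s1 := fixer_step (k := 1) (by norm_num)
    have s2 := fixer_step (k := 2) (by norm_num)
    have s3 := fixer_step (k := 3) (by norm_num)
    have s4 := fixer_step (k := 4) (by norm_num)
    rw [h0] at s0; rw [cand_one] at s1; rw [cand_two] at s2; rw [cand_three] at s3
    rw [cand_four] at s4
    simp only [Nat.reduceAdd, fixer_five] at s0 s1 s2 s3 s4
    omega
  · have h2 : (G 0).index ≠ 1 := by
      rw [Ne, Subgroup.index_eq_one]
      exact fun h => iElt_not_mem (h ▸ Subgroup.mem_top _)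
    have h3 := (G 0).card_mul_index
    have h4 : (G 0).index ≠ 0 := Subgroup.index_ne_zero_of_finite
    have : 2 ≤ (G 0).index := by omega
    rw [← h3, card_G_zero]
    calc 583704576000 = 291852288000 * 2 := by norm_num
      _ ≤ 291852288000 * (G 0).index := Nat.mul_le_mul_left _ this

theorem mem_or_mul (g : fourRu) : g ∈ G 0 ∨ iElt * g ∈ G 0 := by
  haveI : Finite fourRu := Finite.of_injective _ permHom_injective
  have h : (G 0).index = 2 := by
    have := (G 0).card_mul_index
    rw [card_G_zero, card_fourRu] at this
    omega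
  by_cases hg : g ∈ G 0
  · exact Or.inl hg
  · refine Or.inr ((Subgroup.mul_mem_iff_of_index_two h).2 ?_)
    simp [iElt_not_mem, hg]

/-- Some generators of the first point stabiliser move every vector outside the first class. -/
theorem moved_by_gens : ((List.range NV).all fun n =>
    Nat.blt n 4 || !(Nat.beq (img 6 n) n) || !(Nat.beq (img 8 n) n)) = true := by decide +kernel

theorem transitive (n : V) : ∃ g : fourRu, moved g (baseV 0) = n := by
  have hc : n.val / 4 < levelSize 0 := by
    have := n.2; simp only [NV] at this; simp only [levelSize]; omega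
  have hw := transWord_lt (k := 0) (by norm_num) hc
  set w := gword E (transWord 0 (n.val / 4))
  have hcl : (moved w (baseV 0)).val / 4 = n.val / 4 := by
    rw [moved_word _ hw]
    have h := reachOK_true
    simp only [reachOK, Bool.and_eq_true, List.all_eq_true, List.mem_range, Nat.beq_eq] at h
    exact (h.2 _ (by simp only [levelSize] at hc; exact hc)).2
  refine ⟨iElt ^ ((n.val % 4 + 4 - (moved w (baseV 0)).val % 4) % 4) * w, Fin.ext ?_⟩
  rw [moved_mul, moved_iPow]
  omega

theorem central_iff {z : fourRu} (hz : z ∈ Subgroup.center fourRu) : ∃ u < 4, z = iElt ^ u := by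
  rw [Subgroup.mem_center_iff] at hz
  have hlt : (moved z (baseV 0)).val < 4 := by
    by_contra hc
    have hfix : ∀ l ∈ levelGens 2, moved (E l) (moved z (baseV 0)) = moved z (baseV 0) := by
      intro l hl
      have h0 : moved (E l) (baseV 0) = baseV 0 := by
        refine Fin.ext ?_
        have := fix_all 2 (by norm_num)
        simp only [fixOK, Bool.and_eq_true, List.all_eq_true, List.mem_range, Nat.beq_eq] at this
        rw [real_E l (gens_lt hl).1]
        exact (this l hl).2 1 (by norm_num)
      rw [← moved_mul, hz (E l), moved_mul, h0]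
    have := List.all_eq_true.1 moved_by_gens _ (List.mem_range.2 (moved z (baseV 0)).2)
    simp only [Bool.or_eq_true, Nat.blt, Nat.ble_eq, Bool.not_eq_true'] at this
    rcases this with (h | h) | h
    · omega
    · have := congrArg Fin.val (hfix 6 (by simp [levelGens]))
      rw [real_E 6 (by norm_num)] at this
      simp [this] at h
    · have := congrArg Fin.val (hfix 8 (by simp [levelGens]))
      rw [real_E 8 (by norm_num)] at this
      simp [this] at h
  set u := (moved z (baseV 0)).val with hu
  refine ⟨u, hlt, ?_⟩
  have h0 : moved z (baseV 0) = moved (iElt ^ u) (baseV 0) :=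
    Fin.ext (by rw [moved_iPow]; show u = 4 * (0 / 4) + (0 + u) % 4; omega)
  refine inv_mul_eq_one.1 (show (iElt ^ u)⁻¹ * z = 1 from eq_one_of_fixed fun b _ hb => ?_) |>.symm
  obtain ⟨g, hg⟩ := transitive ⟨b, hb⟩
  have hcomm : ∀ g : fourRu, g * ((iElt ^ u)⁻¹ * z) = ((iElt ^ u)⁻¹ * z) * g := fun g => by
    have h1 : Commute g (iElt ^ u)⁻¹ := (Commute.pow_right (iElt_comm g) u).inv_right
    have h2 : Commute g z := hz g
    exact h1.mul_right h2
  rw [← hg, ← moved_mul, ← hcomm, moved_mul, moved_mul (iElt ^ u)⁻¹, h0, ← moved_mul (iElt ^ u)⁻¹,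
    inv_mul_cancel, moved_one]

theorem card_center : Nat.card (Subgroup.center fourRu) = 4 := by
  rw [← Nat.card_fin 4]
  refine (Nat.card_congr (Equiv.ofBijective (fun u : Fin 4 =>
    (⟨iElt ^ u.val, Subgroup.mem_center_iff.2 fun g => (Commute.pow_right (iElt_comm g) u.val).eq⟩ :
      Subgroup.center fourRu)) ⟨fun u v h => ?_, fun z => ?_⟩)).symm
  · have := congrArg (fun g : fourRu => (moved g (baseV 0)).val) (congrArg Subtype.val h)
    simp only [moved_iPow] at this
    refine Fin.ext ?_
    have hb : (baseV 0).val = 0 := rfl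
    omega
  · obtain ⟨u, hu, e⟩ := central_iff z.2
    exact ⟨⟨u, hu⟩, Subtype.ext e.symm⟩

theorem card_Ru : Nat.card Spor.Ru = 145926144000 := by
  have := (Subgroup.center fourRu).card_eq_card_quotient_mul_card_subgroup
  rw [card_fourRu, card_center] at this
  show Nat.card (fourRu ⧸ Subgroup.center fourRu) = _
  omega

end CfsgLib.Rudvalis
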