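import Cfsg.Agent.Rudvalis.OutCent
import Cfsg.Agent.Eq.Def_KGroupFacts

/-!
Every automorphism of the Rudvalis group is inner.
-/

set_option autoImplicit false
set_option maxRecDepth 100000

namespace CfsgLib.Rudvalis

open CfsgLib.RuLattice CfsgLib.CosetEnum Cfsg Cfsg.Spor

/-- The three elements and their inverses as words. -/
def sixW (X W S : List ℕ) : ℕ → List ℕ
  | 0 => X
  | 1 => W
  | 2 => S
  | 3 => winv X
  | 4 => winv W
  | _ => winv S

/-- The three elements and their inverses. -/
def six {G : Type} [Group G] (X W S : G) : ℕ → G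
  | 0 => X
  | 1 => W
  | 2 => S
  | 3 => X⁻¹
  | 4 => W⁻¹
  | _ => S⁻¹

theorem map_six {G H : Type} [Group G] [Group H] (f : G →* H) (X W S : G) (k : ℕ) :
    f (six X W S k) = six (f X) (f W) (f S) k := by
  rcases k with _ | _ | _ | _ | _ | k <;> simp [six]

/-- The class in the group of a word. -/
noncomputable def bar (w : List ℕ) : Spor.Ru := QuotientGroup.mk (gword E w)

theorem bar_append (u w : List ℕ) : bar (u ++ w) = bar u * bar w := by
  rw [bar, gword_append, QuotientGroup.mk_mul]; rfl

theorem bar_nil : bar [] = 1 := by rw [bar, gword_nil, QuotientGroup.mk_one]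

theorem bar_six {X W S : List ℕ} (hX : ∀ l ∈ X, l < 22) (hW : ∀ l ∈ W, l < 22) (hS : ∀ l ∈ S, l < 22)
    (k : ℕ) : bar (sixW X W S k) = six (bar X) (bar W) (bar S) k := by
  have hinv : ∀ u : List ℕ, (∀ l ∈ u, l < 22) → bar (winv u) = (bar u)⁻¹ := fun u hu => by
    rw [bar, gword_winv u hu, QuotientGroup.mk_inv]; rfl
  rcases k with _ | _ | _ | _ | _ | k
  exacts [rfl, rfl, rfl, hinv X hX, hinv W hW, hinv S hS]

theorem bar_eval {X W S : List ℕ} (hX : ∀ l ∈ X, l < 22) (hW : ∀ l ∈ W, l < 22) (hS : ∀ l ∈ S, l < 22)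
    (wd : List ℕ) : bar (wd.flatMap (sixW X W S)) = gword (six (bar X) (bar W) (bar S)) wd := by
  induction wd with
  | nil => exact bar_nil
  | cons k wd ih => rw [List.flatMap_cons, bar_append, bar_six hX hW hS, ih, gword_cons]

theorem sixW_lt {X W S : List ℕ} (hX : ∀ l ∈ X, l < 22) (hW : ∀ l ∈ W, l < 22) (hS : ∀ l ∈ S, l < 22)
    (wd : List ℕ) : ∀ l ∈ wd.flatMap (sixW X W S), l < 22 := by
  intro l hl
  obtain ⟨k, -, hk⟩ := List.mem_flatMap.1 hl
  rcases k with _ | _ | _ | _ | _ | k
  exacts [hX l hk, hW l hk, hS l hk, winv_lt hX l hk, winv_lt hW l hk, winv_lt hS l hk]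

/-- A relation as a word. -/
def relWord (r : ℕ) : List ℕ :=
  (List.replicate (autRels.getD r ([], 0)).2 (autRels.getD r ([], 0)).1).flatten

/-- The candidate for the images. -/
def candWords (j i : ℕ) : ℕ → List ℕ := sixW (List.replicate (j + 1) 0) wWord (centY.getD i [])

/-- The facts about the chosen elements. -/
def setupOK : Bool :=
  (wWord ++ sWord).all (fun l => Nat.blt l 22) &&
    (List.range 28).all (fun i => (centY.getD i []).all fun l => Nat.blt l 22) &&
    sameUnit (wWord ++ [0]) (List.replicate 4 0 ++ wWord) &&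
    sameUnit yWord (wWord ++ wWord ++ wWord ++ wWord) &&
    sameUnit (sWord ++ yWord) (yWord ++ sWord) &&
    sameUnit (List.replicate 7 yWord).flatten [] &&
    sameUnit (genWord.flatMap (sixW [0] wWord sWord)) [2] &&
    Nat.blt autKeep 28 && sameUnit sWord (centY.getD autKeep []) &&
    (List.range 2).all fun r => sameUnit ((relWord r).flatMap (sixW [0] wWord sWord)) []

theorem setupOK_true : setupOK = true := by decide +kernel

/-- Every other candidate fails a relation. -/
def failOK : Bool :=
  (List.range 56).all fun c =>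
    Nat.beq c autKeep ||
      forceN (autWitness.getD c (0, 0)).2 fun p => Nat.blt p NV &&
        !(Nat.beq (act ((relWord (autWitness.getD c (0, 0)).1).flatMap (candWords (c / 28) (c % 28))) p / 4)
          (p / 4))

theorem failOK_true : failOK = true := by decide +kernel

/-- The witnesses name listed relations. -/
theorem witness_lt : ∀ c < 56, c ≠ autKeep → (autWitness.getD c (0, 0)).1 < 2 := by decide +kernel

/-- The order of the second element in the cover. -/
theorem y_pow_seven : gword E yWord ^ 7 = 1 := by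
  have hlt := yWord_lt
  have chk : (basePts.all fun b => Nat.beq (powAct yWord 7 b) b) = true := by decide +kernel
  refine eq_one_of_fixed fun b hb hlt' => Fin.ext ?_
  rw [moved_pow_word hlt]
  exact Nat.eq_of_beq_eq_true (List.all_eq_true.1 chk b hb)

theorem moved_class_of_mk_one {g : fourRu} (h : (QuotientGroup.mk g : Spor.Ru) = 1) (n : V) :
    (moved g n).val / 4 = n.val / 4 := by
  obtain ⟨u, -, rfl⟩ := central_iff ((QuotientGroup.eq_one_iff g).1 h)
  rw [moved_iPow]
  omega

/-- Elements commuting in the group commute in the cover, for an element of odd order. -/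
theorem commute_lift {a g : fourRu} {o : ℕ} (ha : a ^ o = 1) (ho : Nat.Coprime o 4)
    (h : (QuotientGroup.mk (g * a) : Spor.Ru) = QuotientGroup.mk (a * g)) : g * a = a * g := by
  have : Finite fourRu := Finite.of_injective _ permHom_injective
  have hz : (a * g)⁻¹ * (g * a) ∈ Subgroup.center fourRu := QuotientGroup.eq.1 h.symm
  set z := (a * g)⁻¹ * (g * a) with hzdef
  have hz4 : z ^ 4 = 1 := by
    have := pow_card_eq_one' (G := Subgroup.center fourRu) (x := ⟨z, hz⟩)
    rw [card_center] at this
    exact congrArg Subtype.val this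
  have hc : Commute a z := Subgroup.mem_center_iff.1 hz a
  have e : g * a * g⁻¹ = a * z := by
    have e1 : a * g * z = g * a := mul_inv_cancel_left (a * g) (g * a)
    have e2 : g * z = z * g := Subgroup.mem_center_iff.1 hz g
    rw [← e1, mul_assoc a g z, e2, ← mul_assoc, mul_inv_cancel_right]
  have e3 : z ^ o = 1 := by
    have := congrArg (fun t => t ^ o) e
    simp only [conj_pow, ha, mul_one, mul_inv_cancel, hc.mul_pow, one_mul] at this
    exact this.symm
  have hz1 : z = 1 := by
    have := pow_gcd_eq_one.2 ⟨e3, hz4⟩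
    rwa [ho.gcd_eq_one, pow_one] at this
  exact ((inv_mul_eq_one.1 (hzdef.symm.trans hz1))).symm

theorem bar_x : bar [0] ^ 29 = 1 := by
  have : (QuotientGroup.mk (E 0) : Spor.Ru) ^ 29 = 1 := pow29 0 (by simp [levelGens])
  simpa [bar, gword] using this

theorem bar_x_ne : bar [0] ≠ 1 := by
  intro h
  have := moved_class_of_mk_one h (baseV 0)
  rw [moved_word _ (by simp)] at this
  revert this
  decide +kernel

theorem orderOf_bar_x : orderOf (bar [0]) = 29 := by
  have : Fact (Nat.Prime 29) := ⟨by norm_num⟩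
  exact orderOf_eq_prime bar_x bar_x_ne

/-- An element of order 29 is conjugate to a power of the first generator. -/
theorem conj_pow_x {u : Spor.Ru} (hu : orderOf u = 29) :
    ∃ g : Spor.Ru, ∃ k : ℕ, g * u * g⁻¹ = bar [0] ^ k := by
  have : Finite fourRu := Finite.of_injective _ permHom_injective
  have : Finite Spor.Ru := Quotient.finite _
  have : Fact (Nat.Prime 29) := ⟨by norm_num⟩
  have hp : ∀ v : Spor.Ru, orderOf v = 29 → IsPGroup 29 (Subgroup.zpowers v) := fun v hv =>
    IsPGroup.of_card (n := 1) (by rw [Nat.card_zpowers, hv, pow_one])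
  obtain ⟨P, hP⟩ := (hp _ orderOf_bar_x).exists_le_sylow
  obtain ⟨Q, hQ⟩ := (hp _ hu).exists_le_sylow
  have hPX : (P : Subgroup Spor.Ru) = Subgroup.zpowers (bar [0]) := by
    refine (Subgroup.eq_of_le_of_card_ge hP ?_).symm
    obtain ⟨n, hn⟩ := P.2.exists_card_eq
    have hd := Subgroup.card_subgroup_dvd_card (P : Subgroup Spor.Ru)
    rw [hn, card_Ru] at hd
    rw [hn, Nat.card_zpowers, orderOf_bar_x]
    rcases n with _ | _ | n
    · norm_num
    · norm_num
    · exfalso
      have : 29 * 29 ∣ 145926144000 := (Dvd.intro_left (29 ^ n) (by ring)).trans hd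
      norm_num at this
  obtain ⟨g, hg⟩ := MulAction.exists_smul_eq Spor.Ru Q P
  have hm : g * u * g⁻¹ ∈ (P : Subgroup Spor.Ru) := by
    rw [← hg, Sylow.coe_subgroup_smul]
    exact Subgroup.smul_mem_pointwise_smul u (MulAut.conj g) _ (hQ (Subgroup.mem_zpowers u))
  rw [hPX] at hm
  obtain ⟨k, hk, e⟩ : ∃ k, k < orderOf (bar [0]) ∧ bar [0] ^ k = g * u * g⁻¹ := by
    have := (mem_powers_iff_mem_zpowers (x := bar [0])).2 hm
    obtain ⟨k, hk⟩ := this
    exact ⟨k % orderOf (bar [0]), Nat.mod_lt _ (orderOf_pos _), by rw [pow_mod_orderOf]; exact hk⟩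
  exact ⟨g, k, e.symm⟩

theorem wx_rel (hw : ∀ l ∈ wWord, l < 22)
    (hs : sameUnit (wWord ++ [0]) (List.replicate 4 0 ++ wWord) = true) :
    bar wWord * bar [0] = bar [0] ^ 4 * bar wWord := by
  have e := mk_eq_of_sameUnit (u := wWord ++ [0]) (v := List.replicate 4 0 ++ wWord)
    (fun l hl => (List.mem_append.1 hl).elim (hw l) (fun h => by simp at h; omega))
    (fun l hl => (List.mem_append.1 hl).elim (fun h => by rw [List.eq_of_mem_replicate h]; norm_num) (hw l)) hs
  have e' : bar (wWord ++ [0]) = bar (List.replicate 4 0 ++ wWord) := e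
  rw [bar_append, bar_append] at e'
  rw [e']
  congr 1

theorem conj_pow_iter {G : Type} [Group G] {x w : G} (h : w * x = x ^ 4 * w) :
    ∀ m k : ℕ, w ^ m * x ^ k * (w ^ m)⁻¹ = x ^ (4 ^ m * k) := by
  have h1 : ∀ k : ℕ, w * x ^ k * w⁻¹ = x ^ (4 * k) := fun k => by
    rw [← conj_pow, show w * x * w⁻¹ = x ^ 4 by rw [h, mul_inv_cancel_right], ← pow_mul]
  intro m
  induction m with
  | zero => intro k; simp
  | succ m ih =>
    intro k
    rw [pow_succ', mul_inv_rev, show w * w ^ m * x ^ k * ((w ^ m)⁻¹ * w⁻¹) =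
      w * (w ^ m * x ^ k * (w ^ m)⁻¹) * w⁻¹ by group, ih, h1]
    ring_nf

theorem card_Out : Nat.card (Cfsg.Out Spor.Ru) = 1 := by
  have hset := setupOK_true
  simp only [setupOK, Bool.and_eq_true, List.all_eq_true, List.mem_range, Nat.blt, Nat.ble_eq,
    List.mem_append] at hset
  obtain ⟨⟨⟨⟨⟨⟨⟨⟨⟨hws, hcy⟩, hwx⟩, hyw⟩, hsy⟩, -⟩, hgen⟩, hkeep⟩, hskeep⟩, hrel⟩ := hset
  have hw : ∀ l ∈ wWord, l < 22 := fun l hl => hws l (Or.inl hl)
  have hs : ∀ l ∈ sWord, l < 22 := fun l hl => hws l (Or.inr hl)
  have h0 : ∀ l ∈ [0], l < 22 := by simp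
  set X := bar [0] with hX
  set W := bar wWord with hW
  set S := bar sWord with hS
  set Y := bar yWord with hY
  have hWX : W * X = X ^ 4 * W := wx_rel hw hwx
  have hYW : Y = W ^ 4 := by
    have e : bar yWord = bar (wWord ++ wWord ++ wWord ++ wWord) := mk_eq_of_sameUnit yWord_lt
      (fun l hl => by simp only [List.mem_append] at hl; rcases hl with ((h | h) | h) | h <;> exact hw l h) hyw
    rw [hY, e, bar_append, bar_append, bar_append]
    simp [pow_succ, mul_assoc, hW]
  have hSY : S * Y = Y * S := by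
    have e : bar (sWord ++ yWord) = bar (yWord ++ sWord) := mk_eq_of_sameUnit
      (fun l hl => (List.mem_append.1 hl).elim (hs l) (yWord_lt l))
      (fun l hl => (List.mem_append.1 hl).elim (yWord_lt l) (hs l)) hsy
    rwa [bar_append, bar_append] at e
  have hB : gword (six X W S) genWord = bar [2] := by
    rw [hX, hW, hS, ← bar_eval h0 hw hs]
    exact mk_eq_of_sameUnit (sixW_lt h0 hw hs _) (by simp) hgen
  have hgens : Subgroup.closure ({X, W, S} : Set Spor.Ru) = ⊤ := by
    rw [eq_top_iff, ← G_zero_map_top, G, MonoidHom.map_closure, Subgroup.closure_le]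
    rintro _ ⟨_, ⟨l, hl, rfl⟩, rfl⟩
    simp only [levelGens, Set.mem_ofPred_eq, List.mem_cons, List.not_mem_nil, or_false] at hl
    rcases hl with rfl | rfl
    · refine Subgroup.subset_closure (Set.mem_insert_iff.2 (Or.inl ?_))
      simp [hX, bar, gword]
    · have e : (QuotientGroup.mk' (Subgroup.center fourRu)) (E 2) = gword (six X W S) genWord := by
        rw [hB]; simp [bar, gword]
      rw [SetLike.mem_coe, e]
      refine gword_mem _ _ fun k _ => ?_
      have hmem : ∀ v ∈ ({X, W, S} : Set Spor.Ru), v ∈ Subgroup.closure ({X, W, S} : Set Spor.Ru) :=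
        fun v hv => Subgroup.subset_closure hv
      rcases k with _ | _ | _ | _ | _ | k
      exacts [hmem X (by simp), hmem W (by simp), hmem S (by simp), inv_mem (hmem X (by simp)),
        inv_mem (hmem W (by simp)), inv_mem (hmem S (by simp))]
  have hX29 : X ^ 29 = 1 := bar_x
  have key : ∀ φ : MulAut Spor.Ru, ∃ g : Spor.Ru, MulAut.conj g * φ = 1 := by
    intro φ
    obtain ⟨g₀, k, hk⟩ := conj_pow_x (u := φ X) (by rw [MulEquiv.orderOf_eq, orderOf_bar_x])
    have hk0 : k % 29 ≠ 0 := by
      intro h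
      have : g₀ * φ X * g₀⁻¹ = 1 := by
        rw [hk, ← pow_mod_orderOf, orderOf_bar_x, h, pow_zero]
      rw [mul_inv_eq_one, mul_eq_left, map_eq_one_iff φ φ.injective] at this
      exact bar_x_ne this
    obtain ⟨m, j, hj, hmj⟩ : ∃ m j, j < 2 ∧ (4 ^ m * k) % 29 = j + 1 := by
      have chk : ∀ r < 29, r ≠ 0 → ∃ m < 14, ∃ j < 2, 4 ^ m * r % 29 = j + 1 := by decide +kernel
      obtain ⟨m, -, j, hj, e⟩ := chk (k % 29) (Nat.mod_lt _ (by norm_num)) hk0
      exact ⟨m, j, hj, by rw [← e, Nat.mul_mod_mod]⟩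
    set φ₁ := MulAut.conj (W ^ m * g₀) * φ with hφ₁
    have h1X : φ₁ X = X ^ (j + 1) := by
      rw [hφ₁, MulAut.mul_apply, MulAut.conj_apply, mul_inv_rev,
        show W ^ m * g₀ * φ X * (g₀⁻¹ * (W ^ m)⁻¹) = W ^ m * (g₀ * φ X * g₀⁻¹) * (W ^ m)⁻¹ by group,
        hk, conj_pow_iter hWX, ← hmj, ← orderOf_bar_x, pow_mod_orderOf]
    -- the image of the second element
    have h1W : ∃ e < 29, φ₁ W = W * X ^ e := by
      have h := congrArg φ₁ hWX
      rw [map_mul, map_mul, map_pow, h1X, ← pow_mul] at h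
      -- the conjugation by the image multiplies exponents by four
      have hconj : φ₁ W * X * (φ₁ W)⁻¹ = X ^ 4 := by
        obtain ⟨i, hi⟩ : ∃ i, ((j + 1) * i) % 29 = 1 := by
          interval_cases j
          exacts [⟨1, rfl⟩, ⟨15, rfl⟩]
        have hXi : X = X ^ ((j + 1) * i) := by
          rw [← pow_mod_orderOf X ((j + 1) * i), orderOf_bar_x, hi, pow_one]
        conv_lhs => rw [hXi, pow_mul, ← conj_pow, h, mul_inv_cancel_right, ← pow_mul]
        rw [show (j + 1) * 4 * i = (j + 1) * i * 4 by ring, pow_mul, ← hXi]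
      have hc : W⁻¹ * φ₁ W * X = X * (W⁻¹ * φ₁ W) := by
        have e1 : φ₁ W * X = X ^ 4 * φ₁ W := by rw [← hconj, inv_mul_cancel_right]
        have e2 : W⁻¹ * X ^ 4 = X * W⁻¹ := by
          rw [inv_mul_eq_iff_eq_mul, ← mul_assoc, hWX, mul_inv_cancel_right]
        rw [mul_assoc, e1, ← mul_assoc, e2, mul_assoc]
      obtain ⟨g, hg⟩ := QuotientGroup.mk_surjective (W⁻¹ * φ₁ W)
      have hcomm : g * gword E [0] = gword E [0] * g := by
        refine commute_lift (o := 29) ?_ (by norm_num) ?_
        · have key : (basePts.all fun b => Nat.beq (powAct [0] 29 b) b) = true := by decide +kernel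
          refine eq_one_of_fixed fun b hb hlt => Fin.ext ?_
          rw [moved_pow_word (by simp)]
          exact Nat.eq_of_beq_eq_true (List.all_eq_true.1 key b hb)
        · rw [QuotientGroup.mk_mul, QuotientGroup.mk_mul, hg]; exact hc
      obtain ⟨e, he, hge⟩ := cent_X hcomm
      refine ⟨e, he, ?_⟩
      have e3 : W⁻¹ * φ₁ W = X ^ e := by
        rw [← hg, hge, hX, bar, ← QuotientGroup.mk_pow]
        congr 1
        simp [gword, List.map_replicate, List.prod_replicate]
      rw [← e3, mul_inv_cancel_left]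
    obtain ⟨e, he, h1W⟩ := h1W
    obtain ⟨f, hf⟩ : ∃ f, (21 * f + e) % 29 = 0 := by
      have chk : ∀ e < 29, ∃ f < 29, (21 * f + e) % 29 = 0 := by decide +kernel
      obtain ⟨f, -, hf⟩ := chk e he
      exact ⟨f, hf⟩
    set φ₂ := MulAut.conj (X ^ f) * φ₁ with hφ₂
    have h2X : φ₂ X = X ^ (j + 1) := by
      rw [hφ₂, MulAut.mul_apply, h1X, MulAut.conj_apply, ← pow_add, Nat.add_comm, pow_add,
        mul_inv_cancel_right]
    have h2W : φ₂ W = W := by
      have hfw : X ^ f * W = W * X ^ (22 * f) := by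
        have := conj_pow_iter hWX 1 (22 * f)
        rw [pow_one, show 4 ^ 1 * (22 * f) = 29 * (3 * f) + f by ring, pow_add, pow_mul X 29, hX29, one_pow,
          one_mul, mul_inv_eq_iff_eq_mul] at this
        exact this.symm
      rw [hφ₂, MulAut.mul_apply, h1W, MulAut.conj_apply, ← mul_assoc (X ^ f) W, hfw, mul_assoc, mul_assoc,
        mul_eq_left, ← mul_assoc, ← pow_add, mul_inv_eq_one, ← pow_mod_orderOf X (22 * f + e),
        ← pow_mod_orderOf X f, orderOf_bar_x]
      congr 1
      omega
    have h2Y : φ₂ Y = Y := by rw [hYW, map_pow, h2W]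
    obtain ⟨i, hi, h2S⟩ : ∃ i < 28, φ₂ S = bar (centY.getD i []) := by
      obtain ⟨g, hg⟩ := QuotientGroup.mk_surjective (φ₂ S)
      have hc := congrArg φ₂ hSY
      rw [map_mul, map_mul, h2Y, ← hg] at hc
      have hcomm : g * gword E yWord = gword E yWord * g :=
        commute_lift y_pow_seven (by norm_num) (by rw [QuotientGroup.mk_mul, QuotientGroup.mk_mul]; exact hc)
      obtain ⟨i, hi, e⟩ := cent_Y hcomm
      exact ⟨i, hi, hg.symm.trans e⟩
    -- the relations leave one candidate
    have hcw : ∀ l ∈ centY.getD i [], l < 22 := hcy i hi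
    have hXj : bar (List.replicate (j + 1) 0) = X ^ (j + 1) := by
      rw [hX, bar, bar, ← QuotientGroup.mk_pow]
      congr 1
      simp [gword, List.map_replicate, List.prod_replicate]
    have hrep : ∀ l ∈ List.replicate (j + 1) 0, l < 22 := fun l hl => by
      rw [List.eq_of_mem_replicate hl]; norm_num
    have hc : 28 * j + i = autKeep := by
      by_contra hne
      have hlt : 28 * j + i < 56 := by omega
      have hfail := List.all_eq_true.1 failOK_true _ (List.mem_range.2 hlt)
      have hr := witness_lt _ hlt hne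
      simp only [Bool.or_eq_true, Nat.beq_eq, forceN_eq, Bool.and_eq_true, Nat.blt, Nat.ble_eq,
        Bool.not_eq_true', show (28 * j + i) / 28 = j by omega, show (28 * j + i) % 28 = i by omega] at hfail
      rcases hfail with h | ⟨hp, hmv⟩
      · exact hne h
      set r := (autWitness.getD (28 * j + i) (0, 0)).1
      have horig : gword (six X W S) (relWord r) = 1 := by
        rw [hX, hW, hS, ← bar_eval h0 hw hs, ← bar_nil]
        exact mk_eq_of_sameUnit (sixW_lt h0 hw hs _) (by simp) (hrel r hr)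
      have himg : bar ((relWord r).flatMap (candWords j i)) = 1 := by
        rw [candWords, bar_eval hrep hw hcw, hXj, ← h2X, ← hW, ← h2S]
        conv_lhs => rw [← h2W]
        rw [show six (φ₂ X) (φ₂ W) (φ₂ S) = fun k => φ₂.toMonoidHom (six X W S k) from
          funext fun k => (map_six φ₂.toMonoidHom X W S k).symm]
        rw [show gword (fun k => φ₂.toMonoidHom (six X W S k)) (relWord r) =
          φ₂.toMonoidHom (gword (six X W S) (relWord r)) by
            rw [gword, gword, map_list_prod, List.map_map]; rfl, horig, map_one]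
      have hcl := moved_class_of_mk_one himg ⟨_, hp⟩
      simp only [candWords] at hcl hmv
      rw [moved_word _ (sixW_lt hrep hw hcw _)] at hcl
      exact Bool.false_ne_true (hmv.symm.trans (Nat.beq_eq.mpr hcl))
    have hlt : autKeep < 28 := hkeep
    obtain rfl : j = 0 := by omega
    obtain rfl : i = autKeep := by omega
    refine ⟨X ^ f * (W ^ m * g₀), ?_⟩
    have hφ : MulAut.conj (X ^ f * (W ^ m * g₀)) * φ = φ₂ := by rw [hφ₂, hφ₁, map_mul, mul_assoc]
    rw [hφ]
    have hS' : φ₂ S = S := by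
      rw [h2S]
      exact (mk_eq_of_sameUnit hs hcw hskeep).symm
    have hom : φ₂.toMonoidHom = MonoidHom.id Spor.Ru := by
      refine MonoidHom.eq_of_eqOn_dense hgens ?_
      rintro z (rfl | rfl | rfl)
      exacts [h2X.trans (pow_one X), h2W, hS']
    exact MulEquiv.ext fun z => DFunLike.congr_fun hom z
  have : Subsingleton (Cfsg.Out Spor.Ru) := by
    refine ⟨fun q r => ?_⟩
    have one : ∀ q : Cfsg.Out Spor.Ru, q = 1 := by
      intro q
      induction q using QuotientGroup.induction_on with
      | H φ =>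
        obtain ⟨g, hg⟩ := key φ
        rw [QuotientGroup.eq_one_iff]
        have e : φ = MulAut.conj g⁻¹ := by
          rw [map_inv]; exact eq_inv_of_mul_eq_one_right hg
        exact ⟨g⁻¹, e.symm⟩
    rw [one q, one r]
  exact Nat.card_of_subsingleton 1

end CfsgLib.Rudvalis
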