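import Mathlib

/-!
The chosen elements for the automorphisms of the Rudvalis group.
-/

set_option autoImplicit false
set_option maxRecDepth 100000

namespace CfsgLib.Rudvalis

/-- The word of the element of order fourteen normalising the first. -/
def wWord : List ℕ := [0, 0, 2, 2, 2, 0, 3, 0, 4, 6, 9, 7, 9, 9, 6, 6, 11, 12, 12, 10, 16, 14, 18, 20]

/-- The word of the element of order seven. -/
def yWord : List ℕ := [2, 2, 0, 3, 3, 0, 4, 8, 8, 11, 12, 12, 11, 16, 18]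

/-- The word of the third element. -/
def sWord : List ℕ := [0, 3, 1, 2, 2, 0, 6, 8, 7, 8, 10, 13, 10, 18, 14]

/-- The classes of the centraliser of the element of order seven. -/
def centY : List (List ℕ) := [
    [], [3, 0, 2, 5, 6, 6, 6, 8, 10, 12, 12, 14, 18, 20],
    [0, 3, 1, 2, 2, 0, 6, 8, 7, 8, 10, 13, 10, 18, 14],
    [2, 2, 0, 3, 3, 0, 4, 8, 8, 11, 12, 12, 11, 16, 18],
    [1, 1, 2, 0, 2, 0, 9, 7, 8, 8, 13, 10, 12, 18, 15, 18],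
    [2, 0, 3, 1, 2, 2, 1, 3, 5, 9, 7, 9, 7, 13, 13, 11, 19, 21],
    [0, 3, 3, 0, 3, 3, 0, 5, 9, 6, 8, 7, 9, 9, 6, 13, 13, 14],
    [3, 0, 2, 0, 3, 1, 2, 5, 7, 8, 6, 6, 8, 7, 10, 19, 14, 20],
    [0, 3, 3, 0, 2, 1, 1, 5, 8, 6, 8, 8, 6, 10, 12, 18, 15, 20],
    [1, 2, 2, 1, 2, 2, 1, 9, 7, 7, 9, 6, 8, 8, 8, 10, 16, 15, 18],
    [0, 2, 0, 3, 0, 3, 0, 4, 4, 6, 9, 7, 7, 8, 13, 13, 19, 14, 20],
    [0, 2, 2, 0, 3, 0, 2, 5, 6, 8, 7, 7, 7, 9, 12, 12, 12, 16, 14],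
    [3, 1, 2, 0, 0, 4, 8, 8, 8, 7, 8, 8, 12, 12, 16, 19, 14, 20, 20],
    [3, 0, 3, 3, 3, 3, 4, 4, 8, 8, 7, 9, 7, 7, 13, 11, 12, 16, 14, 18],
    [3, 0, 3, 1, 2, 1, 6, 9, 9, 9, 7, 9, 7, 7, 12, 11, 13, 16, 14, 18],
    [0, 0, 0, 3, 3, 3, 4, 9, 6, 8, 6, 9, 6, 13, 13, 10, 16, 14, 18, 21],
    [0, 3, 3, 1, 2, 1, 2, 4, 7, 9, 7, 8, 8, 8, 10, 12, 12, 16, 14, 21],
    [3, 3, 0, 0, 2, 1, 3, 4, 6, 9, 6, 9, 7, 8, 13, 11, 16, 19, 20, 20],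
    [3, 3, 1, 1, 2, 2, 1, 6, 9, 7, 8, 8, 7, 9, 13, 11, 12, 11, 15, 18, 20],
    [0, 3, 1, 2, 1, 1, 4, 7, 9, 7, 7, 9, 9, 7, 10, 12, 12, 11, 16, 18, 15],
    [0, 2, 1, 2, 1, 2, 1, 4, 8, 6, 9, 6, 8, 12, 11, 13, 11, 16, 18, 15, 20],
    [2, 1, 1, 3, 1, 3, 0, 9, 6, 9, 6, 9, 7, 11, 12, 12, 11, 16, 19, 15, 21],
    [2, 1, 1, 3, 1, 2, 0, 5, 7, 7, 8, 7, 7, 9, 7, 10, 12, 12, 15, 18, 20],
    [2, 2, 2, 0, 3, 0, 3, 5, 7, 9, 7, 8, 6, 9, 6, 12, 12, 10, 16, 15, 18, 20],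
    [0, 0, 3, 0, 2, 0, 0, 2, 5, 8, 8, 6, 6, 8, 6, 6, 11, 13, 10, 13, 10, 18],
    [3, 1, 2, 0, 3, 0, 0, 0, 9, 6, 6, 6, 6, 8, 7, 10, 13, 10, 12, 14, 14, 21],
    [3, 3, 1, 1, 1, 1, 3, 0, 7, 9, 6, 6, 8, 6, 6, 13, 10, 12, 12, 16, 15, 18, 20],
    [0, 0, 2, 2, 2, 0, 3, 0, 5, 9, 6, 6, 6, 6, 6, 13, 10, 13, 10, 16, 15, 18, 21]]

/-- The second generator as a word in the three elements and their inverses. -/
def genWord : List ℕ := [5, 0, 1, 1, 1, 0, 5, 0, 5, 1, 3, 3, 2, 0, 2, 3, 2, 3, 3, 2, 0, 1, 1]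

/-- Two relations. -/
def autRels : List (List ℕ × ℕ) := [([0, 2], 15), ([0, 0, 1, 1, 2], 7)]

/-- A failing relation and a moved point for each candidate. -/
def autWitness : List (ℕ × ℕ) := [
    (0, 0), (0, 0), (2, 0), (0, 0), (0, 0), (0, 0), (0, 0), (0, 0), (0, 0), (0, 0), (0, 0), (0, 80),
    (0, 0), (0, 0), (0, 0), (0, 0), (0, 0), (0, 0), (0, 0), (0, 0), (0, 0), (0, 0), (0, 0), (0, 0), (0, 0),
    (0, 0), (0, 0), (0, 0), (0, 0), (0, 0), (0, 0), (0, 0), (0, 0), (0, 0), (0, 0), (0, 0), (0, 0), (0, 0),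
    (0, 0), (0, 0), (1, 0), (0, 0), (0, 0), (0, 0), (0, 0), (0, 0), (0, 0), (0, 0), (0, 0), (0, 0), (0, 0),
    (0, 0), (0, 0), (0, 0), (0, 0), (0, 0)]

/-- The candidate kept. -/
def autKeep : ℕ := 2

end CfsgLib.Rudvalis
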