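import Cfsg.Agent.Rudvalis.Classes
import Cfsg.Agent.Rudvalis.OutData

/-!
Centralisers of two elements of orders 29 and 7 in the lattice group.
-/

set_option autoImplicit false
set_option maxRecDepth 100000

open Finset

namespace CfsgLib.Rudvalis

open CfsgLib.RuLattice CfsgLib.CosetEnum Cfsg Cfsg.Spor

/-- Iterated action of a word. -/
def powAct (a : List ℕ) : ℕ → ℕ → ℕ
  | 0, x => x
  | e + 1, x => forceN (powAct a e x) fun y => act a y

/-- The possible images of a point under the centraliser fixing the earlier points. -/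
def candC (a : List ℕ) (o : ℕ) (pts : List ℕ) (k : ℕ) : List ℕ :=
  (List.range NV).filter fun v =>
    if Nat.beq k 0 then
      (List.range (o / 2)).all fun e =>
        Nat.beq (ipI v (powAct a (e + 1) v)) (ipI (pts.getD k 0) (powAct a (e + 1) (pts.getD k 0)))
    else
      (List.range k).all fun j => (List.range o).all fun e =>
        forceN (powAct a e (pts.getD j 0)) fun z => Nat.beq (ipI z v) (ipI z (pts.getD k 0))

/-- The points used for the first element. -/
def ptsX : List ℕ := [0, 1, 80, 177, 86, 3506]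

/-- The points used for the second element. -/
def ptsY : List ℕ := [8, 9, 0, 177, 86, 80, 3506]

theorem candX0 : (candC [0] 29 ptsX 0).length = 116 := by decide +kernel

theorem candX_rest : ∀ k < 5, (candC [0] 29 ptsX (k + 1)).length = 1 := by decide +kernel

theorem candY0 : (candC yWord 7 ptsY 0).length = 112 := by decide +kernel

theorem candY_rest : ∀ k < 6, (candC yWord 7 ptsY (k + 1)).length = 1 := by decide +kernel

theorem moved_pow_word {a : List ℕ} (ha : ∀ l ∈ a, l < 22) (e : ℕ) (n : V) :
    (moved (gword E a ^ e) n).val = powAct a e n.val := by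
  induction e with
  | zero => rw [pow_zero, moved_one]; rfl
  | succ e ih => rw [pow_succ', moved_mul, moved_word _ ha, powAct, forceN_eq, ih]

/-- The elements commuting with a given one and fixing the earlier points. -/
def centFix (a : fourRu) (pts : List ℕ) (k : ℕ) : Subgroup fourRu where
  carrier := {g | g * a = a * g ∧ ∀ j < k, ∀ h : pts.getD j 0 < NV, moved g ⟨_, h⟩ = ⟨_, h⟩}
  one_mem' := ⟨by simp, fun _ _ _ => moved_one _⟩
  mul_mem' {g h} hg hh :=
    ⟨by rw [mul_assoc, hh.1, ← mul_assoc, hg.1, mul_assoc],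
      fun j hj hb => by rw [moved_mul, hh.2 j hj hb, hg.2 j hj hb]⟩
  inv_mem' {g} hg :=
    ⟨(Commute.inv_left (hg.1 : Commute g a)).eq, fun j hj hb => by
      conv_lhs => rw [← hg.2 j hj hb, ← moved_mul, inv_mul_cancel, moved_one]⟩

theorem centFix_step {a : List ℕ} (ha : ∀ l ∈ a, l < 22) (o : ℕ) {pts : List ℕ}
    (hpts : ∀ j, pts.getD j 0 < NV) (k : ℕ) :
    Nat.card (centFix (gword E a) pts k) ≤
      (candC a o pts k).length * Nat.card (centFix (gword E a) pts (k + 1)) := by
  classical
  have : Finite fourRu := Finite.of_injective _ permHom_injective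
  let b : V := ⟨_, hpts k⟩
  have hmem : ∀ g : centFix (gword E a) pts k, (moved g.1 b).val ∈ candC a o pts k := by
    intro g
    have hpow : ∀ (e : ℕ) (n : V), (moved g.1 (moved (gword E a ^ e) n)).val =
        powAct a e (moved g.1 n).val := by
      intro e n
      rw [← moved_word_pow_comm g.2.1 e n, moved_pow_word ha]
    refine List.mem_filter.2 ⟨List.mem_range.2 (moved g.1 b).2, ?_⟩
    by_cases hk : k = 0
    · rw [if_pos (by rw [hk]; rfl), List.all_eq_true]
      intro e _
      refine Nat.beq_eq.mpr ?_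
      rw [← hpow (e + 1) b, ipI_moved, moved_pow_word ha]
    · rw [if_neg (fun h => hk (Nat.eq_of_beq_eq_true h)), List.all_eq_true]
      intro j hj
      rw [List.mem_range] at hj
      rw [List.all_eq_true]
      intro e _
      rw [forceN_eq]
      refine Nat.beq_eq.mpr ?_
      have h1 : powAct a e (pts.getD j 0) = (moved g.1 (moved (gword E a ^ e) ⟨_, hpts j⟩)).val := by
        rw [hpow, g.2.2 j hj (hpts j)]
      have h2 : powAct a e (pts.getD j 0) = (moved (gword E a ^ e) ⟨_, hpts j⟩).val :=
        (moved_pow_word ha e ⟨pts.getD j 0, hpts j⟩).symm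
      conv_lhs => rw [h1, ipI_moved]
      rw [h2]
  let idx : centFix (gword E a) pts k → Fin (candC a o pts k).length := fun g =>
    ⟨(candC a o pts k).idxOf (moved g.1 b).val, List.idxOf_lt_length_iff.2 (hmem g)⟩
  have hidx : ∀ g g', idx g = idx g' → moved g.1 b = moved g'.1 b := by
    intro g g' h
    exact Fin.ext ((List.idxOf_inj (hmem g)).1 (congrArg Fin.val h))
  let c : Fin (candC a o pts k).length → centFix (gword E a) pts k := fun i =>
    if h : ∃ g, idx g = i then h.choose else 1
  have hc : ∀ g : centFix (gword E a) pts k,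
      ((c (idx g))⁻¹ * g : centFix (gword E a) pts k).1 ∈ centFix (gword E a) pts (k + 1) := by
    intro g
    refine ⟨((c (idx g))⁻¹ * g : centFix (gword E a) pts k).2.1, fun j hj hb' => ?_⟩
    rcases Nat.lt_succ_iff_lt_or_eq.1 hj with h | h
    · exact ((c (idx g))⁻¹ * g : centFix (gword E a) pts k).2.2 j h hb'
    · subst h
      have he : ∃ g', idx g' = idx g := ⟨g, rfl⟩
      have : idx (c (idx g)) = idx g := by simp only [c, dif_pos he]; exact he.choose_spec
      have e := hidx _ _ this
      show moved ((c (idx g)).1⁻¹ * g.1) b = b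
      rw [moved_mul, ← e, ← moved_mul, inv_mul_cancel, moved_one]
  rw [← Nat.card_fin (candC a o pts k).length, ← Nat.card_prod]
  refine Nat.card_le_card_of_injective
    (fun g => (idx g, (⟨_, hc g⟩ : centFix (gword E a) pts (k + 1)))) fun g g' h => ?_
  simp only [Prod.mk.injEq] at h
  obtain ⟨h1, h2⟩ := h
  have h3 := congrArg Subtype.val h2
  simp only [Subgroup.coe_mul, InvMemClass.coe_inv, h1] at h3
  exact Subtype.ext (mul_left_cancel h3)
where
  /-- A commuting element commutes with the powers. -/
  moved_word_pow_comm {g x : fourRu} (h : g * x = x * g) (e : ℕ) (n : V) :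
      moved (x ^ e) (moved g n) = moved g (moved (x ^ e) n) := by
    rw [← moved_mul, ← moved_mul, ((Commute.pow_right (h : Commute g x) e).eq)]

theorem centFix_last {a : fourRu} {pts : List ℕ} (h : ∀ b ∈ basePts, b ∈ pts) :
    Nat.card (centFix a pts pts.length) = 1 := by
  rw [Subgroup.card_eq_one, eq_bot_iff]
  intro g hg
  refine Subgroup.mem_bot.2 (eq_one_of_fixed fun b hb hlt => ?_)
  obtain ⟨j, hj, rfl⟩ := List.mem_iff_getElem.1 (h b hb)
  have := hg.2 j hj (by rw [List.getD_eq_getElem _ _ hj]; exact hlt)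
  simp only [List.getD_eq_getElem _ _ hj] at this
  exact this

theorem cent_bound {a : List ℕ} (ha : ∀ l ∈ a, l < 22) (o : ℕ) {pts : List ℕ}
    (hpts : ∀ j, pts.getD j 0 < NV) (hbase : ∀ b ∈ basePts, b ∈ pts) {m : ℕ}
    (h0 : (candC a o pts 0).length = m) (hrest : ∀ k, k + 1 < pts.length → (candC a o pts (k + 1)).length = 1)
    (hne : pts ≠ []) : Nat.card (centFix (gword E a) pts 0) ≤ m := by
  have key : ∀ d k, k + d = pts.length → 1 ≤ k → Nat.card (centFix (gword E a) pts k) ≤ 1 := by
    intro d
    induction d with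
    | zero => intro k hk _; rw [show k = pts.length by omega, centFix_last hbase]
    | succ d ih =>
      intro k hk h1
      refine (centFix_step ha o hpts k).trans ?_
      obtain ⟨j, rfl⟩ : ∃ j, k = j + 1 := ⟨k - 1, by omega⟩
      rw [hrest j (by omega), one_mul]
      exact ih (j + 1 + 1) (by omega) (by omega)
  have hl : 0 < pts.length := List.length_pos_of_ne_nil hne
  refine (centFix_step ha o hpts 0).trans ?_
  rw [h0]
  exact (Nat.mul_le_mul_left m (key (pts.length - 1) 1 (by omega) le_rfl)).trans (Nat.mul_one m).le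

/-- Two words agree up to the listed power of the unit. -/
def sameUnit (u v : List ℕ) : Bool :=
  (List.range 4).any fun j => basePts.all fun b =>
    forceN (act v b) fun z => Nat.beq (act u b) (4 * (z / 4) + (z + j) % 4)

theorem mk_eq_of_sameUnit {u v : List ℕ} (hu : ∀ l ∈ u, l < 22) (hv : ∀ l ∈ v, l < 22)
    (h : sameUnit u v = true) :
    (QuotientGroup.mk (gword E u) : Spor.Ru) = QuotientGroup.mk (gword E v) := by
  simp only [sameUnit, List.any_eq_true, List.all_eq_true, forceN_eq, Nat.beq_eq] at h
  obtain ⟨j, -, hj⟩ := h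
  have e : gword E u = iElt ^ j * gword E v := by
    refine (inv_mul_eq_one.1 (eq_one_of_fixed fun b hb hlt => ?_)).symm
    have e' : moved (gword E u) ⟨b, hlt⟩ = moved (iElt ^ j * gword E v) ⟨b, hlt⟩ := Fin.ext (by
      rw [moved_word _ hu, moved_mul, moved_iPow, moved_word _ hv]
      exact hj b hb)
    rw [moved_mul, e', ← moved_mul, inv_mul_cancel, moved_one]
  rw [e, QuotientGroup.mk_mul, (QuotientGroup.eq_one_iff (iElt ^ j)).2
    (Subgroup.mem_center_iff.2 fun g => (Commute.pow_right (iElt_comm g) j).eq), one_mul]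

/-- The listed elements commute with a word and move the first point to distinct classes. -/
def centListOK (a : List ℕ) (p : ℕ) (cs : List (List ℕ)) : Bool :=
  cs.all (fun c => c.all (fun l => Nat.blt l 22) &&
    basePts.all fun b => Nat.beq (act (c ++ a) b) (act (a ++ c) b)) &&
  decide ((cs.map fun c => act c p / 4).Nodup)

theorem cent_list {a : List ℕ} (ha : ∀ l ∈ a, l < 22) {pts : List ℕ} {m : ℕ} {cs : List (List ℕ)}
    (hp : pts.getD 0 0 < NV) (hle : Nat.card (centFix (gword E a) pts 0) ≤ m) (hm : m = 4 * cs.length)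
    (hcs : centListOK a (pts.getD 0 0) cs = true) {g : fourRu} (hg : g * gword E a = gword E a * g) :
    ∃ i, i < cs.length ∧ (QuotientGroup.mk g : Spor.Ru) = QuotientGroup.mk (gword E (cs.getD i [])) := by
  have : Finite fourRu := Finite.of_injective _ permHom_injective
  simp only [centListOK, Bool.and_eq_true, List.all_eq_true, Nat.blt, Nat.ble_eq, Nat.beq_eq,
    decide_eq_true_eq] at hcs
  obtain ⟨hc, hnd⟩ := hcs
  have hmem : ∀ (u : Fin 4) (i : Fin cs.length), iElt ^ u.val * gword E (cs[i.val]'i.2) ∈
      centFix (gword E a) pts 0 := by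
    intro u i
    obtain ⟨hlt, hb⟩ := hc _ (List.getElem_mem i.2)
    refine mul_mem ⟨((Commute.pow_right (iElt_comm (gword E a)) u.val).symm).eq,
      fun j hj => absurd hj (by omega)⟩ ⟨?_, fun j hj => absurd hj (by omega)⟩
    have hca : ∀ x ∈ cs[i.val]'i.2 ++ a, x < 22 := fun x hx =>
      (List.mem_append.1 hx).elim (fun h => hlt x h) (ha x)
    have hac : ∀ x ∈ a ++ cs[i.val]'i.2, x < 22 := fun x hx =>
      (List.mem_append.1 hx).elim (ha x) (fun h => hlt x h)
    rw [← gword_append, ← gword_append]
    refine (inv_mul_eq_one.1 (eq_one_of_fixed fun b hb' hlt' => ?_)).symm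
    have e' : moved (gword E (cs[i.val]'i.2 ++ a)) ⟨b, hlt'⟩ = moved (gword E (a ++ cs[i.val]'i.2)) ⟨b, hlt'⟩ :=
      Fin.ext (by rw [moved_word _ hca, moved_word _ hac]; exact hb b hb')
    rw [moved_mul, e', ← moved_mul, inv_mul_cancel, moved_one]
  let f : Fin 4 × Fin cs.length → centFix (gword E a) pts 0 := fun p => ⟨_, hmem p.1 p.2⟩
  have hfi : Function.Injective f := by
    rintro ⟨u, i⟩ ⟨v, j⟩ h
    have h' := congrArg (fun z : centFix (gword E a) pts 0 => (moved z.1 ⟨pts.getD 0 0, hp⟩).val) h
    simp only [f, moved_mul, moved_iPow,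
      moved_word _ (hc _ (List.getElem_mem i.2)).1, moved_word _ (hc _ (List.getElem_mem j.2)).1] at h'
    have hl : ∀ k : Fin cs.length, k.val < (cs.map fun c => act c (pts.getD 0 0) / 4).length := fun k => by
      rw [List.length_map]; exact k.2
    have e4 : (cs.map fun c => act c (pts.getD 0 0) / 4)[i.val]'(hl i) =
        (cs.map fun c => act c (pts.getD 0 0) / 4)[j.val]'(hl j) := by
      rw [List.getElem_map, List.getElem_map]; omega
    obtain rfl : i = j := Fin.ext (hnd.getElem_inj_iff.1 e4)
    have hu := u.2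
    have hv := v.2
    refine Prod.ext (Fin.ext ?_) rfl
    dsimp only at h' ⊢
    omega
  have hb := hfi.bijective_of_nat_card_le (by
    rw [Nat.card_prod, Nat.card_fin, Nat.card_fin, ← hm]; exact hle)
  obtain ⟨⟨u, i⟩, e⟩ := hb.2 ⟨g, hg, fun j hj => absurd hj (by omega)⟩
  refine ⟨i.val, i.2, ?_⟩
  have e' : g = iElt ^ u.val * gword E (cs[i.val]'i.2) := (congrArg Subtype.val e).symm
  rw [List.getD_eq_getElem _ _ i.2, e', QuotientGroup.mk_mul, (QuotientGroup.eq_one_iff (iElt ^ u.val)).2
    (Subgroup.mem_center_iff.2 fun g => (Commute.pow_right (iElt_comm g) u.val).eq), one_mul]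

/-- The powers of the first element as words. -/
def centX : List (List ℕ) := (List.range 29).map fun e => List.replicate e 0

theorem centX_ok : centListOK [0] 0 centX = true := by decide +kernel

theorem centY_ok : centListOK yWord 8 centY = true ∧ centY.length = 28 ∧
    yWord.all (fun l => Nat.blt l 22) = true := by decide +kernel

theorem yWord_lt : ∀ l ∈ yWord, l < 22 := by
  simpa [Nat.blt, List.all_eq_true] using centY_ok.2.2

theorem cent_X {g : fourRu} (hg : g * gword E [0] = gword E [0] * g) :
    ∃ e, e < 29 ∧ (QuotientGroup.mk g : Spor.Ru) = QuotientGroup.mk (gword E (List.replicate e 0)) := by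
  have hpts : ∀ j, ptsX.getD j 0 < NV := fun j => by
    rcases j with _ | _ | _ | _ | _ | _ | j <;> simp [ptsX, NV]
  have hle := cent_bound (a := [0]) (by simp) 29 hpts (by decide +kernel) candX0
    (fun k hk => candX_rest k (by simp [ptsX] at hk; omega)) (by simp [ptsX])
  obtain ⟨i, hi, e⟩ := cent_list (by simp) (hpts 0) hle (by simp [centX]) centX_ok hg
  have hi' : i < 29 := by simpa [centX] using hi
  refine ⟨i, hi', e.trans ?_⟩
  simp [centX, List.getD, hi']

theorem cent_Y {g : fourRu} (hg : g * gword E yWord = gword E yWord * g) :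
    ∃ i, i < 28 ∧ (QuotientGroup.mk g : Spor.Ru) = QuotientGroup.mk (gword E (centY.getD i [])) := by
  have hpts : ∀ j, ptsY.getD j 0 < NV := fun j => by
    rcases j with _ | _ | _ | _ | _ | _ | _ | j <;> simp [ptsY, NV]
  have hle := cent_bound (a := yWord) yWord_lt 7 hpts (by decide +kernel) candY0
    (fun k hk => candY_rest k (by simp [ptsY] at hk; omega)) (by simp [ptsY])
  obtain ⟨i, hi, e⟩ := cent_list yWord_lt (hpts 0) hle (by rw [centY_ok.2.1]) centY_ok.1 hg
  exact ⟨i, centY_ok.2.1 ▸ hi, e⟩

end CfsgLib.Rudvalis
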